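import Groth.Agent.AlgSpBoot.SpaceRel
import Groth.Agent.AlgSpc.CoverTest2

/-!
Points with the same image in the quotient by a groupoid are joined by an arrow fppf locally.
-/

set_option autoImplicit false
set_option linter.style.haveILetI false
set_option backward.isDefEq.respectTransparency false

universe u

open CategoryTheory CategoryTheory.Limits AlgebraicGeometry

namespace Groth.Agent.AlgSpBoot

open _root_.AlgSp Groth.Agent.AlgSpc Groth.Agent.AlgSpLoc

variable {S : Scheme.{u}}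

/-- Factoring through a monomorphism of sheaves is fppf local. -/
theorem exists_factor_of_local {K F : Sp S} (m : K ⟶ F) [Mono m] {T T' : Over S} (f : (yon S).obj T ⟶ F)
    (c : T' ⟶ T) [Flat c.left] [LocallyOfFinitePresentation c.left] [Surjective c.left]
    (k' : (yon S).obj T' ⟶ K) (h : k' ≫ m = (yon S).map c ≫ f) : ∃ k : (yon S).obj T ⟶ K, k ≫ m = f := by
  let π := pullback.snd m f
  haveI : Sheaf.IsLocallySurjective π := AlgSpc.isLocallySurjective_of_exists fun T₁ x => by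
    let d := pullback.snd c (pre x)
    refine ⟨pullback c (pre x), d, pullback.lift ((yon S).map (pullback.fst c (pre x)) ≫ k') ((yon S).map d ≫ x) ?_,
      ?_, ?_, ?_, pullback.lift_snd _ _ _⟩
    · rw [Category.assoc, h, ← Functor.map_comp_assoc, pullback.condition, Functor.map_comp, map_pre]
    · exact MorphismProperty.of_isPullback (P := @Flat)
        (FppfDescent.isPullback_forget (IsPullback.of_hasPullback c (pre x))) ‹_›
    · exact MorphismProperty.of_isPullback (P := @LocallyOfFinitePresentation)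
        (FppfDescent.isPullback_forget (IsPullback.of_hasPullback c (pre x))) ‹_›
    · exact MorphismProperty.of_isPullback (P := @Surjective)
        (FppfDescent.isPullback_forget (IsPullback.of_hasPullback c (pre x))) ‹_›
  haveI : Epi π := (Sheaf.isLocallySurjective_iff_epi' _ _).1 inferInstance
  haveI : Mono π := inferInstanceAs (Mono (pullback.snd m f))
  haveI : IsIso π := isIso_of_mono_of_epi π
  exact ⟨inv π ≫ pullback.fst m f, by rw [Category.assoc, pullback.condition, IsIso.inv_hom_id_assoc]⟩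

/-- Points with the same image in the quotient by a groupoid are joined by an arrow fppf locally. -/
theorem exists_local_arrow {R U : Sp S} {s t : R ⟶ U}
    (hrefl : ∃ e : U ⟶ R, e ≫ t = 𝟙 U ∧ e ≫ s = 𝟙 U)
    (hsymm : ∃ i : R ⟶ R, i ≫ t = s ∧ i ≫ s = t)
    (htrans : ∃ c : pullback s t ⟶ R, c ≫ t = pullback.fst s t ≫ t ∧ c ≫ s = pullback.snd s t ≫ s)
    {T : Over S} (a b : (yon S).obj T ⟶ U) (h : a ≫ quotSpπ s t = b ≫ quotSpπ s t) :
    ∃ (T' : Over S) (c : T' ⟶ T) (ρ : (yon S).obj T' ⟶ R), Flat c.left ∧ LocallyOfFinitePresentation c.left ∧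
      Surjective c.left ∧ ρ ≫ t = (yon S).map c ≫ a ∧ ρ ≫ s = (yon S).map c ≫ b := by
  obtain ⟨e, he₁, he₂⟩ := hrefl
  obtain ⟨i, hi₁, hi₂⟩ := hsymm
  obtain ⟨m, hm₁, hm₂⟩ := htrans
  let n := prod.lift t s
  let η := Sheaf.toImage n
  let tK : Sheaf.image n ⟶ U := Sheaf.imageι n ≫ prod.fst
  let sK : Sheaf.image n ⟶ U := Sheaf.imageι n ≫ prod.snd
  have hηt : η ≫ tK = t := by simp [η, tK, n]
  have hηs : η ≫ sK = s := by simp [η, sK, n]
  haveI : Sheaf.IsLocallySurjective η := (Sheaf.isLocallySurjective_iff_epi' _ _).2 inferInstance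
  have hext : ∀ {T₀ : Over S} (k : (yon S).obj T₀ ⟶ Sheaf.image n) (x y : (yon S).obj T₀ ⟶ U),
      k ≫ Sheaf.imageι n = prod.lift x y → k ≫ tK = x ∧ k ≫ sK = y := fun k x y hk => by
    exact ⟨by simp [tK, reassoc_of% hk], by simp [sK, reassoc_of% hk]⟩
  have hK : IsEqvRelSp sK tK := by
    refine ⟨fun T₀ r r' h₁ h₂ => (cancel_mono (Sheaf.imageι n)).1 (Limits.prod.hom_ext (by simpa [tK] using h₁)
      (by simpa [sK] using h₂)), fun T₀ => ⟨fun x => ⟨x ≫ e ≫ η, by simp [hηt, he₁], by simp [hηs, he₂]⟩,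
        ?_, ?_⟩⟩
    · rintro x y ⟨k, rfl, rfl⟩
      obtain ⟨T₁, c, ρ, h₁, h₂, h₃, hρ⟩ := exists_fppf_lift' η k
      obtain ⟨k', hk'⟩ := exists_factor_of_local (Sheaf.imageι n) (prod.lift (k ≫ sK) (k ≫ tK)) c (ρ ≫ i ≫ η) (by
        apply Limits.prod.hom_ext
        · simp only [Category.assoc, prod.lift_fst]
          rw [show η ≫ Sheaf.imageι n ≫ prod.fst = t from hηt, hi₁, reassoc_of% hρ, hηs]
        · simp only [Category.assoc, prod.lift_snd]
          rw [show η ≫ Sheaf.imageι n ≫ prod.snd = s from hηs, hi₂, reassoc_of% hρ, hηt])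
      exact ⟨k', hext k' _ _ hk'⟩
    · rintro x y z ⟨k, rfl, rfl⟩ ⟨l, hl₁, rfl⟩
      obtain ⟨T₁, c₁, ρ₁, g₁, g₂, g₃, hρ₁⟩ := exists_fppf_lift' η k
      obtain ⟨T₂, c₂, ρ₂, k₁, k₂, k₃, hρ₂⟩ := exists_fppf_lift' η ((yon S).map c₁ ≫ l)
      haveI : Flat (c₂ ≫ c₁).left := by rw [Over.comp_left]; infer_instance
      haveI : LocallyOfFinitePresentation (c₂ ≫ c₁).left := by rw [Over.comp_left]; infer_instance
      haveI : Surjective (c₂ ≫ c₁).left := by rw [Over.comp_left]; infer_instance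
      have hcomp : ((yon S).map c₂ ≫ ρ₁) ≫ s = ρ₂ ≫ t := by
        rw [← hηs, ← hηt, Category.assoc, ← reassoc_of% hρ₁, ← reassoc_of% hρ₂, hl₁]
      obtain ⟨k', hk'⟩ := exists_factor_of_local (Sheaf.imageι n) (prod.lift (k ≫ tK) (l ≫ sK)) (c₂ ≫ c₁)
        (pullback.lift _ _ hcomp ≫ m ≫ η) (by
          apply Limits.prod.hom_ext
          · simp only [Category.assoc, prod.lift_fst, Functor.map_comp]
            rw [show η ≫ Sheaf.imageι n ≫ prod.fst = t from hηt, hm₁, pullback.lift_fst_assoc, Category.assoc,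
              ← hηt, ← reassoc_of% hρ₁]
          · simp only [Category.assoc, prod.lift_snd, Functor.map_comp]
            rw [show η ≫ Sheaf.imageι n ≫ prod.snd = s from hηs, hm₂, pullback.lift_snd_assoc,
              ← hηs, ← reassoc_of% hρ₂])
      exact ⟨k', hext k' _ _ hk'⟩
  obtain ⟨ψ, hψ⟩ : ∃ ψ : quotSp s t ⟶ quotSp sK tK, quotSpπ s t ≫ ψ = quotSpπ sK tK :=
    ⟨quotSpDesc (quotSpπ sK tK) (by
      rw [← hηs, ← hηt, Category.assoc η sK, Category.assoc η tK, quotSp_condition sK tK]),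
      coequalizer.π_desc _ _⟩
  have h' : a ≫ quotSpπ sK tK = b ≫ quotSpπ sK tK := by rw [← hψ, reassoc_of% h]
  have sqK := isPullback_quotSpπ hK
  obtain ⟨T', c, ρ, h₁, h₂, h₃, hρ⟩ := exists_fppf_lift' η (sqK.lift a b h')
  refine ⟨T', c, ρ, h₁, h₂, h₃, ?_, ?_⟩
  · rw [← hηt, ← reassoc_of% hρ, sqK.lift_fst]
  · rw [← hηs, ← reassoc_of% hρ, sqK.lift_snd]

end Groth.Agent.AlgSpBoot
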