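import Groth.Agent.AlgSpBoot.FromSpace
import Groth.Agent.AlgSpFormal.Mono
import Groth.Agent.AlgSpc.SpCoprod
import Groth.Agent.AlgStB.RepSp

/-!
Being an algebraic space descends along fppf covers of a base.
-/

set_option autoImplicit false
set_option linter.style.haveILetI false
set_option backward.isDefEq.respectTransparency false

universe u

open CategoryTheory CategoryTheory.Limits AlgebraicGeometry

namespace Groth.Agent.AlgSpBoot

open _root_.AlgSp Groth.Agent.AlgSpc Groth.Agent.AlgSpLoc

variable {S : Scheme.{u}}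

/-- A cover representable by schemes is a cover representable by spaces. -/
theorem repBySpWith_of_repWith {F G : Sp S} {w : F ⟶ G}
    (hw : RepWith (@Surjective ⊓ @Flat ⊓ @LocallyOfFinitePresentation) w) :
    RepBySpWith (IsSurjectiveMor ⊓ LocP @Flat ⊓ LocP @LocallyOfFinitePresentation) w.hom := by
  refine (repBySpWith_hom_iff _ w).2 fun T g F' fst snd sq => ?_
  obtain ⟨V, f', s', sq'⟩ := exists_sq hw.1 g
  have h := repWith_of_isPullback sq hw
  exact ⟨(IsAlgSpace.yon_obj V).of_iso (sq'.isoIsPullback _ _ sq),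
    ⟨surjective_map_of_repWith (repWith_mono (fun _ _ _ h => h.1.1) h),
      locP_of_repWith (fun e f he hf => MorphismProperty.comp_mem @Flat e f
        (haveI : Etale e := he; inferInstance) hf) (repWith_mono (fun _ _ _ h => h.1.2) h)⟩,
    locP_of_repWith (fun e f he hf => MorphismProperty.comp_mem @LocallyOfFinitePresentation e f
      (haveI : Etale e := he; inferInstance) hf) (repWith_mono (fun _ _ _ h => h.2) h)⟩

/-- A sheaf over `X` is an algebraic space if its base change to an fppf cover of `X` is. -/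
theorem isAlgSpace_of_cover_baseChange {F X P : Sp S} {W : Over S} {p : F ⟶ X} {w : (yon S).obj W ⟶ X}
    (hw : RepWith (@Surjective ⊓ @Flat ⊓ @LocallyOfFinitePresentation) w)
    {fst : P ⟶ F} {snd : P ⟶ (yon S).obj W} (sq : IsPullback fst snd p w) (hP : IsAlgSpace P) : IsAlgSpace F :=
  isAlgSpace_of_fppf_cover hP fst (repBySpWith_of_repWith (repWith_of_isPullback sq.flip hw))

/-- The base change to a disjoint union is an algebraic space if it is so on the parts. -/
theorem isAlgSpace_pullback_cover {F X : Sp S} (p : F ⟶ X) {ι : Type u} {W : Over S} (Vi : ι → Over S)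
    (j : ∀ i, Vi i ⟶ W) (hj : ∀ i, IsOpenImmersion (j i).left) (hjs : ∀ z : W.left, ∃ i, z ∈ Set.range (j i).left)
    (w : (yon S).obj W ⟶ X) (h : ∀ i, IsAlgSpace (pullback p ((yon S).map (j i) ≫ w))) :
    IsAlgSpace (pullback p w) := by
  let f : ∀ i, pullback p ((yon S).map (j i) ≫ w) ⟶ pullback p w := fun i =>
    pullback.lift (pullback.fst _ _) (pullback.snd _ _ ≫ (yon S).map (j i))
      (by rw [pullback.condition, Category.assoc])
  have sqf : ∀ i, IsPullback (pullback.snd p ((yon S).map (j i) ≫ w)) (f i) ((yon S).map (j i)) (pullback.snd p w) :=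
    fun i => by
      refine (IsPullback.of_bot ?_ ?_ (IsPullback.of_hasPullback p w).flip)
      · simpa [f] using (IsPullback.of_hasPullback p ((yon S).map (j i) ≫ w)).flip
      · simp [f]
  refine isAlgSpace_of_open_cover f (fun i => repWith_of_isPullback (sqf i) ((repWith_yon_map_iff _ _).2 (hj i))) h
    fun x => ?_
  obtain ⟨z, hz⟩ := (Points.schemeHomeo W).surjective (Points.map (pullback.snd p w) x)
  obtain ⟨i, v, hv⟩ := hjs z
  obtain ⟨y, -, hy⟩ := exists_point_of_isPullback (sqf i) (Points.ofScheme (Vi i) v) x (by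
    rw [← Points.ofPt_eq_map_ofScheme, ofPt_pre, pre_map, hv]; exact hz)
  exact ⟨i, y, hy⟩

/-- A jointly surjective family of morphisms flat and of finite presentation gives a cover by one scheme. -/
theorem exists_sigma_cover {X : Sp S} (hX : IsAlgSpace X) {ι : Type u} (Vi : ι → Over S)
    (wi : ∀ i, (yon S).obj (Vi i) ⟶ X)
    (hfl : ∀ i, RepWith (@Flat ⊓ @LocallyOfFinitePresentation) (wi i))
    (hs : ∀ x : Points X, ∃ i, x ∈ Set.range (Points.ofPt (wi i))) :
    ∃ (W : Over S) (j : ∀ i, Vi i ⟶ W) (w : (yon S).obj W ⟶ X),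
      (∀ i, IsOpenImmersion (j i).left) ∧ (∀ z : W.left, ∃ i, z ∈ Set.range (j i).left) ∧
      (∀ i, (yon S).map (j i) ≫ w = wi i) ∧
      RepWith (@Surjective ⊓ @Flat ⊓ @LocallyOfFinitePresentation) w := by
  let UU : Over S := Over.mk (Sigma.desc fun k => (Vi k).hom)
  let j : ∀ k, Vi k ⟶ UU := fun k => Over.homMk (Sigma.ι (fun k => (Vi k).left) k) (Sigma.ι_desc _ _)
  have hj : ∀ k, IsOpenImmersion (j k).left := fun k =>
    (inferInstance : IsOpenImmersion (Sigma.ι (fun k => (Vi k).left) k))
  have hjs : ∀ z : ↥UU.left, ∃ k, z ∈ Set.range (j k).left := fun z => by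
    obtain ⟨k, y, hy⟩ := (sigmaOpenCover fun k => (Vi k).left).exists_eq z
    exact ⟨k, y, hy⟩
  obtain ⟨w, hw, -⟩ := existsUnique_glue Vi j hj hjs wi fun k k' Z a b e => by
    by_cases h : k = k'
    · subst h
      haveI : Mono (j k) := (Over.forget S).mono_of_mono_map (haveI := hj k; inferInstanceAs (Mono (j k).left))
      rw [(cancel_mono (j k)).1 e]
    · haveI : IsEmpty ↥Z.left := ⟨fun z => by
        have hz := congrArg (fun (φ : Z ⟶ UU) => φ.left z) e
        simp only [Over.comp_left, Scheme.Hom.comp_apply] at hz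
        have hd : Disjoint (Set.range (Sigma.ι (fun k => (Vi k).left) k : (Vi k).left ⟶ _))
            (Set.range (Sigma.ι (fun k => (Vi k).left) k' : (Vi k').left ⟶ _)) := by
          have := disjoint_opensRange_sigmaι (fun k => (Vi k).left) k k' h
          rw [Set.disjoint_iff_inter_eq_empty]
          rw [disjoint_iff] at this
          simpa [TopologicalSpace.Opens.ext_iff] using this
        exact Set.disjoint_left.1 hd ⟨a.left z, rfl⟩ ⟨b.left z, hz.symm⟩⟩
      exact empty_hom_ext _ _
  have hrep : Representable w := hX.representable_from_yon w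
  have h₁ : RepWith @Flat w := repWith_of_sigma j hj hjs w fun k => by
    rw [hw]; exact repWith_mono (fun _ _ _ h => h.1) (hfl k)
  have h₂ : RepWith @LocallyOfFinitePresentation w := repWith_of_sigma j hj hjs w fun k => by
    rw [hw]; exact repWith_mono (fun _ _ _ h => h.2) (hfl k)
  refine ⟨UU, j, w, hj, hjs, hw, repWith_inf (repWith_inf ((surjective_ofPt_iff hrep).2 fun x => ?_) h₁) h₂⟩
  obtain ⟨k, v, rfl⟩ := hs x
  exact ⟨(j k).left v, by rw [← ofPt_comp, hw]⟩

end Groth.Agent.AlgSpBoot
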