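import Groth.Agent.AlgSpBoot.OpenPairs
import Groth.Agent.GrpdQ.Main
import Groth.Agent.GrpdQ.AffQuot
import Groth.Agent.AlgSpc.SepProper
import Groth.Agent.AlgSpLoc.LocSurj
import Groth.Agent.GenFlat.FppfSource
import Groth.Agent.FpqcDescent.Flat

/-!
The etale chart given by the quotient of a finite flat relation open in the pairs.
-/

set_option autoImplicit false
set_option linter.style.haveILetI false
set_option backward.isDefEq.respectTransparency false

universe u

open CategoryTheory CategoryTheory.Limits AlgebraicGeometry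

namespace Groth.Agent.AlgSpBoot

open _root_.AlgSp Groth.Agent.AlgSpc Groth.Agent.AlgSpLoc

variable {S : Scheme.{u}}

/-- A flat finitely presented chart with open diagonal is etale. -/
theorem repWith_etale_of_diagonal {M : Over S} {F : Sp S} {χ : (yon S).obj M ⟶ F} (hrep : Representable χ)
    (hflat : RepWith (@Flat ⊓ @LocallyOfFinitePresentation) χ)
    (hd : RepWith @IsOpenImmersion (pullback.diagonal χ)) : RepWith @Etale χ := by
  refine repWith_mk fun T g => ?_
  obtain ⟨V, fst, snd, sq⟩ := exists_sq hrep g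
  obtain ⟨hf, hl⟩ := hflat.2 g fst snd sq
  refine ⟨V, fst, snd, sq, ?_⟩
  have hd' := repWith_diagonal_base_change sq hd
  have h₁ : (yon S).map (pullback.diagonal snd) ≫ (PreservesPullback.iso (yon S) snd snd).hom =
      pullback.diagonal ((yon S).map snd) := by
    apply pullback.hom_ext
    · rw [Category.assoc, PreservesPullback.iso_hom_fst, ← Functor.map_comp, pullback.diagonal_fst,
        CategoryTheory.Functor.map_id, pullback.diagonal_fst]
    · rw [Category.assoc, PreservesPullback.iso_hom_snd, ← Functor.map_comp, pullback.diagonal_snd,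
        CategoryTheory.Functor.map_id, pullback.diagonal_snd]
  rw [← h₁] at hd'
  have h₂ := (repWith_yon_map_iff @IsOpenImmersion _).1
    ((MorphismProperty.cancel_right_of_respectsIso (RepWith @IsOpenImmersion) _ _).1 hd')
  have sqF := FppfDescent.isPullback_forget (IsPullback.of_hasPullback snd snd)
  have h₃ : pullback.diagonal snd.left = (pullback.diagonal snd).left ≫ sqF.isoPullback.hom := by
    apply pullback.hom_ext
    · rw [Category.assoc, sqF.isoPullback_hom_fst, ← Over.comp_left, pullback.diagonal_fst,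
        pullback.diagonal_fst]; rfl
    · rw [Category.assoc, sqF.isoPullback_hom_snd, ← Over.comp_left, pullback.diagonal_snd,
        pullback.diagonal_snd]; rfl
  haveI : IsOpenImmersion (pullback.diagonal snd.left) := by
    rw [h₃]; infer_instance
  haveI : Flat snd.left := hf
  haveI : LocallyOfFinitePresentation snd.left := hl
  exact Etale.of_formallyUnramified_of_flat snd.left

set_option maxHeartbeats 400000 in
/-- Step four. -/
theorem exists_etale_quotient {F : Sp S} (hdiag : Representable (Limits.diag F)) (G' : Grpd.GroupoidScheme S)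
    [IsAffine G'.U] [IsAffine G'.R] [IsFinite G'.s] [Flat G'.s] [LocallyOfFinitePresentation G'.s] [Mono G'.j]
    (c : (yon S).obj (Over.mk G'.pU) ⟶ F)
    (hcfl : RepWith @Flat c ∧ RepWith @LocallyOfFinitePresentation c)
    (hct : (yon S).map (Over.homMk G'.t G'.t_over : Over.mk G'.pR ⟶ Over.mk G'.pU) ≫ c =
      (yon S).map (Over.homMk G'.s G'.s_over : Over.mk G'.pR ⟶ Over.mk G'.pU) ≫ c)
    (hopen : OpenInPairs G' c) :
    ∃ (M : Over S) (π : Over.mk G'.pU ⟶ M) (χ : (yon S).obj M ⟶ F),
      RepWith @Etale χ ∧ (yon S).map π ≫ χ = c := by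
  obtain ⟨⟨-, hπfl, hπfp⟩, -⟩ := GrpdQ.main G'
  obtain ⟨m, ⟨hm, -⟩, -⟩ := GrpdQ.isQuotient G'
  let U' : Over S := Over.mk G'.pU
  let R' : Over S := Over.mk G'.pR
  let s' : R' ⟶ U' := Over.homMk G'.s G'.s_over
  let t' : R' ⟶ U' := Over.homMk G'.t G'.t_over
  let M : Over S := Over.mk m
  let π : U' ⟶ M := Over.homMk G'.toQuot hm
  have sqQ : IsPullback t' s' π π :=
    IsPullback.of_map (Over.forget S) (Over.OverMorphism.ext (GrpdQ.isPullback_toQuot G').w)
      (GrpdQ.isPullback_toQuot G')
  haveI : Surjective π.left := ⟨GrpdQ.toQuot_surjective (G := G')⟩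
  haveI : Flat π.left := hπfl
  haveI : LocallyOfFinitePresentation π.left := hπfp
  haveI : Sheaf.IsLocallySurjective ((yon S).map π) := isLocallySurjective_of_repWith
    ((repWith_yon_map_iff @Flat π).2 hπfl) ((repWith_yon_map_iff @LocallyOfFinitePresentation π).2 hπfp)
    ((repWith_yon_map_iff @Surjective π).2 ‹_›)
  haveI : Epi ((yon S).map π) := inferInstance
  haveI := effectiveEpi_of_epi ((yon S).map π)
  obtain ⟨χ, hχ⟩ : ∃ χ, (yon S).map π ≫ χ = c := by
    refine ⟨EffectiveEpi.desc ((yon S).map π) c fun k₁ k₂ w => ?_, EffectiveEpi.fac _ _ _⟩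
    have hct' : (yon S).map t' ≫ c = (yon S).map s' ≫ c := hct
    have := congrArg ((sqQ.map (yon S)).lift k₁ k₂ w ≫ ·) hct'
    simpa only [← Category.assoc, IsPullback.lift_fst, IsPullback.lift_snd] using this
  have hχrep : Representable χ := Functor.relativelyRepresentable.of_diag hdiag χ
  have hχfl : RepWith (@Flat ⊓ @LocallyOfFinitePresentation) χ := by
    refine repWith_mk fun T h => ?_
    obtain ⟨P, fstP, sndP, sqP⟩ := exists_sq hχrep h
    refine ⟨P, fstP, sndP, sqP, ?_⟩
    have s₁ : IsPullback ((yon S).map (pullback.fst π (pre fstP))) ((yon S).map (pullback.snd π (pre fstP)))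
        ((yon S).map π) fstP := by
      have h := (IsPullback.of_hasPullback π (pre fstP)).map (yon S)
      rw [map_pre] at h
      exact h
    have big : IsPullback ((yon S).map (pullback.fst π (pre fstP)))
        ((yon S).map (pullback.snd π (pre fstP) ≫ sndP)) c h := by
      rw [← hχ, Functor.map_comp]
      exact s₁.paste_vert sqP
    have sqπP := FppfDescent.isPullback_forget (IsPullback.of_hasPullback π (pre fstP))
    haveI : Flat (pullback.snd π (pre fstP)).left :=
      MorphismProperty.of_isPullback (P := @Flat) sqπP ‹_›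
    haveI : LocallyOfFinitePresentation (pullback.snd π (pre fstP)).left :=
      MorphismProperty.of_isPullback (P := @LocallyOfFinitePresentation) sqπP ‹_›
    haveI : Surjective (pullback.snd π (pre fstP)).left :=
      MorphismProperty.of_isPullback (P := @Surjective) sqπP ‹_›
    haveI : Flat ((pullback.snd π (pre fstP)).left ≫ sndP.left) := hcfl.1.2 h _ _ big
    haveI : LocallyOfFinitePresentation ((pullback.snd π (pre fstP)).left ≫ sndP.left) :=
      hcfl.2.2 h _ _ big
    exact ⟨FpqcDescent.flat_of_flat_comp (pullback.snd π (pre fstP)).left sndP.left,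
      GenFlat.locallyOfFinitePresentation_of_fppf_comp (pullback.snd π (pre fstP)).left sndP.left⟩
  have hχd : RepWith @IsOpenImmersion (pullback.diagonal χ) := by
    obtain ⟨D, d₁', d₂, sqD⟩ := exists_sq hχrep χ
    obtain ⟨d₁, rfl⟩ := (yon S).map_surjective d₁'
    obtain ⟨δM, hδ₁, hδ₂⟩ : ∃ δM : M ⟶ D, δM ≫ d₁ = 𝟙 M ∧ δM ≫ d₂ = 𝟙 M :=
      ⟨pre (sqD.lift (𝟙 _) (𝟙 _) rfl), (yon S).map_injective (by simp), (yon S).map_injective (by simp)⟩
    have hdiag' : pullback.diagonal χ = (yon S).map δM ≫ sqD.isoPullback.hom := by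
      apply pullback.hom_ext
      · rw [Category.assoc, sqD.isoPullback_hom_fst, ← Functor.map_comp, hδ₁, pullback.diagonal_fst,
          CategoryTheory.Functor.map_id]
      · rw [Category.assoc, sqD.isoPullback_hom_snd, ← Functor.map_comp, hδ₂, pullback.diagonal_snd,
          CategoryTheory.Functor.map_id]
    rw [hdiag']
    refine (MorphismProperty.cancel_right_of_respectsIso (RepWith @IsOpenImmersion) _ _).2
      ((repWith_yon_map_iff @IsOpenImmersion δM).2 ?_)
    let D' := pullback (pullback.snd π d₁ ≫ d₂) π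
    let dd : D' ⟶ D := pullback.fst _ π ≫ pullback.snd π d₁
    let e₁ : D' ⟶ U' := pullback.fst _ π ≫ pullback.fst π d₁
    let e₂ : D' ⟶ U' := pullback.snd _ π
    have he₁d : e₁ ≫ π = dd ≫ d₁ := by simp only [e₁, dd, Category.assoc, pullback.condition]
    have he₂d : e₂ ≫ π = dd ≫ d₂ := by
      rw [show e₂ ≫ π = _ from (pullback.condition (f := pullback.snd π d₁ ≫ d₂) (g := π)).symm]
      simp only [dd, Category.assoc]
    have h₁ : IsPullback ((yon S).map (pullback.fst π d₁)) ((yon S).map (pullback.snd π d₁ ≫ d₂)) c χ := by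
      rw [Functor.map_comp, ← hχ]
      exact ((IsPullback.of_hasPullback π d₁).map (yon S)).paste_vert sqD
    have sqP : IsPullback ((yon S).map e₁) ((yon S).map e₂) c c := by
      have h₂ := ((IsPullback.of_hasPullback (pullback.snd π d₁ ≫ d₂) π).map (yon S)).paste_horiz h₁
      simpa only [e₁, e₂, Functor.map_comp, hχ] using h₂
    obtain ⟨l, hl₁, hl₂⟩ : ∃ l : R' ⟶ D', l ≫ e₁ = t' ∧ l ≫ e₂ = s' :=
      ⟨pre (sqP.lift _ _ hct), (yon S).map_injective (by rw [Functor.map_comp, map_pre]; exact sqP.lift_fst _ _ _),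
        (yon S).map_injective (by rw [Functor.map_comp, map_pre]; exact sqP.lift_snd _ _ _)⟩
    have hlOI : IsOpenImmersion l.left := hopen D' e₁ e₂ sqP l hl₁ hl₂
    have hext : ∀ {T : Over S} (k k' : T ⟶ D), k ≫ d₁ = k' ≫ d₁ → k ≫ d₂ = k' ≫ d₂ → k = k' :=
      fun k k' h₁ h₂ => (yon S).map_injective (sqD.hom_ext (by simp only [← Functor.map_comp, h₁])
        (by simp only [← Functor.map_comp, h₂]))
    have hle : ∀ {T : Over S} (k k' : T ⟶ D'), k ≫ e₁ = k' ≫ e₁ → k ≫ e₂ = k' ≫ e₂ → k = k' :=
      fun k k' h₁ h₂ => (yon S).map_injective (sqP.hom_ext (by simp only [← Functor.map_comp, h₁])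
        (by simp only [← Functor.map_comp, h₂]))
    have sqδ : IsPullback (t' ≫ π) l δM dd := by
      have hw : (t' ≫ π) ≫ δM = l ≫ dd := hext _ _
        (by rw [Category.assoc l, ← he₁d, reassoc_of% hl₁]; simp only [Category.assoc, hδ₁, Category.comp_id])
        (by rw [Category.assoc l, ← he₂d, reassoc_of% hl₂]; simp only [Category.assoc, hδ₂, Category.comp_id, sqQ.w])
      have hk : ∀ sc : PullbackCone δM dd, (sc.snd ≫ e₁) ≫ π = sc.fst ∧ (sc.snd ≫ e₂) ≫ π = sc.fst :=
        fun sc => ⟨by rw [Category.assoc, he₁d, ← Category.assoc, ← sc.condition, Category.assoc, hδ₁,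
            Category.comp_id],
          by rw [Category.assoc, he₂d, ← Category.assoc, ← sc.condition, Category.assoc, hδ₂,
            Category.comp_id]⟩
      refine ⟨⟨hw⟩, ⟨PullbackCone.IsLimit.mk hw
        (fun sc => sqQ.lift (sc.snd ≫ e₁) (sc.snd ≫ e₂) ((hk sc).1.trans (hk sc).2.symm))
        (fun sc => by rw [sqQ.lift_fst_assoc]; exact (hk sc).1)
        (fun sc => hle _ _ (by rw [Category.assoc, hl₁, sqQ.lift_fst])
          (by rw [Category.assoc, hl₂, sqQ.lift_snd]))
        (fun sc n hn₁ hn₂ => sqQ.hom_ext (by rw [sqQ.lift_fst, ← hn₂, Category.assoc, hl₁])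
          (by rw [sqQ.lift_snd, ← hn₂, Category.assoc, hl₂]))⟩⟩
    have hdd : Flat dd.left ∧ LocallyOfFinitePresentation dd.left ∧ Surjective dd.left := by
      have s₁ := FppfDescent.isPullback_forget (IsPullback.of_hasPullback π d₁)
      have s₂ := (FppfDescent.isPullback_forget
        (IsPullback.of_hasPullback (pullback.snd π d₁ ≫ d₂) π)).flip
      haveI : Flat (pullback.snd π d₁).left := MorphismProperty.of_isPullback (P := @Flat) s₁ ‹_›
      haveI : LocallyOfFinitePresentation (pullback.snd π d₁).left :=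
        MorphismProperty.of_isPullback (P := @LocallyOfFinitePresentation) s₁ ‹_›
      haveI : Surjective (pullback.snd π d₁).left := MorphismProperty.of_isPullback (P := @Surjective) s₁ ‹_›
      haveI : Flat (pullback.fst (pullback.snd π d₁ ≫ d₂) π).left :=
        MorphismProperty.of_isPullback (P := @Flat) s₂ ‹_›
      haveI : LocallyOfFinitePresentation (pullback.fst (pullback.snd π d₁ ≫ d₂) π).left :=
        MorphismProperty.of_isPullback (P := @LocallyOfFinitePresentation) s₂ ‹_›
      haveI : Surjective (pullback.fst (pullback.snd π d₁ ≫ d₂) π).left :=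
        MorphismProperty.of_isPullback (P := @Surjective) s₂ ‹_›
      simp only [dd, Over.comp_left]
      exact ⟨inferInstance, inferInstance, inferInstance⟩
    obtain ⟨hd₁, hd₂, hd₃⟩ := hdd
    exact MorphismProperty.of_isPullback_of_descendsAlong (P := @IsOpenImmersion)
      (Q := @Surjective ⊓ @Flat ⊓ @LocallyOfFinitePresentation)
      (FppfDescent.isPullback_forget sqδ).flip ⟨⟨hd₃, hd₁⟩, hd₂⟩ hlOI
  exact ⟨M, π, χ, repWith_etale_of_diagonal hχrep hχfl hχd, hχ⟩

end Groth.Agent.AlgSpBoot
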