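import Groth.Agent.AlgSpBoot.FiniteRel
import Groth.Agent.AlgSpBoot.EtaleQuot
import Groth.Agent.GrpdQ.Norm

/-!
An etale chart through the image of a point of a quasi-finite flat chart.
-/

set_option autoImplicit false
set_option linter.style.haveILetI false
set_option backward.isDefEq.respectTransparency false

universe u

open CategoryTheory CategoryTheory.Limits AlgebraicGeometry

namespace Groth.Agent.AlgSpBoot

open _root_.AlgSp Groth.Agent.AlgSpc Groth.Agent.AlgSpLoc

variable {S : Scheme.{u}}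

/-- An etale chart of `F` through the image of `x`. -/
theorem exists_etale_chart {F : Sp S} (hdiag : Representable (Limits.diag F)) {A : Over S} [IsAffine A.left]
    {q : (yon S).obj A ⟶ F}
    (hq : RepWith (@Flat ⊓ @LocallyOfFinitePresentation ⊓ @LocallyQuasiFinite) q) (x : A.left) :
    ∃ (M : Over S) (χ : (yon S).obj M ⟶ F),
      RepWith @Etale χ ∧ Points.ofPt q x ∈ Set.range (Points.ofPt χ) := by
  obtain ⟨G, gU, y, hsf, hsfl, hsfp, hj, hgE, hgy, horb, hct, hopen⟩ := exists_finite_rel hq x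
  haveI := hsf; haveI := hsfl; haveI := hsfp; haveI := hj; haveI := hgE
  haveI := (GrpdQ.finLocFree_t G).1
  obtain ⟨_, ⟨(W₁ : G.U.Opens), hW₁, rfl⟩, hyW₁, -⟩ := G.U.isBasis_affineOpens.exists_subset_of_mem_open
    (Set.mem_univ y) isOpen_univ
  obtain ⟨W, hW, hyW, hWinv⟩ := GrpdQ.exists_invariant_affineOpen G y W₁ hW₁ (fun r hr => by
    rw [horb r hr]; exact hyW₁)
  let G' := GrpdQ.resOpen G W
  obtain ⟨hAU, hAR⟩ := GrpdQ.resOpen_isAffine G hWinv hW
  obtain ⟨hf', hfl', hfp'⟩ := GrpdQ.resOpen_finLocFree G hWinv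
  haveI := hAU; haveI := hAR; haveI := hf'; haveI := hfl'; haveI := hfp'
  haveI : Mono G'.j := GrpdQ.mono_j_resOpen hWinv
  let U : Over S := Over.mk G.pU
  let R : Over S := Over.mk G.pR
  let t : R ⟶ U := Over.homMk G.t G.t_over
  let s : R ⟶ U := Over.homMk G.s G.s_over
  let U' : Over S := Over.mk G'.pU
  let R' : Over S := Over.mk G'.pR
  let t' : R' ⟶ U' := Over.homMk G'.t G'.t_over
  let s' : R' ⟶ U' := Over.homMk G'.s G'.s_over
  let jW : U' ⟶ U := Over.homMk W.ι rfl
  haveI : IsOpenImmersion jW.left := inferInstanceAs (IsOpenImmersion W.ι)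
  let ψ : R' ⟶ R := Over.homMk (GrpdSep.resArr G W.ι) (by
    show _ ≫ G.pR = GrpdSep.resS G W.ι ≫ W.ι ≫ G.pU
    rw [← G.s_over]
    rw [← Category.assoc, GrpdSep.resArr_s G W.ι, Category.assoc])
  have hψs : ψ ≫ s = s' ≫ jW := Over.OverMorphism.ext (GrpdSep.resArr_s G W.ι)
  have hψt : ψ ≫ t = t' ≫ jW := Over.OverMorphism.ext (GrpdSep.resArr_t G W.ι)
  haveI : IsOpenImmersion ψ.left := MorphismProperty.of_isPullback (P := @IsOpenImmersion)
    (GrpdQ.isPullback_resArr hWinv).flip (inferInstance : IsOpenImmersion W.ι)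
  let c : (yon S).obj U' ⟶ F := (yon S).map jW ≫ (yon S).map gU ≫ q
  have hc : (yon S).map t' ≫ c = (yon S).map s' ≫ c := by
    have h : (yon S).map t ≫ (yon S).map gU ≫ q = (yon S).map s ≫ (yon S).map gU ≫ q := hct
    have h' := congrArg ((yon S).map ψ ≫ ·) h
    simp only [← Functor.map_comp_assoc, reassoc_of% hψs, reassoc_of% hψt] at h'
    simpa only [c, Functor.map_comp, Category.assoc] using h'
  have hjE : Etale jW.left := inferInstance
  have hcfl : RepWith @Flat c ∧ RepWith @LocallyOfFinitePresentation c := by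
    constructor
    · exact repWith_comp ((repWith_yon_map_iff @Flat _).2 inferInstance)
        (repWith_comp ((repWith_yon_map_iff @Flat _).2 inferInstance) (repWith_mono (fun _ _ _ h => h.1.1) hq))
    · exact repWith_comp ((repWith_yon_map_iff @LocallyOfFinitePresentation _).2 inferInstance)
        (repWith_comp ((repWith_yon_map_iff @LocallyOfFinitePresentation _).2 inferInstance)
          (repWith_mono (fun _ _ _ h => h.1.2) hq))
  have hopen' : OpenInPairs G' c := by
    intro P π₁ π₂ sqP l hl₁ hl₂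
    obtain ⟨K, a', b, sqK⟩ := exists_sq
      (Functor.relativelyRepresentable.of_diag hdiag ((yon S).map gU ≫ q)) ((yon S).map gU ≫ q)
    obtain ⟨a, rfl⟩ := (yon S).map_surjective a'
    obtain ⟨τ, hτa, hτb⟩ : ∃ τ : P ⟶ K, τ ≫ a = π₁ ≫ jW ∧ τ ≫ b = π₂ ≫ jW :=
      ⟨pre (sqK.lift ((yon S).map (π₁ ≫ jW)) ((yon S).map (π₂ ≫ jW))
          (by simpa only [c, Functor.map_comp, Category.assoc] using sqP.w)),
        (yon S).map_injective (by simp), (yon S).map_injective (by simp)⟩
    haveI : IsOpenImmersion τ.left := isOpenImmersion_pairs sqK jW jW sqP τ hτa hτb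
    obtain ⟨l₀, hl₀₁, hl₀₂⟩ : ∃ l₀ : R ⟶ K, l₀ ≫ a = t ∧ l₀ ≫ b = s :=
      ⟨pre (sqK.lift _ _ hct),
        (yon S).map_injective (by rw [Functor.map_comp, map_pre]; exact sqK.lift_fst _ _ _),
        (yon S).map_injective (by rw [Functor.map_comp, map_pre]; exact sqK.lift_snd _ _ _)⟩
    haveI : IsOpenImmersion l₀.left := hopen K a b sqK l₀ hl₀₁ hl₀₂
    have hlτ : l ≫ τ = ψ ≫ l₀ := (yon S).map_injective (sqK.hom_ext
      (by
        have e : (l ≫ τ) ≫ a = (ψ ≫ l₀) ≫ a := by
          rw [Category.assoc, hτa, Category.assoc, hl₀₁, hψt, ← Category.assoc, hl₁]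
        simpa only [← Functor.map_comp] using congrArg (yon S).map e)
      (by
        have e : (l ≫ τ) ≫ b = (ψ ≫ l₀) ≫ b := by
          rw [Category.assoc, hτb, Category.assoc, hl₀₂, hψs, ← Category.assoc, hl₂]
        simpa only [← Functor.map_comp] using congrArg (yon S).map e))
    haveI : IsOpenImmersion (l.left ≫ τ.left) := by
      rw [← Over.comp_left, hlτ, Over.comp_left]; infer_instance
    exact IsOpenImmersion.of_comp l.left τ.left
  obtain ⟨M, π, χ, hχE, hχ⟩ := exists_etale_quotient hdiag G' c hcfl hc hopen'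
  refine ⟨M, χ, hχE, π.left (⟨y, hyW⟩ : (W : Scheme.{u})), ?_⟩
  rw [← ofPt_comp, hχ]
  show Points.ofPt ((yon S).map jW ≫ (yon S).map gU ≫ q) _ = _
  rw [ofPt_comp, ofPt_comp]
  exact congrArg (Points.ofPt q) hgy

end Groth.Agent.AlgSpBoot
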