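import Groth.Agent.AlgSpc.EtQuot
import Mathlib.AlgebraicGeometry.Morphisms.UniversallyOpen
import Mathlib.AlgebraicGeometry.Morphisms.Finite

/-!
Comparison of finite clopen parts of the fibres of a flat map from a scheme to a sheaf.
-/

set_option autoImplicit false
set_option linter.style.haveILetI false

universe u

open CategoryTheory CategoryTheory.Limits AlgebraicGeometry

namespace Groth.Agent.AlgSpBoot

open _root_.AlgSp Groth.Agent.AlgSpc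

variable {S : Scheme.{u}} {F : Sp S} {A Y X : Over S} {q : (yon S).obj A ⟶ F} {β : (yon S).obj Y ⟶ F}
  {aX : X ⟶ A} {xX : X ⟶ Y}

/-- Two points of `Y` single out the same part `Z` of the fibre. -/
def Sat (aX : X ⟶ A) (xX : X ⟶ Y) (Z : X.left.Opens) {T : Over S} (y₁ y₂ : T ⟶ Y) : Prop :=
  ∀ ⦃W : Over S⦄ (w : W ⟶ T) (m₁ m₂ : W ⟶ X), m₁ ≫ aX = m₂ ≫ aX → m₁ ≫ xX = w ≫ y₁ →
    m₂ ≫ xX = w ≫ y₂ → ∀ z, m₁.left z ∈ Z ↔ m₂.left z ∈ Z

theorem hom_ext_X (sqX : IsPullback ((yon S).map aX) ((yon S).map xX) q β) {W : Over S} {m₁ m₂ : W ⟶ X}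
    (h₁ : m₁ ≫ aX = m₂ ≫ aX) (h₂ : m₁ ≫ xX = m₂ ≫ xX) : m₁ = m₂ :=
  (yon S).map_injective (sqX.hom_ext (by simp only [← Functor.map_comp, h₁])
    (by simp only [← Functor.map_comp, h₂]))

theorem exists_lift_X (sqX : IsPullback ((yon S).map aX) ((yon S).map xX) q β) {W : Over S} (a : W ⟶ A) (y : W ⟶ Y)
    (h : (yon S).map a ≫ q = (yon S).map y ≫ β) : ∃ m : W ⟶ X, m ≫ aX = a ∧ m ≫ xX = y :=
  ⟨pre (sqX.lift _ _ h), (yon S).map_injective (by simp), (yon S).map_injective (by simp)⟩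

theorem sat_self (sqX : IsPullback ((yon S).map aX) ((yon S).map xX) q β) (Z : X.left.Opens) {T : Over S}
    (y : T ⟶ Y) : Sat aX xX Z y y := fun W w m₁ m₂ ha h₁ h₂ z => by
  rw [hom_ext_X sqX ha (h₁.trans h₂.symm)]

theorem Sat.symm {Z : X.left.Opens} {T : Over S} {y₁ y₂ : T ⟶ Y} (h : Sat aX xX Z y₁ y₂) :
    Sat aX xX Z y₂ y₁ := fun _ w m₁ m₂ ha h₁ h₂ z => (h w m₂ m₁ ha.symm h₂ h₁ z).symm

theorem Sat.comp {Z : X.left.Opens} {T T' : Over S} {y₁ y₂ : T ⟶ Y} (h : Sat aX xX Z y₁ y₂) (k : T' ⟶ T) :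
    Sat aX xX Z (k ≫ y₁) (k ≫ y₂) := fun _ w m₁ m₂ ha h₁ h₂ =>
  h (w ≫ k) m₁ m₂ ha (h₁.trans (Category.assoc _ _ _).symm) (h₂.trans (Category.assoc _ _ _).symm)

theorem Sat.trans (sqX : IsPullback ((yon S).map aX) ((yon S).map xX) q β) {Z : X.left.Opens} {T : Over S}
    {y₁ y₂ y₃ : T ⟶ Y} (e : (yon S).map y₁ ≫ β = (yon S).map y₂ ≫ β)
    (h : Sat aX xX Z y₁ y₂) (h' : Sat aX xX Z y₂ y₃) : Sat aX xX Z y₁ y₃ := by
  intro W w m₁ m₃ ha h₁ h₃ z
  obtain ⟨m, hm₁, hm₂⟩ := exists_lift_X sqX (m₁ ≫ aX) (w ≫ y₂) (by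
    rw [Functor.map_comp, Category.assoc, sqX.w, ← Functor.map_comp_assoc, h₁, Functor.map_comp_assoc,
      Functor.map_comp_assoc, e])
  exact (h w m₁ m hm₁.symm h₁ hm₂ z).trans (h' w m m₃ (hm₁.trans ha) hm₂ h₃ z)

theorem isClosed_image_of_finite_part {X₁ T : Over S} {n : X₁ ⟶ X} {s : X₁ ⟶ T} {y : T ⟶ Y}
    (sq : IsPullback n s xX y) (Z : X.left.Opens) [IsFinite (Z.ι ≫ xX.left)] {C : Set X₁.left}
    (hC : IsClosed C) (hCZ : C ⊆ n.left ⁻¹' Z) : IsClosed (s.left '' C) := by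
  let Z₁ := n.left ⁻¹ᵁ Z
  have sq' : IsPullback (n.left ∣_ Z) (Z₁.ι ≫ s.left) (Z.ι ≫ xX.left) y.left :=
    (isPullback_morphismRestrict n.left Z).paste_vert (FppfDescent.isPullback_forget sq)
  haveI : IsFinite (Z₁.ι ≫ s.left) := MorphismProperty.of_isPullback (P := @IsFinite) sq' ‹_›
  have := (Z₁.ι ≫ s.left).isClosedMap _ (hC.preimage Z₁.ι.continuous)
  convert this using 1
  ext t
  constructor
  · rintro ⟨c, hc, rfl⟩
    exact ⟨⟨c, hCZ hc⟩, hc, rfl⟩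
  · rintro ⟨c, hc, rfl⟩
    exact ⟨Z₁.ι c, hc, rfl⟩

/-- The locus where two points of `Y` single out the same part is open and closed. -/
theorem exists_eqLocus (sqX : IsPullback ((yon S).map aX) ((yon S).map xX) q β)
    [Flat xX.left] [LocallyOfFinitePresentation xX.left]
    (Z : X.left.Opens) (hZ : IsClosed (Z : Set X.left)) [IsFinite (Z.ι ≫ xX.left)]
    {T : Over S} (y₁ y₂ : T ⟶ Y) (h : (yon S).map y₁ ≫ β = (yon S).map y₂ ≫ β) :
    ∃ O : T.left.Opens, IsClosed (O : Set T.left) ∧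
      ∀ {T' : Over S} (k : T' ⟶ T), Sat aX xX Z (k ≫ y₁) (k ≫ y₂) ↔ Set.range k.left ⊆ O := by
  let X₁ := pullback xX y₁
  let n₁ : X₁ ⟶ X := pullback.fst xX y₁
  let s : X₁ ⟶ T := pullback.snd xX y₁
  have sq₁ : IsPullback n₁ s xX y₁ := IsPullback.of_hasPullback _ _
  have hh : (yon S).map (n₁ ≫ aX) ≫ q = (yon S).map (s ≫ y₂) ≫ β := by
    rw [Functor.map_comp_assoc, sqX.w, ← Functor.map_comp_assoc, sq₁.w, Functor.map_comp_assoc,
      Functor.map_comp_assoc, h]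
  obtain ⟨n₂, hn₂a, hn₂x⟩ := exists_lift_X sqX _ _ hh
  have sq₂ : IsPullback n₂ s xX y₂ := by
    refine IsPullback.of_map (yon S) hn₂x (IsPullback.of_right ?_ ?_ sqX)
    · rw [← Functor.map_comp, hn₂a, ← h, Functor.map_comp]
      exact (sq₁.map (yon S)).paste_horiz sqX
    · simp only [← Functor.map_comp, hn₂x]
  haveI : Flat s.left :=
    MorphismProperty.of_isPullback (P := @Flat) (FppfDescent.isPullback_forget sq₁) ‹_›
  haveI : LocallyOfFinitePresentation s.left :=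
    MorphismProperty.of_isPullback (P := @LocallyOfFinitePresentation) (FppfDescent.isPullback_forget sq₁) ‹_›
  let Z₁ : Set X₁.left := n₁.left ⁻¹' Z
  let Z₂ : Set X₁.left := n₂.left ⁻¹' Z
  have c₁ : IsClosed Z₁ := hZ.preimage n₁.left.continuous
  have c₂ : IsClosed Z₂ := hZ.preimage n₂.left.continuous
  have o₁ : IsOpen Z₁ := Z.2.preimage n₁.left.continuous
  have o₂ : IsOpen Z₂ := Z.2.preimage n₂.left.continuous
  let D := (Z₁ \ Z₂) ∪ (Z₂ \ Z₁)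
  have hDo : IsOpen (s.left '' D) :=
    s.left.isOpenMap _ ((o₁.sdiff c₂).union (o₂.sdiff c₁))
  have hDc : IsClosed (s.left '' D) := by
    rw [Set.image_union]
    exact (isClosed_image_of_finite_part sq₁ Z (c₁.sdiff o₂) Set.diff_subset).union
      (isClosed_image_of_finite_part sq₂ Z (c₂.sdiff o₁) Set.diff_subset)
  refine ⟨⟨(s.left '' D)ᶜ, hDc.isOpen_compl⟩, hDo.isClosed_compl, fun {T'} k => ⟨fun hs => ?_, fun hk => ?_⟩⟩
  · rintro _ ⟨t, rfl⟩ ⟨d, hd, hdt⟩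
    obtain ⟨w, hw₁, -⟩ := Scheme.exists_preimage_of_isPullback
      (FppfDescent.isPullback_forget (IsPullback.of_hasPullback s k)) d t hdt
    have hcd : pullback.fst s k ≫ s = pullback.snd s k ≫ k := pullback.condition
    have := hs (pullback.snd s k) (pullback.fst s k ≫ n₁) (pullback.fst s k ≫ n₂)
      (by rw [Category.assoc, Category.assoc, hn₂a])
      (by rw [Category.assoc, sq₁.w, reassoc_of% hcd])
      (by rw [Category.assoc, hn₂x, reassoc_of% hcd]) w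
    rw [Over.comp_left, Over.comp_left, Scheme.Hom.comp_apply, Scheme.Hom.comp_apply, hw₁] at this
    rcases hd with ⟨h₁, h₂⟩ | ⟨h₂, h₁⟩
    · exact h₂ (this.1 h₁)
    · exact h₁ (this.2 h₂)
  · intro W w m₁ m₂ ha h₁ h₂ z
    let φ : W ⟶ X₁ := pullback.lift m₁ (w ≫ k) (by rw [Category.assoc]; exact h₁)
    have e₁ : φ ≫ n₁ = m₁ := pullback.lift_fst _ _ _
    have e₀ : φ ≫ s = w ≫ k := pullback.lift_snd _ _ _
    have e₂ : φ ≫ n₂ = m₂ := hom_ext_X sqX (by rw [Category.assoc, hn₂a, reassoc_of% e₁, ha])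
      (by rw [Category.assoc, hn₂x, reassoc_of% e₀, h₂])
    rw [← e₁, ← e₂, Over.comp_left, Over.comp_left, Scheme.Hom.comp_apply, Scheme.Hom.comp_apply]
    have hnot : φ.left z ∉ D := fun hd => hk ⟨w.left z, rfl⟩
      ⟨φ.left z, hd, by rw [← Scheme.Hom.comp_apply, ← Over.comp_left, e₀]; rfl⟩
    constructor
    · intro hh₁
      by_contra hh₂
      exact hnot (Or.inl ⟨hh₁, hh₂⟩)
    · intro hh₂
      by_contra hh₁
      exact hnot (Or.inr ⟨hh₂, hh₁⟩)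

end Groth.Agent.AlgSpBoot
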