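import Groth.Agent.AlgSpc.More
import Groth.Agent.AlgSpc.LocP
import Groth.Agent.AlgSpc.EtLocInst

/-!
Morphisms to the spectrum of a field, and their base changes, are flat and universally open.
-/

set_option autoImplicit false
set_option linter.style.haveILetI false
set_option backward.isDefEq.respectTransparency false

universe u

open CategoryTheory CategoryTheory.Limits AlgebraicGeometry

namespace Groth.Agent.AlgSpBoot

open _root_.AlgSp Groth.Agent.AlgSpc

variable {S : Scheme.{u}}

theorem flat_univOpen_of_isPullback_to_field {k : Type u} [Field k] {σ : Spec (CommRingCat.of k) ⟶ S}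
    {R U P Y : Sp S} (hR : IsAlgSpace R) (eU : U ≅ (yon S).obj (Over.mk σ)) (hY : IsAlgSpace Y)
    {fst : P ⟶ R} {snd : P ⟶ Y} {f : R ⟶ U} {g : Y ⟶ U} (sq : IsPullback fst snd f g) :
    LocP @Flat snd ∧ IsUnivOpenMor snd := by
  have hU : IsAlgSpace ((yon S).obj (Over.mk σ)) := IsAlgSpace.yon_obj _
  have sq' : IsPullback fst snd (f ≫ eU.hom) (g ≫ eU.hom) :=
    IsPullback.of_iso sq (Iso.refl _) (Iso.refl _) (Iso.refl _) eU (by simp) (by simp) (by simp) (by simp)
  refine ⟨locP_base_change hR hU hY sq' ?_, fun Z Z' hZ g' fst' snd' sq'' => ?_⟩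
  · intro T V a b h _ hb _
    have hbf : Etale (pre b).left := (repWith_pre (P := @Etale) b).1 hb
    haveI hflat : Flat (h ≫ pre b).left := by
      have : ∀ (X : Scheme.{u}) (q : X ⟶ Spec (CommRingCat.of k)), Flat q := fun X q => inferInstance
      exact this _ _
    refine EtLoc.cancel (P := @Flat) _ _ hbf ?_
    rw [← Over.comp_left]; infer_instance
  · exact univOpen_to_field hR (f ≫ eU.hom) hZ (g' ≫ g ≫ eU.hom) (fst' ≫ fst) snd'
      (by simpa using sq''.paste_horiz sq')

end Groth.Agent.AlgSpBoot
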