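import Groth.Agent.AlgSpBoot.QfSlice
import Groth.Agent.GrpdQ.GlobalProps
import Groth.Agent.GrpdQ.Main
import Groth.Agent.FlatBasics.Thickening
import Groth.Agent.PerfLib.Topo

/-!
Quotients of finite locally free equivalence relations as fppf quotient sheaves.
-/

set_option autoImplicit false
set_option linter.style.haveILetI false
set_option backward.isDefEq.respectTransparency false

universe u

open CategoryTheory CategoryTheory.Limits AlgebraicGeometry Opposite

namespace Groth.Agent.AlgSpBoot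

open _root_.AlgSp Groth.Agent.AlgSpc Groth.Agent.AlgSpLoc

variable {S : Scheme.{u}}

/-- The points with an affine neighbourhood of their orbit form an open set. -/
theorem orbitAffine_of_closed (G : Grpd.GroupoidScheme S) [IsFinite G.s]
    (h3 : ∀ Z : Set ↥G.U, IsClosed Z → Z.Nonempty →
      ∃ u ∈ Z, ∃ W : G.U.Opens, IsAffineOpen W ∧ ∀ r : ↥G.R, G.s r = u → G.t r ∈ W) :
    GrpdQ.OrbitAffine G := by
  intro x
  let A : Set ↥G.U := ⋃ W : {W : G.U.Opens // IsAffineOpen W}, (G.s.base '' (G.t.base ⁻¹' ((W.1 : Set ↥G.U)ᶜ)))ᶜ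
  have hA : IsOpen A := isOpen_iUnion fun W => (G.s.isClosedMap _ ((W.1.isOpen.isClosed_compl).preimage G.t.continuous)).isOpen_compl
  have hmem : ∀ y, y ∈ A ↔ ∃ W : G.U.Opens, IsAffineOpen W ∧ ∀ r : ↥G.R, G.s r = y → G.t r ∈ W := by
    intro y
    simp only [A, Set.mem_iUnion, Subtype.exists, Set.mem_compl_iff, Set.mem_image, Set.mem_preimage, not_exists, not_and]
    refine exists_congr fun W => ?_
    constructor
    · rintro ⟨hW, h⟩
      exact ⟨hW, fun r hr => by_contra fun hn => h r hn hr⟩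
    · rintro ⟨hW, h⟩
      exact ⟨hW, fun r hn hr => hn (h r hr)⟩
  have hx : x ∈ A := by
    by_contra hn
    obtain ⟨u, hu, hW⟩ := h3 Aᶜ hA.isClosed_compl ⟨x, hn⟩
    exact hu ((hmem u).2 hW)
  obtain ⟨W, hW, h⟩ := (hmem x).1 hx
  exact ⟨W, hW, by rintro _ ⟨r, hr, rfl⟩; exact h r hr⟩

theorem mono_j_of_isEqvRel (G : Grpd.GroupoidScheme S)
    (heq : IsEqvRel (Over.homMk G.s G.s_over : Over.mk G.pR ⟶ Over.mk G.pU)
      (Over.homMk G.t G.t_over : Over.mk G.pR ⟶ Over.mk G.pU)) : Mono G.j := by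
  refine ⟨fun {T} a b h => ?_⟩
  have ht : a ≫ G.t = b ≫ G.t := by
    simpa [Grpd.GroupoidScheme.j] using congr($h ≫ pullback.fst _ _)
  have hs : a ≫ G.s = b ≫ G.s := by
    simpa [Grpd.GroupoidScheme.j] using congr($h ≫ pullback.snd _ _)
  have hb : b ≫ G.pR = a ≫ G.pR := by
    rw [← G.s_over, ← Category.assoc, ← Category.assoc, hs]
  exact congr_arg CommaMorphism.left (heq.injective (Over.mk (a ≫ G.pR)) (Over.homMk a rfl) (Over.homMk b hb)
    (Over.OverMorphism.ext ht) (Over.OverMorphism.ext hs))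

section

variable {R U M : Over S} {s t : R ⟶ U} (q : U ⟶ M)

theorem quotMap_quotDesc (w : s ≫ q = t ≫ q) :
    quotMap s t ≫ QuotSh.quotDesc Scheme.fppfPrecoverage q w =
      (yon S).map q ≫ (QuotSh.repIsoUliftYoneda Scheme.fppfPrecoverage M).inv := by
  rw [repIso_inv_naturality]
  simp only [quotMap, Category.assoc]
  congr 1
  exact coequalizer.π_desc _ _

/-- A faithfully flat map with kernel pair `R` is the fppf quotient by `R`. -/
theorem isQuotient_of_isPullback [Flat q.left] [LocallyOfFinitePresentation q.left] [Surjective q.left]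
    (sq : IsPullback t s q q) : QuotSh.IsQuotient Scheme.fppfPrecoverage s t q := by
  refine ⟨sq.w.symm, ?_⟩
  haveI : Sheaf.IsLocallySurjective ((yon S).map q) := isLocallySurjective_of_repWith
    ((repWith_yon_map_iff @Flat q).2 inferInstance)
    ((repWith_yon_map_iff @LocallyOfFinitePresentation q).2 inferInstance)
    ((repWith_yon_map_iff @Surjective q).2 inferInstance)
  obtain ⟨ψ, hψ, hiso⟩ := exists_quot_iso ((yon S).map q) (sq.map (yon S))
  have : QuotSh.quotDesc Scheme.fppfPrecoverage q sq.w.symm =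
      ψ ≫ (QuotSh.repIsoUliftYoneda Scheme.fppfPrecoverage M).inv := by
    haveI := epi_quotMap s t
    rw [← cancel_epi (quotMap s t), quotMap_quotDesc, ← Category.assoc, hψ]
  rw [this]; infer_instance

theorem surjective_of_isQuotient (h : QuotSh.IsQuotient Scheme.fppfPrecoverage s t q) : Surjective q.left := by
  obtain ⟨w, hw⟩ := h
  haveI := hw
  haveI := epi_quotMap s t
  haveI : Epi ((yon S).map q) := by
    have e : (yon S).map q = (quotMap s t ≫ QuotSh.quotDesc Scheme.fppfPrecoverage q w) ≫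
        (QuotSh.repIsoUliftYoneda Scheme.fppfPrecoverage M).hom := by
      rw [quotMap_quotDesc, Category.assoc, Iso.inv_hom_id, Category.comp_id]
    rw [e]; infer_instance
  haveI : Sheaf.IsLocallySurjective ((yon S).map q) := (Sheaf.isLocallySurjective_iff_epi' _ _).2 inferInstance
  obtain ⟨T, c, u, _, _, hc, e⟩ := exists_fppf_lift ((yon S).map q) (𝟙 ((yon S).obj M))
  have e' : c = u ≫ q := (yon S).map_injective (by rw [Functor.map_comp, ← e, Category.comp_id])
  haveI : Surjective (u.left ≫ q.left) := by rw [← Over.comp_left, ← e']; exact hc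
  exact Surjective.of_comp u.left q.left

end

/-- The global quotient of a finite locally free equivalence relation. -/
theorem exists_finLocFree_quotient (G : Grpd.GroupoidScheme S) [IsFinite G.s] [Flat G.s] [LocallyOfFinitePresentation G.s]
    (hb : GrpdQ.OrbitAffine G) [Mono G.j] :
    ∃ (M : Over S) (m : Over.mk G.pU ⟶ M), Mor2.IsFinLocFree m.left ∧ IsPullback G.t G.s m.left m.left ∧
      QuotSh.IsQuotient Scheme.fppfPrecoverage (Over.homMk G.s G.s_over : Over.mk G.pR ⟶ Over.mk G.pU)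
        (Over.homMk G.t G.t_over : Over.mk G.pR ⟶ Over.mk G.pU) m := by
  obtain ⟨p, hp⟩ := GrpdQ.exists_proj (G := G) hb
  have hfl := GrpdQ.finLocFree_proj hb hp
  obtain ⟨h₁, h₂, h₃⟩ := hfl
  haveI := h₁; haveI := h₂; haveI := h₃
  haveI : Surjective p := ⟨GrpdQ.proj_surjective hb hp⟩
  have sq := GrpdQ.isPullback_proj hb hp
  have key : ∀ {Z : Scheme.{u}} (g₁ g₂ : Z ⟶ G.U), g₁ ≫ p = g₂ ≫ p → g₁ ≫ G.pU = g₂ ≫ G.pU := fun g₁ g₂ w => by
    rw [← sq.lift_fst g₁ g₂ w, Category.assoc, G.t_over, ← G.s_over, ← Category.assoc, sq.lift_snd]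
  refine ⟨Over.mk (EffectiveEpi.desc p G.pU key), Over.homMk p (EffectiveEpi.fac p G.pU key), ⟨h₁, h₂, h₃⟩, sq, ?_⟩
  set q : Over.mk G.pU ⟶ Over.mk (EffectiveEpi.desc p G.pU key) := Over.homMk p (EffectiveEpi.fac p G.pU key)
  have hq : q.left = p := rfl
  haveI : Flat q.left := h₂
  haveI : LocallyOfFinitePresentation q.left := h₃
  haveI : Surjective q.left := ‹Surjective p›
  exact isQuotient_of_isPullback q (IsPullback.of_map (Over.forget S) (Over.OverMorphism.ext sq.w) sq)

end Groth.Agent.AlgSpBoot
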