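import Groth.Prelude.Def_Grpd

/-!
The groupoid scheme of an equivalence relation of schemes.
-/

set_option autoImplicit false

universe u

open CategoryTheory CategoryTheory.Limits AlgebraicGeometry

namespace Groth.Agent.AlgSpBoot

variable {S U R : Scheme.{u}}

/-- An equivalence relation as a groupoid scheme. -/
noncomputable def ofRel (pU : U ⟶ S) (s t : R ⟶ U) (w : t ≫ pU = s ≫ pU)
    (hinj : ∀ {T : Scheme.{u}} (a b : T ⟶ R), a ≫ s = b ≫ s → a ≫ t = b ≫ t → a = b)
    (e : U ⟶ R) (hes : e ≫ s = 𝟙 U) (het : e ≫ t = 𝟙 U)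
    (i : R ⟶ R) (his : i ≫ s = t) (hit : i ≫ t = s)
    (c : pullback s t ⟶ R) (hcs : c ≫ s = pullback.snd s t ≫ s) (hct : c ≫ t = pullback.fst s t ≫ t) :
    Grpd.GroupoidScheme S where
  U := U
  R := R
  pU := pU
  pR := s ≫ pU
  s := s
  t := t
  e := e
  i := i
  c := c
  s_over := rfl
  t_over := w
  comp_s α β h := by rw [Category.assoc, hcs, pullback.lift_snd_assoc]
  comp_t α β h := by rw [Category.assoc, hct, pullback.lift_fst_assoc]
  assoc α β γ h₁ h₂ := by
    apply hinj <;> simp only [Category.assoc, hcs, hct, pullback.lift_fst_assoc, pullback.lift_snd_assoc]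
  e_s := hes
  e_t := het
  comp_e α := by apply hinj <;> simp only [Category.assoc, hcs, hct, hes, het, pullback.lift_fst_assoc, pullback.lift_snd_assoc, Category.comp_id]
  e_comp α := by apply hinj <;> simp only [Category.assoc, hcs, hct, hes, het, pullback.lift_fst_assoc, pullback.lift_snd_assoc, Category.comp_id]
  i_s := his
  i_t := hit
  comp_i α := by apply hinj <;> simp only [Category.assoc, hcs, hct, his, hit, hes, het, pullback.lift_fst_assoc, pullback.lift_snd_assoc, Category.comp_id]
  i_comp α := by apply hinj <;> simp only [Category.assoc, hcs, hct, his, hit, hes, het, pullback.lift_fst_assoc, pullback.lift_snd_assoc, Category.comp_id]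

theorem mono_j_ofRel (G : Grpd.GroupoidScheme S)
    (hinj : ∀ {T : Scheme.{u}} (a b : T ⟶ G.R), a ≫ G.s = b ≫ G.s → a ≫ G.t = b ≫ G.t → a = b) :
    Mono G.j :=
  ⟨fun a b h => hinj a b
    (by simpa only [Grpd.GroupoidScheme.j, Category.assoc, pullback.lift_snd] using h =≫ pullback.snd G.pU G.pU)
    (by simpa only [Grpd.GroupoidScheme.j, Category.assoc, pullback.lift_fst] using h =≫ pullback.fst G.pU G.pU)⟩

end Groth.Agent.AlgSpBoot
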