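import Groth.Prelude.Def_Grpd
import Groth.Agent.AlgSpc.EtQuot

/-!
Relations open in the pairs over a sheaf.
-/

set_option autoImplicit false
set_option linter.style.haveILetI false

universe u

open CategoryTheory CategoryTheory.Limits AlgebraicGeometry

namespace Groth.Agent.AlgSpBoot

open _root_.AlgSp Groth.Agent.AlgSpc

variable {S : Scheme.{u}} {F : Sp S}

/-- The arrows of `G` are open in the pairs over `F`. -/
def OpenInPairs (G : Grpd.GroupoidScheme S) (c : (yon S).obj (Over.mk G.pU) ⟶ F) : Prop :=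
  ∀ (P : Over S) (π₁ π₂ : P ⟶ Over.mk G.pU), IsPullback ((yon S).map π₁) ((yon S).map π₂) c c →
    ∀ l : Over.mk G.pR ⟶ P, l ≫ π₁ = Over.homMk G.t G.t_over → l ≫ π₂ = Over.homMk G.s G.s_over →
      IsOpenImmersion l.left

/-- Pairs of an open subscheme are open in the pairs. -/
theorem isOpenImmersion_pairs {V₁ V₂ K B₁ B₂ P : Over S} {c₁ : (yon S).obj V₁ ⟶ F} {c₂ : (yon S).obj V₂ ⟶ F}
    {a : K ⟶ V₁} {b : K ⟶ V₂} (sqK : IsPullback ((yon S).map a) ((yon S).map b) c₁ c₂)
    (j₁ : B₁ ⟶ V₁) (j₂ : B₂ ⟶ V₂) [IsOpenImmersion j₁.left] [IsOpenImmersion j₂.left]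
    {π₁ : P ⟶ B₁} {π₂ : P ⟶ B₂}
    (sqP : IsPullback ((yon S).map π₁) ((yon S).map π₂) ((yon S).map j₁ ≫ c₁) ((yon S).map j₂ ≫ c₂))
    (τ : P ⟶ K) (hτa : τ ≫ a = π₁ ≫ j₁) (hτb : τ ≫ b = π₂ ≫ j₂) : IsOpenImmersion τ.left := by
  let P₁ := pullback j₁ a
  let P₂ := pullback (pullback.snd j₁ a ≫ b) j₂
  let ι : P₂ ⟶ K := pullback.fst _ _ ≫ pullback.snd j₁ a
  haveI : IsOpenImmersion (pullback.snd j₁ a).left := MorphismProperty.of_isPullback (P := @IsOpenImmersion)
    (FppfDescent.isPullback_forget (IsPullback.of_hasPullback j₁ a)) ‹_›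
  haveI : IsOpenImmersion (pullback.fst (pullback.snd j₁ a ≫ b) j₂).left :=
    MorphismProperty.of_isPullback (P := @IsOpenImmersion)
      (FppfDescent.isPullback_forget (IsPullback.of_hasPullback (pullback.snd j₁ a ≫ b) j₂)).flip ‹_›
  haveI : IsOpenImmersion ι.left := by
    show IsOpenImmersion ((pullback.fst (pullback.snd j₁ a ≫ b) j₂).left ≫ (pullback.snd j₁ a).left)
    infer_instance
  have h₁ : IsPullback ((yon S).map (pullback.fst j₁ a)) ((yon S).map (pullback.snd j₁ a ≫ b))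
      ((yon S).map j₁ ≫ c₁) c₂ := by
    rw [Functor.map_comp]
    exact ((IsPullback.of_hasPullback j₁ a).map (yon S)).paste_vert sqK
  have h₂ : IsPullback ((yon S).map (pullback.fst (pullback.snd j₁ a ≫ b) j₂ ≫ pullback.fst j₁ a))
      ((yon S).map (pullback.snd (pullback.snd j₁ a ≫ b) j₂)) ((yon S).map j₁ ≫ c₁) ((yon S).map j₂ ≫ c₂) := by
    rw [Functor.map_comp]
    exact ((IsPullback.of_hasPullback (pullback.snd j₁ a ≫ b) j₂).map (yon S)).paste_horiz h₁
  let φ := sqP.isoIsPullback _ _ h₂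
  have e₁ : pre φ.hom ≫ pullback.fst (pullback.snd j₁ a ≫ b) j₂ ≫ pullback.fst j₁ a = π₁ :=
    (yon S).map_injective (by rw [Functor.map_comp, map_pre]; exact sqP.isoIsPullback_hom_fst _ _ h₂)
  have e₂ : pre φ.hom ≫ pullback.snd (pullback.snd j₁ a ≫ b) j₂ = π₂ :=
    (yon S).map_injective (by rw [Functor.map_comp, map_pre]; exact sqP.isoIsPullback_hom_snd _ _ h₂)
  have hφ : pre φ.hom ≫ ι = τ := by
    refine (yon S).map_injective (sqK.hom_ext ?_ ?_) <;> rw [← Functor.map_comp, ← Functor.map_comp]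
    · rw [hτa, ← e₁]
      simp only [ι, Category.assoc, pullback.condition]
    · rw [hτb, ← e₂]
      simp only [ι, Category.assoc, pullback.condition]
  haveI : IsIso (pre φ.hom) := by
    haveI : IsIso ((yon S).map (pre φ.hom)) := by rw [map_pre]; infer_instance
    exact isIso_of_fully_faithful (yon S) _
  haveI : IsIso (pre φ.hom).left := inferInstanceAs (IsIso ((Over.forget S).map (pre φ.hom)))
  rw [← hφ, Over.comp_left]
  infer_instance

end Groth.Agent.AlgSpBoot
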