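import Groth.Agent.AlgSpBoot.Rigid
import Groth.Agent.AlgSpBoot.OfRel
import Groth.Agent.AlgSpBoot.OpenPairs

/-!
A finite flat equivalence relation, open in the pairs over the sheaf, on an etale neighbourhood.
-/

set_option autoImplicit false
set_option linter.style.haveILetI false
set_option backward.isDefEq.respectTransparency false

universe u

open CategoryTheory CategoryTheory.Limits AlgebraicGeometry

namespace Groth.Agent.AlgSpBoot

open _root_.AlgSp Groth.Agent.AlgSpc Groth.Agent.AlgSpLoc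

variable {S : Scheme.{u}}

set_option maxHeartbeats 800000 in
/-- Step three. -/
theorem exists_finite_rel {F : Sp S} {A : Over S} [IsAffine A.left]
    {q : (yon S).obj A ⟶ F}
    (hq : RepWith (@Flat ⊓ @LocallyOfFinitePresentation ⊓ @LocallyQuasiFinite) q) (x : A.left) :
    ∃ (G : Grpd.GroupoidScheme S) (gU : Over.mk G.pU ⟶ A) (y : G.U),
      IsFinite G.s ∧ Flat G.s ∧ LocallyOfFinitePresentation G.s ∧ Mono G.j ∧ Etale gU.left ∧
      gU.left y = x ∧ (∀ r : G.R, G.s r = y → G.t r = y) ∧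
      (yon S).map (Over.homMk G.t G.t_over : Over.mk G.pR ⟶ Over.mk G.pU) ≫ (yon S).map gU ≫ q =
        (yon S).map (Over.homMk G.s G.s_over : Over.mk G.pR ⟶ Over.mk G.pU) ≫ (yon S).map gU ≫ q ∧
      OpenInPairs G ((yon S).map gU ≫ q) := by
  obtain ⟨R, fst, p₂, sq⟩ := exists_sq hq.1 q
  obtain ⟨⟨hfl₂, hfp₂⟩, hqf₂⟩ := hq.2 q fst p₂ sq
  haveI : Flat p₂.left := hfl₂
  haveI : LocallyOfFinitePresentation p₂.left := hfp₂
  haveI : LocallyQuasiFinite p₂.left := hqf₂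
  let p₁ : R ⟶ A := pre fst
  rw [← map_pre fst] at sq
  obtain ⟨e, he₁, he₂⟩ := exists_diag sq
  obtain ⟨V, g, Z, y₀, hg, hZ, hZf, hgy, hδy, huniq, hrigid⟩ := exists_rigid sq he₂ x
  haveI : Etale g.left := hg
  have sqV := sqX sq g
  let X := pullback p₂ g
  let aX : X ⟶ A := pullback.fst p₂ g ≫ p₁
  let xX : X ⟶ V := pullback.snd p₂ g
  haveI : Flat xX.left := MorphismProperty.of_isPullback (P := @Flat)
    (FppfDescent.isPullback_forget (IsPullback.of_hasPullback p₂ g)) ‹_›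
  haveI : LocallyOfFinitePresentation xX.left :=
    MorphismProperty.of_isPullback (P := @LocallyOfFinitePresentation)
      (FppfDescent.isPullback_forget (IsPullback.of_hasPullback p₂ g)) ‹_›
  haveI : IsFinite (Z.ι ≫ xX.left) := hZf
  let δ : V ⟶ X := diagPt he₂ g
  have hδa : δ ≫ aX = g := by
    simp only [δ, aX, diagPt, pullback.lift_fst_assoc, Category.assoc]
    rw [show e ≫ p₁ = 𝟙 A from he₁, Category.comp_id]
  have hδx : δ ≫ xX = 𝟙 V := pullback.lift_snd _ _ _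
  let good : V.left.Opens := δ.left ⁻¹ᵁ Z
  -- pairs over `F`
  let K := pullback aX g
  let a : K ⟶ V := pullback.snd aX g
  let b : K ⟶ V := pullback.fst aX g ≫ xX
  have hab : (yon S).map a ≫ (yon S).map g ≫ q = (yon S).map b ≫ (yon S).map g ≫ q := by
    rw [← Functor.map_comp_assoc, ← pullback.condition, Functor.map_comp_assoc, sqV.w,
      ← Functor.map_comp_assoc]
  obtain ⟨O, -, hO⟩ := exists_eqLocus sqV Z hZ a b hab
  let Q := openSub K (O ⊓ a.left ⁻¹ᵁ good)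
  let ιQ : Q ⟶ K := openSubι K _
  let κ : Q ⟶ X := ιQ ≫ pullback.fst aX g
  have hQsat : Sat aX xX Z (ιQ ≫ a) (ιQ ≫ b) := (hO ιQ).2 (by
    rw [range_openSubι]; exact fun z hz => hz.1)
  have hQgood : ∀ r : Q.left, a.left (ιQ.left r) ∈ good := fun r =>
    ((range_openSubι K _).le ⟨r, rfl⟩).2
  have hκa : κ ≫ aX = (ιQ ≫ a) ≫ g := by
    simp only [κ, a, Category.assoc, pullback.condition]
  have hκx : κ ≫ xX = ιQ ≫ b := Category.assoc _ _ _
  have toQ : ∀ {T : Over S} (k : T ⟶ K), Sat aX xX Z (k ≫ a) (k ≫ b) →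
      (∀ t, a.left (k.left t) ∈ good) → ∃ r : T ⟶ Q, r ≫ ιQ = k := fun k h₁ h₂ =>
    exists_openSub_lift _ k fun t => ⟨(hO k).1 h₁ ⟨t, rfl⟩, h₂ t⟩
  -- `κ` is an open immersion into `Z`
  have hκZ : ∀ r, κ.left r ∈ Z := fun r => by
    have := hQsat (𝟙 Q) (ιQ ≫ a ≫ δ) κ
      (by rw [hκa]; simp only [Category.assoc, hδa])
      (by simp only [Category.assoc, hδx, Category.comp_id, Category.id_comp])
      (by rw [hκx, Category.id_comp]) r
    simp only [Over.comp_left, Scheme.Hom.comp_apply] at this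
    exact this.1 (hQgood r)
  haveI : Mono ιQ := (Over.forget S).mono_of_mono_map (inferInstanceAs (Mono (Scheme.Opens.ι _)))
  haveI : Mono κ := ⟨fun {T} r r' h => by
    refine (cancel_mono ιQ).1 (pullback.hom_ext ?_ ?_)
    · simpa only [κ, Category.assoc] using h
    have hb : r ≫ ιQ ≫ b = r' ≫ ιQ ≫ b := by rw [← hκx, reassoc_of% h]
    have hga : (r ≫ ιQ ≫ a) ≫ g = (r' ≫ ιQ ≫ a) ≫ g := by
      have := congrArg (· ≫ aX) h
      simpa only [Category.assoc, hκa] using this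
    have h₁ : Sat aX xX Z (r ≫ ιQ ≫ a) (r ≫ ιQ ≫ b) := hQsat.comp r
    have h₂ : Sat aX xX Z (r' ≫ ιQ ≫ a) (r' ≫ ιQ ≫ b) := hQsat.comp r'
    rw [← hb] at h₂
    have := hrigid _ _ hga (h₁.trans sqV (by simp only [Functor.map_comp, Category.assoc, hab]) h₂.symm)
    simpa only [Category.assoc] using this⟩
  haveI : Mono κ.left := inferInstanceAs (Mono ((Over.forget S).map κ))
  haveI : Etale (pullback.fst aX g).left := MorphismProperty.of_isPullback (P := @Etale)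
    (FppfDescent.isPullback_forget (IsPullback.of_hasPullback aX g).flip) hg
  haveI : Etale κ.left := by
    show Etale (ιQ.left ≫ (pullback.fst aX g).left)
    haveI : IsOpenImmersion ιQ.left := inferInstanceAs (IsOpenImmersion (Scheme.Opens.ι _))
    infer_instance
  haveI : IsOpenImmersion κ.left := IsOpenImmersion.of_flat_of_mono κ.left
  -- the invariant locus
  have hbad : IsClosed (xX.left '' ((Z : Set X.left) \ Set.range κ.left)) := by
    have := (Z.ι ≫ xX.left).isClosedMap _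
      ((κ.left.isOpenEmbedding.isOpen_range.isClosed_compl).preimage Z.ι.continuous)
    convert this using 1
    ext v
    constructor
    · rintro ⟨z, hz, rfl⟩; exact ⟨⟨z, hz.1⟩, hz.2, rfl⟩
    · rintro ⟨z, hz, rfl⟩; exact ⟨z.1, ⟨z.2, hz⟩, rfl⟩
  let B₀ : V.left.Opens := good ⊓ ⟨(xX.left '' ((Z : Set X.left) \ Set.range κ.left))ᶜ, hbad.isOpen_compl⟩
  have hB₀ : ∀ v ∈ B₀, ∀ z ∈ Z, xX.left z = v → z ∈ Set.range κ.left := fun v hv z hz hzv => by
    by_contra hh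
    exact hv.2 ⟨z, ⟨hz, hh⟩, hzv⟩
  have hdiagQ : ∀ {T : Over S} (v : T ⟶ V), (∀ t, v.left t ∈ good) →
      ∃ r : T ⟶ Q, r ≫ ιQ ≫ a = v ∧ r ≫ ιQ ≫ b = v ∧ r ≫ κ = v ≫ δ := fun {T} v hv => by
    let k : T ⟶ K := pullback.lift (v ≫ δ) v (by rw [Category.assoc, hδa])
    have ha : k ≫ a = v := pullback.lift_snd _ _ _
    have hb : k ≫ b = v := by
      simp only [k, b, pullback.lift_fst_assoc, Category.assoc, hδx, Category.comp_id]
    obtain ⟨r, hr⟩ := toQ k (by rw [ha, hb]; exact sat_self sqV Z v)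
      (fun t => by rw [← Scheme.Hom.comp_apply, ← Over.comp_left, ha]; exact hv t)
    exact ⟨r, by rw [reassoc_of% hr, ha], by rw [reassoc_of% hr, hb],
      by simp only [κ, reassoc_of% hr, k, pullback.lift_fst]⟩
  have hy₀ : y₀ ∈ B₀ := by
    refine ⟨hδy, ?_⟩
    rintro ⟨z, ⟨hz, hzκ⟩, hzy⟩
    obtain rfl := huniq z hz hzy
    obtain ⟨r, -, -, hr⟩ := hdiagQ (openSubι V good) (fun t => t.2)
    refine hzκ ⟨r.left ⟨y₀, hδy⟩, ?_⟩
    rw [← Scheme.Hom.comp_apply, ← Over.comp_left, hr]; rfl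
  have hinv : ∀ r : Q.left, b.left (ιQ.left r) ∈ B₀ → a.left (ιQ.left r) ∈ B₀ := by
    intro r hr
    refine ⟨hQgood r, ?_⟩
    rintro ⟨z, ⟨hz, hzκ⟩, hzr⟩
    obtain ⟨w, hw₁, hw₂⟩ := Scheme.exists_preimage_of_isPullback
      (FppfDescent.isPullback_forget (IsPullback.of_hasPullback (ιQ ≫ a) xX)) r z hzr.symm
    let W := pullback (ιQ ≫ a) xX
    let m₁ : W ⟶ X := pullback.snd _ _
    have hm₁ : m₁ ≫ xX = pullback.fst (ιQ ≫ a) xX ≫ ιQ ≫ a := pullback.condition.symm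
    obtain ⟨m₂, hm₂a, hm₂x⟩ := exists_lift_X sqV (m₁ ≫ aX) (pullback.fst (ιQ ≫ a) xX ≫ ιQ ≫ b) (by
      rw [Functor.map_comp_assoc, sqV.w, ← Functor.map_comp_assoc, hm₁]
      simp only [Functor.map_comp, Category.assoc, hab])
    have hmem := hQsat (pullback.fst (ιQ ≫ a) xX) m₁ m₂ hm₂a.symm hm₁ hm₂x w
    rw [show m₁.left w = z from hw₂] at hmem
    have hbz : xX.left (m₂.left w) = b.left (ιQ.left r) := by
      rw [← Scheme.Hom.comp_apply, ← Over.comp_left, hm₂x, Over.comp_left, Scheme.Hom.comp_apply, hw₁]; rfl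
    obtain ⟨r', hr'⟩ := hB₀ _ hr _ (hmem.1 hz) hbz
    obtain ⟨w', hw'₁, hw'₂⟩ := Scheme.exists_preimage_of_isPullback
      (FppfDescent.isPullback_forget (IsPullback.of_hasPullback m₂ κ)) w r' hr'.symm
    let u := pullback.fst m₂ κ
    let u' := pullback.snd m₂ κ
    have hu : u ≫ m₂ = u' ≫ κ := pullback.condition
    let k : pullback m₂ κ ⟶ K := pullback.lift (u ≫ m₁) (u' ≫ ιQ ≫ a)
      (by rw [Category.assoc, Category.assoc, ← hm₂a, reassoc_of% hu, hκa])
    have hka : k ≫ a = u' ≫ ιQ ≫ a := pullback.lift_snd _ _ _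
    have hkb : k ≫ b = u ≫ pullback.fst (ιQ ≫ a) xX ≫ ιQ ≫ a := by
      simp only [k, b, pullback.lift_fst_assoc, Category.assoc, hm₁]
    have hbb : u' ≫ ιQ ≫ b = u ≫ pullback.fst (ιQ ≫ a) xX ≫ ιQ ≫ b := by
      refine (congrArg (u' ≫ ·) hκx.symm).trans ?_
      show u' ≫ κ ≫ xX = _
      rw [← reassoc_of% hu, hm₂x]
    have h₁ : Sat aX xX Z (u' ≫ ιQ ≫ a) (u' ≫ ιQ ≫ b) := hQsat.comp u'
    have h₂ := (hQsat.comp (pullback.fst (ιQ ≫ a) xX)).comp u
    rw [← hbb] at h₂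
    obtain ⟨r'', hr''⟩ := toQ k (by
        rw [hka, hkb]
        exact h₁.trans sqV (by simp only [Functor.map_comp, Category.assoc, hab]) h₂.symm)
      (fun t => by rw [← Scheme.Hom.comp_apply, ← Over.comp_left, hka]; exact hQgood _)
    refine hzκ ⟨r''.left w', ?_⟩
    rw [← Scheme.Hom.comp_apply, ← Over.comp_left,
      show r'' ≫ κ = u ≫ m₁ by simp only [κ, reassoc_of% hr'', k, pullback.lift_fst],
      Over.comp_left, Scheme.Hom.comp_apply, show u.left w' = w from hw'₁]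
    exact hw₂
  -- the groupoid on `B₀`
  let B := openSub V B₀
  let jB : B ⟶ V := openSubι V B₀
  let RB := openSub Q ((ιQ ≫ b).left ⁻¹ᵁ B₀)
  let jR : RB ⟶ Q := openSubι Q _
  haveI : Mono jB := (Over.forget S).mono_of_mono_map (inferInstanceAs (Mono B₀.ι))
  haveI : Mono jR := (Over.forget S).mono_of_mono_map (inferInstanceAs (Mono (Scheme.Opens.ι _)))
  obtain ⟨sB, hsB⟩ := exists_openSub_lift B₀ (jR ≫ ιQ ≫ b)
    fun r => ((range_openSubι Q ((ιQ ≫ b).left ⁻¹ᵁ B₀)).le ⟨r, rfl⟩ :)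
  obtain ⟨tB, htB⟩ := exists_openSub_lift B₀ (jR ≫ ιQ ≫ a)
    fun r => hinv _ ((range_openSubι Q ((ιQ ≫ b).left ⁻¹ᵁ B₀)).le ⟨r, rfl⟩ :)
  change sB ≫ jB = _ at hsB
  change tB ≫ jB = _ at htB
  have toR : ∀ {T : Over S} (v v' : T ⟶ B), (yon S).map (v ≫ jB) ≫ (yon S).map g ≫ q =
        (yon S).map (v' ≫ jB) ≫ (yon S).map g ≫ q →
      Sat aX xX Z (v' ≫ jB) (v ≫ jB) → ∃ r : T ⟶ RB, r ≫ sB = v ∧ r ≫ tB = v' := by
    intro T v v' h hs
    obtain ⟨m, hm₁, hm₂⟩ := exists_lift_X sqV (v' ≫ jB ≫ g) (v ≫ jB) (by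
      simp only [Functor.map_comp, Category.assoc] at h ⊢; exact h.symm)
    let k : T ⟶ K := pullback.lift m (v' ≫ jB) (by rw [Category.assoc]; exact hm₁)
    have hka : k ≫ a = v' ≫ jB := pullback.lift_snd _ _ _
    have hkb : k ≫ b = v ≫ jB := by simp only [k, b, pullback.lift_fst_assoc]; exact hm₂
    obtain ⟨r₀, hr₀⟩ := toQ k (by rw [hka, hkb]; exact hs) (fun t => by
      rw [← Scheme.Hom.comp_apply, ← Over.comp_left, hka]
      exact ((range_openSubι V B₀).le ⟨v'.left t, rfl⟩).1)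
    obtain ⟨r, hr⟩ := exists_openSub_lift ((ιQ ≫ b).left ⁻¹ᵁ B₀) r₀ (fun t => by
      show (ιQ ≫ b).left (r₀.left t) ∈ B₀
      rw [← Scheme.Hom.comp_apply, ← Over.comp_left, reassoc_of% hr₀, hkb]
      exact (range_openSubι V B₀).le ⟨v.left t, rfl⟩)
    exact ⟨r, (cancel_mono jB).1 (by rw [Category.assoc, hsB, reassoc_of% hr, reassoc_of% hr₀, hkb]),
      (cancel_mono jB).1 (by rw [Category.assoc, htB, reassoc_of% hr, reassoc_of% hr₀, hka])⟩
  have fromR : ∀ {T : Over S} (r : T ⟶ RB), (yon S).map ((r ≫ tB) ≫ jB) ≫ (yon S).map g ≫ q =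
        (yon S).map ((r ≫ sB) ≫ jB) ≫ (yon S).map g ≫ q ∧
      Sat aX xX Z ((r ≫ tB) ≫ jB) ((r ≫ sB) ≫ jB) := fun {T} r => by
    simp only [Category.assoc, hsB, htB]
    exact ⟨by simp only [Functor.map_comp, Category.assoc, hab], (hQsat.comp jR).comp r⟩
  have hinj : ∀ {T : Over S} (r r' : T ⟶ RB), r ≫ sB = r' ≫ sB → r ≫ tB = r' ≫ tB → r = r' := by
    intro T r r' h₁ h₂
    have hb := congrArg (· ≫ jB) h₁
    have ha := congrArg (· ≫ jB) h₂
    simp only [Category.assoc, hsB, htB] at hb ha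
    refine (cancel_mono jR).1 ((cancel_mono κ).1 (hom_ext_X sqV ?_ ?_))
    · show ((r ≫ jR) ≫ κ) ≫ aX = ((r' ≫ jR) ≫ κ) ≫ aX
      simp only [Category.assoc, hκa, reassoc_of% ha]
    · show ((r ≫ jR) ≫ κ) ≫ xX = ((r' ≫ jR) ≫ κ) ≫ xX
      simp only [Category.assoc, hκx, hb]
  obtain ⟨eB, heBs, heBt⟩ := toR (𝟙 B) (𝟙 B) rfl (sat_self sqV Z _)
  obtain ⟨iB, hiBs, hiBt⟩ := toR tB sB
    (by simpa only [Category.id_comp] using (fromR (𝟙 RB)).1)
    (by simpa only [Category.id_comp] using (fromR (𝟙 RB)).2.symm)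
  obtain ⟨hc₁, hc₁'⟩ := fromR (pullback.fst sB tB)
  obtain ⟨hc₂, hc₂'⟩ := fromR (pullback.snd sB tB)
  simp only [← pullback.condition (f := sB) (g := tB)] at hc₂ hc₂'
  obtain ⟨cB, hcBs, hcBt⟩ := toR (pullback.snd sB tB ≫ sB) (pullback.fst sB tB ≫ tB)
    (hc₁.trans hc₂).symm (hc₁'.trans sqV hc₁ hc₂')
  have ov : ∀ {T : Scheme.{u}} (r : T ⟶ RB.left), ∃ (T' : Over S) (r' : T' ⟶ RB) (h : T'.left = T),
      r'.left = eqToHom h ≫ r := fun {T} r => ⟨Over.mk (r ≫ RB.hom), Over.homMk r rfl, rfl, by simp⟩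
  have hinjS : ∀ {T : Scheme.{u}} (r r' : T ⟶ RB.left), r ≫ sB.left = r' ≫ sB.left →
      r ≫ tB.left = r' ≫ tB.left → r = r' := by
    intro T r r' h₁ h₂
    have hw : r' ≫ RB.hom = r ≫ RB.hom := by
      rw [← Over.w sB, ← reassoc_of% h₁]
    exact congrArg CommaMorphism.left (hinj (T := Over.mk (r ≫ RB.hom)) (Over.homMk r rfl) (Over.homMk r' hw)
      (Over.OverMorphism.ext h₁) (Over.OverMorphism.ext h₂))
  have sqc := FppfDescent.isPullback_forget (IsPullback.of_hasPullback sB tB)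
  let G : Grpd.GroupoidScheme S := ofRel B.hom sB.left tB.left
    ((Over.w tB).trans (Over.w sB).symm) hinjS
    eB.left (congrArg CommaMorphism.left heBs) (congrArg CommaMorphism.left heBt)
    iB.left (congrArg CommaMorphism.left hiBs) (congrArg CommaMorphism.left hiBt)
    (sqc.isoPullback.inv ≫ cB.left)
    (by rw [Category.assoc, ← Over.comp_left, hcBs, Over.comp_left, sqc.isoPullback_inv_snd_assoc])
    (by rw [Category.assoc, ← Over.comp_left, hcBt, Over.comp_left, sqc.isoPullback_inv_fst_assoc])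
  haveI : Mono G.j := mono_j_ofRel G hinjS
  -- the source map is finite flat
  let Z_B : X.left.Opens := Z ⊓ xX.left ⁻¹ᵁ B₀
  have hjRκ : Set.range (jR.left ≫ κ.left) = (Z_B : Set X.left) := by
    ext z
    constructor
    · rintro ⟨r, rfl⟩
      refine ⟨hκZ _, ?_⟩
      show xX.left _ ∈ B₀
      rw [Scheme.Hom.comp_apply, ← Scheme.Hom.comp_apply, ← Over.comp_left, hκx]
      exact (range_openSubι Q ((ιQ ≫ b).left ⁻¹ᵁ B₀)).le ⟨r, rfl⟩
    · intro hz
      obtain ⟨r, rfl⟩ := hB₀ _ hz.2 z hz.1 rfl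
      have hr : r ∈ (ιQ ≫ b).left ⁻¹ᵁ B₀ := by
        show (ιQ ≫ b).left r ∈ B₀
        rw [← hκx]; exact hz.2
      exact ⟨(⟨r, hr⟩ : ((ιQ ≫ b).left ⁻¹ᵁ B₀ : Q.left.Opens).toScheme), rfl⟩
  haveI : IsOpenImmersion jR.left := inferInstanceAs (IsOpenImmersion (Scheme.Opens.ι _))
  haveI : IsOpenImmersion jB.left := inferInstanceAs (IsOpenImmersion B₀.ι)
  have hsBleft : sB.left ≫ jB.left = (jR.left ≫ κ.left) ≫ xX.left := by
    have h : sB ≫ jB = (jR ≫ κ) ≫ xX := by rw [hsB, Category.assoc, hκx]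
    exact congrArg CommaMorphism.left h
  obtain ⟨hsfin, hsflat, hsfp⟩ : IsFinite G.s ∧ Flat G.s ∧ LocallyOfFinitePresentation G.s := by
    let W₀ : (Z : Scheme.{u}).Opens := (Z.ι ≫ xX.left) ⁻¹ᵁ B₀
    have hW : Set.range (W₀.ι ≫ Z.ι) = Set.range (jR.left ≫ κ.left) := by
      rw [hjRκ]
      ext z
      constructor
      · rintro ⟨⟨z', hz'⟩, rfl⟩; exact ⟨z'.2, hz'⟩
      · intro hz; exact ⟨⟨⟨z, hz.1⟩, hz.2⟩, rfl⟩
    let i := IsOpenImmersion.isoOfRangeEq (jR.left ≫ κ.left) (W₀.ι ≫ Z.ι) hW.symm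
    have hi : sB.left = i.hom ≫ ((Z.ι ≫ xX.left) ∣_ B₀) := by
      rw [← cancel_mono jB.left, hsBleft, Category.assoc]
      show _ = i.hom ≫ ((Z.ι ≫ xX.left) ∣_ B₀) ≫ B₀.ι
      rw [morphismRestrict_ι, ← Category.assoc W₀.ι, ← Category.assoc i.hom,
        IsOpenImmersion.isoOfRangeEq_hom_fac, Category.assoc]
    refine ⟨?_, ?_, ?_⟩
    · show IsFinite sB.left
      haveI : IsFinite ((Z.ι ≫ xX.left) ∣_ B₀) := IsZariskiLocalAtTarget.restrict (P := @IsFinite) inferInstance _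
      rw [hi]; infer_instance
    · show Flat sB.left
      haveI : Flat ((Z.ι ≫ xX.left) ∣_ B₀) := IsZariskiLocalAtTarget.restrict (P := @Flat) inferInstance _
      rw [hi]; infer_instance
    · show LocallyOfFinitePresentation sB.left
      haveI : LocallyOfFinitePresentation ((Z.ι ≫ xX.left) ∣_ B₀) :=
        IsZariskiLocalAtTarget.restrict (P := @LocallyOfFinitePresentation) inferInstance _
      rw [hi]; infer_instance
  haveI := hsfin; haveI := hsflat; haveI := hsfp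
  refine ⟨G, jB ≫ g, (⟨y₀, hy₀⟩ : (B₀ : Scheme.{u})), hsfin, hsflat, hsfp, ‹Mono G.j›, ?_, ?_, ?_, ?_, ?_⟩
  · show Etale (jB.left ≫ g.left); infer_instance
  · exact hgy
  · intro r hr
    have hz : xX.left (κ.left (jR.left r)) = y₀ := by
      refine (Eq.trans ?_ (congrArg jB.left hr))
      show ((jR.left ≫ κ.left) ≫ xX.left) r = (sB.left ≫ jB.left) r
      rw [hsBleft]
    have h := huniq _ (hκZ _) hz
    obtain ⟨r₀, hr₀a, -, hr₀⟩ := hdiagQ jB (fun t => ((range_openSubι V B₀).le ⟨t, rfl⟩).1)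
    have hre : jR.left r = (r₀.left ⟨y₀, hy₀⟩) := κ.left.isOpenEmbedding.injective (by
      rw [h, ← Scheme.Hom.comp_apply, ← Over.comp_left, hr₀]; rfl)
    have ht : jB.left (G.t r) = y₀ := by
      show jB.left (tB.left r) = y₀
      rw [← Scheme.Hom.comp_apply, ← Over.comp_left, htB, Over.comp_left, Scheme.Hom.comp_apply, hre,
        ← Scheme.Hom.comp_apply, ← Over.comp_left, hr₀a]
      rfl
    exact jB.left.isOpenEmbedding.injective ht
  · have h := (fromR (𝟙 RB)).1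
    simp only [Category.id_comp, Category.assoc, Functor.map_comp] at h
    let ψ : Over.mk G.pR ⟶ RB := Over.homMk (𝟙 _) (by show 𝟙 _ ≫ RB.hom = sB.left ≫ B.hom; rw [Category.id_comp, Over.w sB])
    have h' := congrArg ((yon S).map ψ ≫ ·) h
    simp only [← Functor.map_comp_assoc] at h'
    have e₁ : ψ ≫ tB = (Over.homMk (U := Over.mk G.pR) (V := Over.mk G.pU) G.t G.t_over : Over.mk G.pR ⟶ Over.mk G.pU) :=
      Over.OverMorphism.ext (show 𝟙 _ ≫ tB.left = tB.left from Category.id_comp _)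
    have e₂ : ψ ≫ sB = (Over.homMk (U := Over.mk G.pR) (V := Over.mk G.pU) G.s G.s_over : Over.mk G.pR ⟶ Over.mk G.pU) :=
      Over.OverMorphism.ext (show 𝟙 _ ≫ sB.left = sB.left from Category.id_comp _)
    rw [reassoc_of% e₁, reassoc_of% e₂] at h'
    simpa only [Functor.map_comp, Category.assoc] using h'
  · have sqK : IsPullback ((yon S).map a) ((yon S).map b) ((yon S).map g ≫ q) ((yon S).map g ≫ q) := by
      have h₁ := ((IsPullback.of_hasPullback aX g).flip.map (yon S)).paste_vert sqV.flip.flip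
      simpa only [b, a, Functor.map_comp] using h₁
    intro P π₁ π₂ sqP l hl₁ hl₂
    rw [Functor.map_comp, Category.assoc] at sqP
    obtain ⟨τ, hτa, hτb⟩ : ∃ τ : P ⟶ K, τ ≫ a = π₁ ≫ jB ∧ τ ≫ b = π₂ ≫ jB :=
      ⟨pre (sqK.lift ((yon S).map (π₁ ≫ jB)) ((yon S).map (π₂ ≫ jB))
          (by simpa only [Functor.map_comp, Category.assoc] using sqP.w)),
        (yon S).map_injective (by simp), (yon S).map_injective (by simp)⟩
    haveI : IsOpenImmersion τ.left := isOpenImmersion_pairs sqK jB jB sqP τ hτa hτb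
    haveI : IsOpenImmersion ιQ.left := inferInstanceAs (IsOpenImmersion (Scheme.Opens.ι _))
    let ψ : Over.mk G.pR ⟶ RB := Over.homMk (𝟙 _) (by show 𝟙 _ ≫ RB.hom = sB.left ≫ B.hom; rw [Category.id_comp, Over.w sB])
    have e₁ : ψ ≫ tB = (Over.homMk (U := Over.mk G.pR) (V := Over.mk G.pU) G.t G.t_over : Over.mk G.pR ⟶ Over.mk G.pU) :=
      Over.OverMorphism.ext (show 𝟙 _ ≫ tB.left = tB.left from Category.id_comp _)
    have e₂ : ψ ≫ sB = (Over.homMk (U := Over.mk G.pR) (V := Over.mk G.pU) G.s G.s_over : Over.mk G.pR ⟶ Over.mk G.pU) :=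
      Over.OverMorphism.ext (show 𝟙 _ ≫ sB.left = sB.left from Category.id_comp _)
    have hl : l ≫ τ = ψ ≫ jR ≫ ιQ := (yon S).map_injective (sqK.hom_ext
      (by simp only [← Functor.map_comp, Category.assoc, hτa, reassoc_of% hl₁, ← htB, reassoc_of% e₁])
      (by simp only [← Functor.map_comp, Category.assoc, hτb, reassoc_of% hl₂, ← hsB, reassoc_of% e₂]))
    haveI : IsIso ψ.left := by show IsIso (𝟙 _); infer_instance
    haveI : IsOpenImmersion (l.left ≫ τ.left) := by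
      rw [← Over.comp_left, hl, Over.comp_left, Over.comp_left]; infer_instance
    exact IsOpenImmersion.of_comp l.left τ.left

end Groth.Agent.AlgSpBoot
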