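import Groth.Agent.AlgSpBoot.SpaceRel

/-!
The equivalence relation of a free action of a group sheaf.
-/

set_option autoImplicit false
set_option linter.style.haveILetI false
set_option backward.isDefEq.respectTransparency false

universe u

open CategoryTheory CategoryTheory.Limits AlgebraicGeometry MonoidalCategory CartesianMonoidalCategory MonObj

namespace Groth.Agent.AlgSpBoot

open _root_.AlgSp Groth.Agent.AlgSpc Groth.Agent.AlgSpLoc

variable {S : Scheme.{u}} {B : Sp S} {G X : Over B} [GrpObj G] (a : GAction G X)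

attribute [local instance] Hom.group

theorem act_one {Z : Over B} (x : Z ⟶ X) : lift (toUnit Z ≫ η[G]) x ≫ a.act = x := by
  have h : lift (toUnit Z ≫ η[G]) x = lift (toUnit Z) x ≫ (η[G] ▷ X) := by simp
  rw [h, Category.assoc, a.one_act]
  simp

theorem act_mul {Z : Over B} (g h : Z ⟶ G) (x : Z ⟶ X) :
    lift (g * h) x ≫ a.act = lift g (lift h x ≫ a.act) ≫ a.act := by
  have e : lift (g * h) x = lift (lift g h) x ≫ (μ[G] ▷ X) := by
    rw [Hom.mul_def]; simp
  rw [e, Category.assoc, a.mul_act]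
  simp

theorem act_inv {Z : Over B} (g : Z ⟶ G) (x : Z ⟶ X) :
    lift g⁻¹ (lift g x ≫ a.act) ≫ a.act = x := by
  rw [← act_mul, inv_mul_cancel, Hom.one_def, act_one]

/-- The pre-relation of a free action is an equivalence relation. -/
theorem isEqvRelSp_action (ha : a.IsFree) : IsEqvRelSp (snd G X).left a.act.left := by
  constructor
  · intro T r r' ht hs
    let β := r ≫ (G ⊗ X).hom
    have hβ : r' ≫ (G ⊗ X).hom = β := by
      show r' ≫ (G ⊗ X).hom = r ≫ (G ⊗ X).hom
      rw [← Over.w (snd G X), reassoc_of% hs]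
    let p : Over.mk β ⟶ G ⊗ X := Over.homMk r rfl
    let p' : Over.mk β ⟶ G ⊗ X := Over.homMk r' hβ
    have h₁ : p ≫ a.act = p' ≫ a.act := Over.OverMorphism.ext ht
    have h₂ : p ≫ snd G X = p' ≫ snd G X := Over.OverMorphism.ext hs
    have hp : lift (p ≫ fst G X) (p ≫ snd G X) = p := by apply CartesianMonoidalCategory.hom_ext <;> simp
    have hp' : lift (p' ≫ fst G X) (p' ≫ snd G X) = p' := by apply CartesianMonoidalCategory.hom_ext <;> simp
    have hfix : lift ((p' ≫ fst G X)⁻¹ * (p ≫ fst G X)) (p ≫ snd G X) ≫ a.act = p ≫ snd G X := by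
      rw [act_mul, hp, h₁]
      calc lift (p' ≫ fst G X)⁻¹ (p' ≫ a.act) ≫ a.act
          = lift (p' ≫ fst G X)⁻¹ (lift (p' ≫ fst G X) (p' ≫ snd G X) ≫ a.act) ≫ a.act := by rw [hp']
        _ = p ≫ snd G X := by rw [act_inv, h₂]
    have h₃ : p ≫ fst G X = p' ≫ fst G X := by
      have := ha β _ _ hfix
      rw [← Hom.one_def, inv_mul_eq_one] at this
      exact this.symm
    have : p = p' := CartesianMonoidalCategory.hom_ext _ _ h₃ h₂
    exact congrArg CommaMorphism.left this
  · intro T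
    have key : ∀ x y : (yon S).obj T ⟶ X.left, (∃ r, r ≫ a.act.left = x ∧ r ≫ (snd G X).left = y) ↔
        ∃ (β : (yon S).obj T ⟶ B) (g : Over.mk β ⟶ G) (y' : Over.mk β ⟶ X),
          y'.left = y ∧ (lift g y' ≫ a.act).left = x := fun x y => by
      constructor
      · rintro ⟨r, rfl, rfl⟩
        let p : Over.mk (r ≫ (G ⊗ X).hom) ⟶ G ⊗ X := Over.homMk r rfl
        refine ⟨_, p ≫ fst G X, p ≫ snd G X, rfl, ?_⟩
        rw [show lift (p ≫ fst G X) (p ≫ snd G X) = p by apply CartesianMonoidalCategory.hom_ext <;> simp]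
        rfl
      · rintro ⟨β, g, y', rfl, rfl⟩
        exact ⟨(lift g y').left, rfl, by rw [← Over.comp_left, lift_snd]⟩
    refine ⟨fun x => (key x x).2 ?_, fun {x y} h => ?_, fun {x y z} h h' => ?_⟩
    · let x' : Over.mk (x ≫ X.hom) ⟶ X := Over.homMk x rfl
      exact ⟨_, toUnit _ ≫ η[G], x', rfl, by rw [act_one]; rfl⟩
    · obtain ⟨β, g, y', rfl, rfl⟩ := (key x y).1 h
      exact (key _ _).2 ⟨β, g⁻¹, lift g y' ≫ a.act, rfl, by rw [act_inv]⟩
    · obtain ⟨β, g, y', rfl, rfl⟩ := (key x y).1 h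
      obtain ⟨β', g', z', rfl, hy⟩ := (key y'.left z).1 h'
      obtain rfl : β = β' := by
        calc β = y'.left ≫ X.hom := (Over.w y').symm
          _ = (lift g' z' ≫ a.act).left ≫ X.hom := by rw [hy]
          _ = β' := Over.w _
      obtain rfl : lift g' z' ≫ a.act = y' := Over.OverMorphism.ext hy
      exact (key _ _).2 ⟨β, g * g', z', rfl, by rw [act_mul]⟩

/-- The action is the projection after an automorphism. -/
theorem exists_act_iso : ∃ σ : (G ⊗ X) ≅ (G ⊗ X), σ.hom ≫ snd G X = a.act := by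
  let σ : G ⊗ X ⟶ G ⊗ X := lift (fst G X)⁻¹ a.act
  have hact : lift (fst G X) (snd G X) ≫ a.act = a.act := by rw [lift_fst_snd, Category.id_comp]
  have h : σ ≫ σ = 𝟙 _ := by
    have h₁ : σ ≫ fst G X = (fst G X)⁻¹ := lift_fst _ _
    have h₂ : σ ≫ snd G X = a.act := lift_snd _ _
    apply CartesianMonoidalCategory.hom_ext
    · rw [Category.assoc, h₁, GrpObj.comp_inv, h₁, inv_inv, Category.id_comp]
    · rw [Category.assoc, h₂, Category.id_comp]
      refine Eq.trans ?_ (act_inv a (fst G X) (snd G X))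
      rw [hact]
  exact ⟨⟨σ, σ, h, h⟩, lift_snd _ _⟩

set_option maxHeartbeats 800000 in
/-- The quotient by a free flat group action. -/
theorem quot_free_action (hB : IsAlgSpace B) (hG : IsAlgSpace G.left) (hX : IsAlgSpace X.left) (ha : a.IsFree)
    (hfl : LocP @Flat G.hom ∧ LocP @LocallyOfFinitePresentation G.hom) :
    IsAlgSpace a.quot ∧
      (IsSurjectiveMor a.quotπ ∧ LocP @Flat a.quotπ ∧ LocP @LocallyOfFinitePresentation a.quotπ) ∧
      IsPullback a.act.left (snd G X).left a.quotπ a.quotπ := by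
  have sq : IsPullback (fst G X).left (snd G X).left G.hom X.hom := IsPullback.of_hasPullback G.hom X.hom
  have hR : IsAlgSpace (G ⊗ X).left := isAlgSpace_of_isPullback hG hB hX sq
  have hj := isEqvRelSp_action a ha
  have hs : LocP @Flat (snd G X).left ∧ LocP @LocallyOfFinitePresentation (snd G X).left :=
    ⟨locP_base_change hG hB hX sq hfl.1, locP_base_change hG hB hX sq hfl.2⟩
  obtain ⟨σ, hσ⟩ := exists_act_iso a
  have hσ' : a.act.left = σ.hom.left ≫ (snd G X).left := by rw [← hσ]; rfl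
  haveI : IsIso σ.hom.left := inferInstanceAs (IsIso ((Over.forget B).map σ.hom))
  have ht : LocP @Flat a.act.left ∧ LocP @LocallyOfFinitePresentation a.act.left := by
    constructor <;> intro T W x y k hx hy w
    · refine hs.1 (x ≫ σ.hom.left) y k (repWith_comp hx (repWith_iso σ.hom.left)) hy ?_
      rw [Category.assoc, ← hσ', w]
    · refine hs.2 (x ≫ σ.hom.left) y k (repWith_comp hx (repWith_iso σ.hom.left)) hy ?_
      rw [Category.assoc, ← hσ', w]
  exact ⟨isAlgSpace_quotSp hR hX hj hs ht, quotSpπ_props hR hX hj hs ht, isPullback_quotSpπ hj⟩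

end Groth.Agent.AlgSpBoot
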