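import Groth.Agent.AlgSpBoot.Main
import Groth.Agent.AlgSpc.FppfDiag
import Groth.Agent.AlgSpc.LocSurj

/-!
A sheaf with a flat finitely presented cover by an algebraic space is an algebraic space.
-/

set_option autoImplicit false
set_option linter.style.haveILetI false
set_option backward.isDefEq.respectTransparency false

universe u

open CategoryTheory CategoryTheory.Limits AlgebraicGeometry

namespace Groth.Agent.AlgSpBoot

open _root_.AlgSp Groth.Agent.AlgSpc Groth.Agent.AlgSpLoc

variable {S : Scheme.{u}}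

/-- The second projection of the self-product of an atlas over the sheaf is flat and finitely presented. -/
theorem flat_lfp_of_kernelPair {F X : Sp S} (p : X ⟶ F)
    (hp : RepBySpWith (IsSurjectiveMor ⊓ LocP @Flat ⊓ LocP @LocallyOfFinitePresentation) p.hom)
    {U R : Over S} (a : (yon S).obj U ⟶ X) (ha : RepWith @Etale a) {r₁ r₂ : R ⟶ U}
    (sq : IsPullback ((yon S).map r₁) ((yon S).map r₂) (a ≫ p) (a ≫ p)) :
    Flat r₂.left ∧ LocallyOfFinitePresentation r₂.left := by
  have sqP := IsPullback.of_hasPullback p (a ≫ p)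
  obtain ⟨-, ⟨-, hfl⟩, hfp⟩ := (repBySpWith_hom_iff _ p).1 hp (a ≫ p) _ _ sqP
  have sq₀ := IsPullback.of_hasPullback a (pullback.fst p (a ≫ p))
  have big := sq₀.paste_vert sqP
  let i := sq.isoIsPullback _ _ big
  have hi : i.hom ≫ pullback.snd a (pullback.fst p (a ≫ p)) ≫ pullback.snd p (a ≫ p) = (yon S).map r₂ :=
    IsPullback.isoIsPullback_hom_snd _ _ _ _
  have hf : RepWith @Etale (i.hom ≫ pullback.snd a (pullback.fst p (a ≫ p))) :=
    repWith_comp (repWith_iso i.hom) (repWith_of_isPullback sq₀ ha)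
  have w : (i.hom ≫ pullback.snd a (pullback.fst p (a ≫ p))) ≫ pullback.snd p (a ≫ p) =
      (yon S).map r₂ ≫ 𝟙 _ := by rw [Category.assoc, Category.comp_id, hi]
  exact ⟨hfl _ _ r₂ hf (repWith_id _ U) w, hfp _ _ r₂ hf (repWith_id _ U) w⟩

/-- A sheaf with an fppf cover by an algebraic space is an algebraic space. -/
theorem isAlgSpace_of_fppf_cover {F X : Sp S} (hX : IsAlgSpace X) (p : X ⟶ F)
    (hp : RepBySpWith (IsSurjectiveMor ⊓ LocP @Flat ⊓ LocP @LocallyOfFinitePresentation) p.hom) :
    IsAlgSpace F := by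
  obtain ⟨U, a, ha, has⟩ := hX.atlas
  obtain ⟨R, r₁, r₂, sq, -⟩ := exists_rel_of_fppf_cover hX p hp a ha
  obtain ⟨h₂, h₂'⟩ := flat_lfp_of_kernelPair p hp a ha sq
  obtain ⟨h₁, h₁'⟩ := flat_lfp_of_kernelPair p hp a ha sq.flip
  haveI := h₁; haveI := h₁'; haveI := h₂; haveI := h₂'
  haveI : Sheaf.IsLocallySurjective a := AlgSpc.isLocallySurjective_of_repWith
    (repWith_mono (P := @Etale) (Q := @Flat) (fun _ _ f (h : Etale f) => inferInstance) ha)
    (repWith_mono (P := @Etale) (Q := @LocallyOfFinitePresentation) (fun _ _ f (h : Etale f) => inferInstance) ha) has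
  haveI : Sheaf.IsLocallySurjective p := AlgSpc.isLocallySurjective_of_repBySpWith hp
  haveI : Sheaf.IsLocallySurjective (a ≫ p) := inferInstance
  exact isAlgSpace_of_flat_kernelPair (a ≫ p) sq

end Groth.Agent.AlgSpBoot
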