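import Groth.Agent.AlgSpc.CoverTest2
import Groth.Agent.AlgSpc.EtQuotBase
import Groth.Agent.AlgSpLoc.Covers

/-!
Subspaces cut out by invariant monomorphisms into a chart.
-/

set_option autoImplicit false
set_option linter.style.haveILetI false
set_option backward.isDefEq.respectTransparency false

universe u

open CategoryTheory CategoryTheory.Limits AlgebraicGeometry

namespace Groth.Agent.AlgSpBoot

open _root_.AlgSp Groth.Agent.AlgSpc Groth.Agent.AlgSpLoc

variable {S : Scheme.{u}}

/-- A monomorphism into the objects of a presentation, with the same preimage under source and target, descends. -/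
theorem exists_invariant_sub {X : Sp S} {R U : Over S} {s t : R ⟶ U} {p : (yon S).obj U ⟶ X}
    (hp : IsPresentation s t p) {Z' R' : Over S} {iU : Z' ⟶ U} [Mono iU] {kR : R' ⟶ R} {s' t' : R' ⟶ Z'}
    (hs : IsPullback kR s' s iU) (ht : IsPullback kR t' t iU) (he : Etale s'.left) (he' : Etale t'.left) :
    ∃ (i : QuotSh.quot Scheme.fppfPrecoverage s' t' ⟶ X),
      IsAlgSpace (QuotSh.quot Scheme.fppfPrecoverage s' t') ∧
      IsPullback (quotMap s' t') ((yon S).map iU) i p := by
  have hE := hp.eqvRel.toIsEqvRel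
  haveI : Mono kR := IsPullback.mono_fst_of_mono hs
  have hE' : IsEqvRel s' t' := by
    constructor
    · intro T r r' h₁ h₂
      rw [← cancel_mono kR]
      refine hE.injective T _ _ ?_ ?_
      · simp only [Category.assoc, ht.w, reassoc_of% h₁]
      · simp only [Category.assoc, hs.w, reassoc_of% h₂]
    · intro T
      have key : ∀ a b : T ⟶ Z', (∃ r : T ⟶ R', r ≫ t' = a ∧ r ≫ s' = b) ↔
          ∃ r : T ⟶ R, r ≫ t = a ≫ iU ∧ r ≫ s = b ≫ iU := fun a b => by
        constructor
        · rintro ⟨r, rfl, rfl⟩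
          exact ⟨r ≫ kR, by simp [ht.w], by simp [hs.w]⟩
        · rintro ⟨r, h₁, h₂⟩
          refine ⟨hs.lift r b h₂, ?_, hs.lift_snd _ _ _⟩
          rw [← cancel_mono iU, Category.assoc, ← ht.w, hs.lift_fst_assoc, h₁]
      refine ⟨fun a => (key a a).2 ((hE.equivalence T).refl _), fun {a b} h => (key b a).2 ((hE.equivalence T).symm ((key a b).1 h)),
        fun {a b c} h h' => (key a c).2 ((hE.equivalence T).trans ((key a b).1 h) ((key b c).1 h'))⟩
  haveI := he; haveI := he'
  have hW : IsAlgSpace (QuotSh.quot Scheme.fppfPrecoverage s' t') :=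
    (isAlgSpace_of_etale_kernelPair (quotMap s' t') (isPullback_quotMap hE')).1
  let I := QuotSh.repIsoUliftYoneda (S := S) Scheme.fppfPrecoverage
  obtain ⟨i, hi⟩ : ∃ i, quotMap s' t' ≫ i = (yon S).map iU ≫ p := by
    have hnat : ∀ f : R' ⟶ Z', QuotSh.repMap Scheme.fppfPrecoverage f ≫ (I Z').hom = (I R').hom ≫ (yon S).map f :=
      fun f => by
        rw [← Iso.eq_comp_inv, Category.assoc, repIso_inv_naturality, ← Category.assoc, (I R').hom_inv_id,
          Category.id_comp]
    refine ⟨coequalizer.desc ((I Z').hom ≫ (yon S).map iU ≫ p) ?_, ?_⟩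
    · rw [← Category.assoc, hnat, ← Category.assoc (QuotSh.repMap Scheme.fppfPrecoverage t'), hnat, Category.assoc, Category.assoc,
        ← Functor.map_comp_assoc, ← Functor.map_comp_assoc, ← hs.w, ← ht.w, Functor.map_comp_assoc,
        Functor.map_comp_assoc, hp.isPullback.w]
    · dsimp only [quotMap, QuotSh.quotπ]
      rw [Category.assoc, coequalizer.π_desc]
      exact (I Z').inv_hom_id_assoc _
  refine ⟨i, hW, ?_⟩
  have big : IsPullback ((yon S).map kR ≫ (yon S).map t) ((yon S).map s') p ((yon S).map iU ≫ p) :=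
    (hs.map (yon S)).paste_horiz hp.isPullback
  haveI : Mono ((yon S).map iU) := inferInstance
  let φ : (yon S).obj Z' ⟶ pullback i p := pullback.lift (quotMap s' t') ((yon S).map iU) hi
  haveI : Mono φ := mono_of_mono_fac (pullback.lift_snd (quotMap s' t') ((yon S).map iU) hi)
  have hsurj : ∀ (T : Over S) (x : (yon S).obj T ⟶ pullback i p), ∃ z, z ≫ φ = x := by
    intro T x
    obtain ⟨T', c, z, h₁, h₂, h₃, hz⟩ := exists_fppf_lift (quotMap s' t') (x ≫ pullback.fst i p)
    have e : ((yon S).map c ≫ x ≫ pullback.snd i p) ≫ p = (yon S).map z ≫ (yon S).map iU ≫ p := by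
      rw [← hi, reassoc_of% (hz.symm), Category.assoc, Category.assoc, pullback.condition]
    let r' := big.lift _ _ e
    have hl : (r' ≫ (yon S).map t') ≫ φ = (yon S).map c ≫ x := by
      apply pullback.hom_ext
      · rw [Category.assoc, Category.assoc, pullback.lift_fst, quotMap_w, ← Category.assoc, big.lift_snd,
          Category.assoc, hz]
      · rw [Category.assoc, Category.assoc, pullback.lift_snd, ← Functor.map_comp, ← ht.w, Functor.map_comp,
          big.lift_fst, Category.assoc]
    haveI := h₁; haveI := h₂; haveI := h₃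
    haveI : Sheaf.IsLocallySurjective ((yon S).map c) := isLocallySurjective_of_repWith
      ((repWith_yon_map_iff @Flat c).2 inferInstance)
      ((repWith_yon_map_iff @LocallyOfFinitePresentation c).2 inferInstance)
      ((repWith_yon_map_iff @Surjective c).2 inferInstance)
    haveI : Epi ((yon S).map c) := (Sheaf.isLocallySurjective_iff_epi' _ _).1 inferInstance
    haveI := effectiveEpi_of_epi ((yon S).map c)
    have key : ∀ {W : Sp S} (g₁ g₂ : W ⟶ (yon S).obj T'), g₁ ≫ (yon S).map c = g₂ ≫ (yon S).map c →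
        g₁ ≫ r' ≫ (yon S).map t' = g₂ ≫ r' ≫ (yon S).map t' := fun g₁ g₂ h => by
      rw [← cancel_mono φ, Category.assoc g₁, Category.assoc g₂, hl, ← Category.assoc, h, Category.assoc]
    refine ⟨EffectiveEpi.desc ((yon S).map c) (r' ≫ (yon S).map t') key, ?_⟩
    rw [← cancel_epi ((yon S).map c), ← Category.assoc, EffectiveEpi.fac, hl]
  haveI : Epi φ := ⟨fun a b h => AlgSpc.hom_ext fun T x => by
    obtain ⟨z, rfl⟩ := hsurj T x
    rw [Category.assoc, Category.assoc, h]⟩
  haveI := isIso_of_mono_of_epi φ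
  exact (IsPullback.of_hasPullback i p).of_iso (asIso φ).symm (Iso.refl _) (Iso.refl _) (Iso.refl _)
    (by simp [φ]) (by simp [φ]) (by simp) (by simp)

end Groth.Agent.AlgSpBoot
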