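import Groth.Agent.AlgSpBoot.Slice
import Groth.Agent.AlgSpBoot.Chart
import Groth.Agent.GrpdQ.CMLocus
import Groth.Agent.FtPtsLib.Basic
import Groth.Agent.AlgSpc.SpCoprod
import Groth.Agent.AlgSpc.Compact

/-!
A sheaf with a flat finitely presented kernel pair presentation is an algebraic space.
-/

set_option autoImplicit false
set_option linter.style.haveILetI false
set_option backward.isDefEq.respectTransparency false

universe u

open CategoryTheory CategoryTheory.Limits AlgebraicGeometry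

namespace Groth.Agent.AlgSpBoot

open _root_.AlgSp Groth.Agent.AlgSpc Groth.Agent.AlgSpLoc

variable {S : Scheme.{u}} {F : Sp S} {U R : Over S}

theorem representable_diag {q : (yon S).obj U ⟶ F} {r₁ r₂ : R ⟶ U}
    (sq : IsPullback ((yon S).map r₁) ((yon S).map r₂) q q) [Sheaf.IsLocallySurjective q]
    [LocallyOfFiniteType r₁.left] : Representable (Limits.diag F) := by
  refine Functor.relativelyRepresentable.diag_of_map_from_obj fun T g => fun T' g' => ?_
  obtain ⟨T₁, c, u, h₁, h₂, h₃, hu⟩ := exists_fppf_lift q g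
  obtain ⟨T₁', c', u', h₁', h₂', h₃', hu'⟩ := exists_fppf_lift q g'
  obtain ⟨V, fst, snd, sqV⟩ := exists_pullback_of_lifts sq g g' c c' u u' hu hu'
  exact ⟨V, snd, fst, sqV⟩

theorem exists_ftPoint {X : Scheme.{u}} {Z : Set X} (hZ : IsClosed Z) (hne : Z.Nonempty) :
    ∃ z ∈ Z, FtPtsLib.ClosedInAffine z := by
  obtain ⟨x, hx⟩ := hne
  obtain ⟨_, ⟨(B : X.Opens), hB, rfl⟩, hxB, -⟩ :=
    X.isBasis_affineOpens.exists_subset_of_mem_open (Set.mem_univ x) isOpen_univ
  haveI : IsAffine (B : Scheme.{u}) := hB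
  haveI : CompactSpace ↥(B : Scheme.{u}) := inferInstance
  obtain ⟨z, hz, hzc⟩ := IsClosed.exists_closed_singleton (hZ.preimage B.ι.continuous)
    ⟨⟨x, hxB⟩, hx⟩
  exact ⟨z.1, hz, B, hB, z.2, hzc⟩

/-- A finite type point at which the second projection is Cohen–Macaulay along the identity. -/
theorem exists_cm_ftPoint {q : (yon S).obj U ⟶ F} {r₁ r₂ : R ⟶ U}
    (sq : IsPullback ((yon S).map r₁) ((yon S).map r₂) q q)
    [Flat r₁.left] [LocallyOfFinitePresentation r₁.left] [Flat r₂.left] [LocallyOfFinitePresentation r₂.left]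
    {e : U ⟶ R} (he₁ : e ≫ r₁ = 𝟙 U) (he₂ : e ≫ r₂ = 𝟙 U)
    (u₀ : U.left) [LocallyOfFiniteType (U.left.fromSpecResidueField u₀)] :
    ∃ r : R.left, r₂.left r = u₀ ∧ LocallyOfFiniteType (U.left.fromSpecResidueField (r₁.left r)) ∧
      MoreMor.IsCMAt r₂.left (e.left (r₁.left r)) := by
  obtain ⟨hopen, hdense⟩ := Groth.Agent.S1341.result r₂.left
  let Fb := r₂.left.fiber u₀
  haveI : LocallyOfFiniteType (r₂.left.fiberToSpecResidueField u₀) :=
    MorphismProperty.pullback_snd (P := @LocallyOfFiniteType) r₂.left _ inferInstance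
  haveI : JacobsonSpace Fb := LocallyOfFiniteType.jacobsonSpace (r₂.left.fiberToSpecResidueField u₀)
  have hne : Nonempty Fb := by
    have hx : e.left u₀ ∈ Set.range (r₂.left.fiberι u₀) := by
      rw [Scheme.Hom.range_fiberι]
      show r₂.left (e.left u₀) = u₀
      rw [← Scheme.Hom.comp_apply, ← Over.comp_left, he₂]; rfl
    exact ⟨hx.choose⟩
  obtain ⟨w, hw, hwc⟩ := nonempty_inter_closedPoints ((hdense u₀).nonempty)
    (hopen.preimage (r₂.left.fiberι u₀).continuous).isLocallyClosed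
  refine ⟨r₂.left.fiberι u₀ w, ?_, ?_, ?_⟩
  · have : r₂.left.fiberι u₀ w ∈ Set.range (r₂.left.fiberι u₀) := ⟨w, rfl⟩
    rwa [Scheme.Hom.range_fiberι] at this
  · haveI : LocallyOfFiniteType (Fb.fromSpecResidueField w) := by
      refine FtPtsLib.locallyOfFiniteType_fromSpecResidueField ?_
      obtain ⟨_, ⟨(B : Scheme.Opens Fb), hB, rfl⟩, hwB, -⟩ :=
        Fb.isBasis_affineOpens.exists_subset_of_mem_open (Set.mem_univ w) isOpen_univ
      refine ⟨B, hB, hwB, ?_⟩
      convert! (mem_closedPoints_iff.1 hwc).preimage continuous_subtype_val using 1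
      ext z; simp [Subtype.ext_iff]
    haveI : LocallyOfFiniteType (r₂.left.fiberι u₀) :=
      MorphismProperty.pullback_fst (P := @LocallyOfFiniteType) r₂.left _ ‹_›
    refine FtPtsLib.locallyOfFiniteType_fromSpecResidueField ?_
    have h := FtPtsLib.closedInAffine_of_specField (k := Fb.residueField w)
      ((Fb.fromSpecResidueField w ≫ r₂.left.fiberι u₀) ≫ r₁.left) (IsLocalRing.closedPoint _)
    simp only [Scheme.Hom.comp_apply] at h
    convert! h using 3
    exact (Scheme.fromSpecResidueField_apply (x := w) _).symm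
  · obtain ⟨i, c, e', he₂', he₁', hi₂, hi₁, hc₂, hc₁⟩ := exists_kerGroupoid sq
    let G : Grpd.GroupoidScheme S := ofRel U.hom r₂.left r₁.left ((Over.w r₁).trans (Over.w r₂).symm)
      (fun a b h₂ h₁ => kernelPair_ext sq a b h₂ h₁) e' he₂' he₁' i hi₂ hi₁ c hc₂ hc₁
    haveI : Flat G.s := ‹Flat r₂.left›
    haveI : Flat G.t := ‹Flat r₁.left›
    haveI : LocallyOfFinitePresentation G.s := ‹LocallyOfFinitePresentation r₂.left›
    haveI : LocallyOfFinitePresentation G.t := ‹LocallyOfFinitePresentation r₁.left›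
    refine (GrpdQ.isCMAt_s_iff_of_same_target G (r := r₂.left.fiberι u₀ w) ?_).1 hw
    show r₁.left _ = r₁.left (e.left _)
    rw [← Scheme.Hom.comp_apply e.left, ← Over.comp_left, he₁]
    rfl

/-- Every point of a flat presentation is reached by an etale chart. -/
theorem exists_chart_at (q : (yon S).obj U ⟶ F) [Sheaf.IsLocallySurjective q] {r₁ r₂ : R ⟶ U}
    (sq : IsPullback ((yon S).map r₁) ((yon S).map r₂) q q)
    [Flat r₁.left] [LocallyOfFinitePresentation r₁.left] [Flat r₂.left] [LocallyOfFinitePresentation r₂.left]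
    (u : U.left) :
    ∃ (M : Over S) (χ : (yon S).obj M ⟶ F), RepWith @Etale χ ∧ Points.ofPt q u ∈ Set.range (Points.ofPt χ) := by
  let W : Set U.left := {v | ∃ (M : Over S) (χ : (yon S).obj M ⟶ F),
    RepWith @Etale χ ∧ Points.ofPt q v ∈ Set.range (Points.ofPt χ)}
  show u ∈ W
  have hW : IsOpen W := by
    refine isOpen_iff_forall_mem_open.2 fun v ⟨M, χ, hχ, m, hm⟩ => ?_
    obtain ⟨V, fst, snd, sqV⟩ := exists_sq hχ.1 q
    haveI : Etale snd.left := hχ.2 _ _ _ sqV
    refine ⟨Set.range snd.left, ?_, snd.left.isOpenMap.isOpen_range, ?_⟩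
    · rintro _ ⟨z, rfl⟩
      refine ⟨M, χ, hχ, (pre fst).left z, ?_⟩
      rw [← ofPt_comp, ← ofPt_comp, map_pre, sqV.w]
    · obtain ⟨z, -, hz⟩ := exists_point_of_isPullback sqV (Points.ofScheme M m) (Points.ofScheme U v)
        (by rw [← Points.ofPt_eq_map_ofScheme, ← Points.ofPt_eq_map_ofScheme, hm])
      obtain ⟨z', rfl⟩ := (Points.schemeHomeo V).surjective z
      refine ⟨z', (Points.schemeHomeo U).injective ?_⟩
      rw [show Points.map ((yon S).map snd) (Points.schemeHomeo V z') = Points.ofPt ((yon S).map snd) z'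
        from (Points.ofPt_eq_map_ofScheme _ _).symm, ofPt_pre, pre_map] at hz
      exact hz
  have hsat : ∀ r, r₁.left r ∈ W ↔ r₂.left r ∈ W := fun r => by
    show (∃ _, ∃ _, _ ∧ Points.ofPt q (r₁.left r) ∈ _) ↔ ∃ _, ∃ _, _ ∧ Points.ofPt q (r₂.left r) ∈ _
    rw [show Points.ofPt q (r₁.left r) = Points.ofPt q (r₂.left r) by rw [← ofPt_comp, ← ofPt_comp, sq.w]]
  by_contra hu
  obtain ⟨u₀, hu₀, hft⟩ := exists_ftPoint hW.isClosed_compl ⟨u, hu⟩
  haveI := FtPtsLib.locallyOfFiniteType_fromSpecResidueField hft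
  obtain ⟨e, he₁, he₂⟩ := exists_diag sq
  obtain ⟨r, hr, hft₁, hcm⟩ := exists_cm_ftPoint sq he₁ he₂ u₀
  haveI := hft₁
  obtain ⟨A, hA, g, a, hga, hq⟩ := exists_qf_chart sq he₁ he₂ (r₁.left r) hcm
  haveI := hA
  obtain ⟨M, χ, hχ, hm⟩ := exists_etale_chart (representable_diag sq) hq a
  rw [ofPt_comp, hga] at hm
  exact hu₀ (hr ▸ (hsat r).1 ⟨M, χ, hχ, hm⟩)

/-- A sheaf with a flat finitely presented presentation by schemes is an algebraic space. -/
theorem isAlgSpace_of_flat_kernelPair (q : (yon S).obj U ⟶ F) [Sheaf.IsLocallySurjective q] {r₁ r₂ : R ⟶ U}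
    (sq : IsPullback ((yon S).map r₁) ((yon S).map r₂) q q)
    [Flat r₁.left] [LocallyOfFinitePresentation r₁.left] [Flat r₂.left] [LocallyOfFinitePresentation r₂.left] :
    IsAlgSpace F := by
  choose M χ hχ hm using exists_chart_at q sq
  let UU : Over S := Over.mk (Sigma.desc fun u => (M u).hom)
  let j : ∀ u, M u ⟶ UU := fun u => Over.homMk (Sigma.ι (fun u => (M u).left) u) (Sigma.ι_desc _ _)
  have hj : ∀ u, IsOpenImmersion (j u).left := fun u =>
    (inferInstance : IsOpenImmersion (Sigma.ι (fun u => (M u).left) u))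
  have hjs : ∀ z : ↥UU.left, ∃ u, z ∈ Set.range (j u).left := fun z => by
    obtain ⟨k, y, hy⟩ := (sigmaOpenCover fun u => (M u).left).exists_eq z
    exact ⟨k, y, hy⟩
  obtain ⟨p, hp, -⟩ := existsUnique_glue M j hj hjs χ fun k k' Z a b w => by
    by_cases h : k = k'
    · subst h
      haveI : Mono (j k) := (Over.forget S).mono_of_mono_map (haveI := hj k; inferInstanceAs (Mono (j k).left))
      rw [(cancel_mono (j k)).1 w]
    · haveI : IsEmpty ↥Z.left := ⟨fun z => by
        have hz := congrArg (fun (φ : Z ⟶ UU) => φ.left z) w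
        simp only [Over.comp_left, Scheme.Hom.comp_apply] at hz
        have hd : Disjoint (Set.range (Sigma.ι (fun u => (M u).left) k : (M k).left ⟶ _))
            (Set.range (Sigma.ι (fun u => (M u).left) k' : (M k').left ⟶ _)) := by
          have := disjoint_opensRange_sigmaι (fun u => (M u).left) k k' h
          rw [Set.disjoint_iff_inter_eq_empty]
          rw [disjoint_iff] at this
          simpa [TopologicalSpace.Opens.ext_iff] using this
        exact Set.disjoint_left.1 hd ⟨a.left z, rfl⟩ ⟨b.left z, hz.symm⟩⟩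
      exact empty_hom_ext _ _
  have hpe : RepWith @Etale p := repWith_of_sigma j hj hjs p fun k => by rw [hp]; exact hχ k
  refine isAlgSpace_of_etale_atlas p hpe ((surjective_ofPt_iff hpe.1).2 fun x => ?_)
  obtain ⟨T, a, t, rfl⟩ := exists_ofPt x
  obtain ⟨T₁, c, v, -, -, hc, hv⟩ := exists_fppf_lift q a
  obtain ⟨t₁, rfl⟩ := hc.surj t
  obtain ⟨m, hm'⟩ := hm (v.left t₁)
  refine ⟨(j (v.left t₁)).left m, ?_⟩
  rw [← ofPt_comp, hp, hm', ← ofPt_comp, ← hv, ofPt_comp]

end Groth.Agent.AlgSpBoot
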