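import Groth.Agent.AlgSpBoot.EqLocus
import Groth.Agent.AlgSpc.EtSplit
import Groth.Agent.AlgSpc.SepLQFSplit
import Groth.Agent.AlgSpLoc.Glue

/-!
An etale neighbourhood with a finite clopen part of the fibre, for a quasi-finite flat chart of a sheaf.
-/

set_option autoImplicit false
set_option linter.style.haveILetI false
set_option backward.isDefEq.respectTransparency false

universe u

open CategoryTheory CategoryTheory.Limits AlgebraicGeometry

namespace Groth.Agent.AlgSpBoot

open _root_.AlgSp Groth.Agent.AlgSpc Groth.Agent.AlgSpLoc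

variable {S : Scheme.{u}} {F : Sp S} {A R : Over S} {q : (yon S).obj A ⟶ F} {p₁ p₂ : R ⟶ A}

theorem exists_diag (sq : IsPullback ((yon S).map p₁) ((yon S).map p₂) q q) :
    ∃ e : A ⟶ R, e ≫ p₁ = 𝟙 A ∧ e ≫ p₂ = 𝟙 A :=
  ⟨pre (sq.lift (𝟙 _) (𝟙 _) rfl), (yon S).map_injective (by simp), (yon S).map_injective (by simp)⟩

theorem isSeparated_p₂ (sq : IsPullback ((yon S).map p₁) ((yon S).map p₂) q q) [IsAffine A.left] :
    IsSeparated p₂.left := by
  let n : R ⟶ A ⨯ A := prod.lift p₁ p₂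
  haveI : Mono n := ⟨fun {Z} x y e => (yon S).map_injective (sq.hom_ext
    (by simpa only [← Functor.map_comp, Category.assoc, n, prod.lift_fst] using
      congrArg (fun k => (yon S).map (k ≫ prod.fst)) e)
    (by simpa only [← Functor.map_comp, Category.assoc, n, prod.lift_snd] using
      congrArg (fun k => (yon S).map (k ≫ prod.snd)) e))⟩
  haveI : Mono n.left := inferInstanceAs (Mono ((Over.forget S).map n))
  haveI : IsSeparated A.hom := by
    haveI : IsSeparated (A.hom ≫ terminal.from S) := by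
      rw [Subsingleton.elim (A.hom ≫ terminal.from S) (terminal.from A.left)]; infer_instance
    exact IsSeparated.of_comp A.hom (terminal.from S)
  haveI : IsSeparated (prod.snd : A ⨯ A ⟶ A).left := by
    rw [← Over.prodLeftIsoPullback_hom_snd]
    infer_instance
  have h : n.left ≫ (prod.snd : A ⨯ A ⟶ A).left = p₂.left := by
    rw [← Over.comp_left, prod.lift_snd]
  rw [← h]
  infer_instance

theorem sqX (sq : IsPullback ((yon S).map p₁) ((yon S).map p₂) q q) {Y : Over S} (g : Y ⟶ A) :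
    IsPullback ((yon S).map (pullback.fst p₂ g ≫ p₁)) ((yon S).map (pullback.snd p₂ g)) q
      ((yon S).map g ≫ q) := by
  rw [Functor.map_comp]
  exact ((IsPullback.of_hasPullback p₂ g).map (yon S)).paste_horiz sq

/-- The diagonal section of the fibre product. -/
noncomputable abbrev diagPt {e : A ⟶ R} (he : e ≫ p₂ = 𝟙 A) {Y : Over S} (g : Y ⟶ A) :
    Y ⟶ pullback p₂ g :=
  pullback.lift (g ≫ e) (𝟙 Y) (by rw [Category.assoc, he, Category.comp_id, Category.id_comp])

theorem isPullback_diagPt {e : A ⟶ R} (he : e ≫ p₂ = 𝟙 A) {Y : Over S} (g : Y ⟶ A) :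
    IsPullback g (diagPt he g) e (pullback.fst p₂ g) := by
  refine IsPullback.of_bot (v₂₁ := pullback.snd p₂ g) (v₂₂ := p₂) (h₃₁ := g) ?_ ?_
    (IsPullback.of_hasPullback p₂ g)
  · simp only [diagPt, pullback.lift_snd, he]
    exact IsPullback.of_vert_isIso ⟨by simp⟩
  · simp only [diagPt, pullback.lift_fst]

/-- Step one: a finite clopen part of the fibres over an etale neighbourhood. -/
theorem exists_part (sq : IsPullback ((yon S).map p₁) ((yon S).map p₂) q q) [IsAffine A.left]
    [LocallyOfFiniteType p₂.left] [LocallyQuasiFinite p₂.left] {e : A ⟶ R} (he : e ≫ p₂ = 𝟙 A) (x : A.left) :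
    ∃ (Y : Over S) (g : Y ⟶ A) (Z : (pullback p₂ g).left.Opens) (y₀ : Y.left),
      IsAffine Y.left ∧ Etale g.left ∧ IsClosed (Z : Set (pullback p₂ g).left) ∧
      IsFinite (Z.ι ≫ (pullback.snd p₂ g).left) ∧ g.left y₀ = x ∧ (diagPt he g).left y₀ ∈ Z ∧
      ∀ z ∈ Z, (pullback.snd p₂ g).left z = y₀ → z = (diagPt he g).left y₀ := by
  haveI := isSeparated_p₂ sq
  have he' : p₂.left (e.left x) = x := by
    rw [← Scheme.Hom.comp_apply, ← Over.comp_left, he]; rfl
  obtain ⟨_, ⟨(R₁ : R.left.Opens), hR₁, rfl⟩, hxR, -⟩ := R.left.isBasis_affineOpens.exists_subset_of_mem_open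
    (Set.mem_univ (e.left x)) isOpen_univ
  haveI : IsAffine (R₁ : Scheme.{u}) := hR₁
  obtain ⟨Y', c, Z₀, iZ, z, w, hY, hc, hiZ, ho, -, K, _, _, τ, hτ, hτu⟩ :=
    exists_etale_split (R₁.ι ≫ p₂.left) (⟨e.left x, hxR⟩ : (R₁ : Scheme.{u}))
  let Y : Over S := Over.mk (c ≫ A.hom)
  let g : Y ⟶ A := Over.homMk c rfl
  let X := pullback p₂ g
  have sqF : IsPullback (pullback.fst p₂ g).left (pullback.snd p₂ g).left p₂.left c :=
    FppfDescent.isPullback_forget (IsPullback.of_hasPullback p₂ g)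
  let ℓ : Z₀ ⟶ X.left := sqF.lift (z ≫ R₁.ι) iZ (by rw [Category.assoc]; exact w)
  haveI : IsOpenImmersion ℓ := by
    let j : pullback (R₁.ι ≫ p₂.left) c ⟶ X.left :=
      sqF.lift (pullback.fst _ _ ≫ R₁.ι) (pullback.snd _ _) (by rw [Category.assoc]; exact pullback.condition)
    have sj : IsPullback (pullback.fst (R₁.ι ≫ p₂.left) c) j R₁.ι (pullback.fst p₂ g).left := by
      refine IsPullback.of_bot (v₂₁ := (pullback.snd p₂ g).left) (v₂₂ := p₂.left) (h₃₁ := c) ?_ ?_ sqF
      · rw [sqF.lift_snd]; exact IsPullback.of_hasPullback _ _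
      · exact (sqF.lift_fst _ _ _).symm
    haveI : IsOpenImmersion j := MorphismProperty.of_isPullback (P := @IsOpenImmersion) sj inferInstance
    haveI := ho
    have : ℓ = pullback.lift z iZ w ≫ j := sqF.hom_ext
      (by simp only [ℓ, j, Category.assoc, IsPullback.lift_fst, pullback.lift_fst_assoc])
      (by simp only [ℓ, j, Category.assoc, IsPullback.lift_snd, pullback.lift_snd])
    rw [this]
    infer_instance
  have hℓ : ℓ ≫ (pullback.snd p₂ g).left = iZ := sqF.lift_snd _ _ _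
  haveI : IsSeparated (pullback.snd p₂ g).left :=
    MorphismProperty.of_isPullback (P := @IsSeparated) sqF ‹_›
  haveI := hiZ
  haveI : IsFinite ℓ := by
    haveI : IsFinite (ℓ ≫ (pullback.snd p₂ g).left) := by rw [hℓ]; infer_instance
    exact IsFinite.of_comp ℓ (pullback.snd p₂ g).left
  let Z : X.left.Opens := ℓ.opensRange
  let pt : Z₀ := τ (IsLocalRing.closedPoint K)
  let y₀ : Y.left := iZ pt
  have hzpt : z pt = (⟨e.left x, hxR⟩ : (R₁ : Scheme.{u})) := by rw [← hτ]; rfl
  have hgy : c y₀ = x := by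
    show c (iZ pt) = x
    rw [← Scheme.Hom.comp_apply, ← w, Scheme.Hom.comp_apply, hzpt]
    exact he'
  have hδ : ∀ v : X.left, (pullback.fst p₂ g).left v = e.left x → (pullback.snd p₂ g).left v = y₀ →
      v = (diagPt he g).left y₀ := by
    intro v h₁ h₂
    obtain ⟨y', hy', -⟩ := Scheme.exists_preimage_of_isPullback
      (FppfDescent.isPullback_forget (isPullback_diagPt he g).flip) v x h₁
    have : (pullback.snd p₂ g).left ((diagPt he g).left y') = y' := by
      rw [← Scheme.Hom.comp_apply, ← Over.comp_left, pullback.lift_snd]; rfl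
    rw [hy', h₂] at this
    rw [← hy', this]
  have hℓpt : ℓ pt = (diagPt he g).left y₀ := by
    refine hδ _ ?_ ?_
    · rw [← Scheme.Hom.comp_apply, sqF.lift_fst, Scheme.Hom.comp_apply, hzpt]; rfl
    · rw [← Scheme.Hom.comp_apply, hℓ]; rfl
  refine ⟨Y, g, Z, y₀, hY, hc, ℓ.isClosedMap.isClosed_range, ?_, hgy, ⟨pt, hℓpt⟩, ?_⟩
  · have hh : Z.ι ≫ (pullback.snd p₂ g).left = ℓ.isoOpensRange.inv ≫ iZ := by
      rw [← hℓ, ← Category.assoc]
      congr 1
      rw [Iso.eq_inv_comp]; exact ℓ.isoOpensRange_hom_ι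
    rw [hh]; infer_instance
  · rintro _ ⟨z', rfl⟩ hz'
    rw [← Scheme.Hom.comp_apply, hℓ] at hz'
    obtain ⟨α, hα, hαy⟩ := SepLQF.exists_point_of_finite_fibre iZ (τ ≫ iZ) (c := z') hz'
    rw [← hαy, hτu α hα, ← hℓpt]

end Groth.Agent.AlgSpBoot
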