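import Groth.Agent.AlgSpBoot.Arrows

/-!
Quotients by the restriction of a pre-equivalence relation of sheaves.
-/

set_option autoImplicit false
set_option linter.style.haveILetI false
set_option backward.isDefEq.respectTransparency false

universe u

open CategoryTheory CategoryTheory.Limits AlgebraicGeometry

namespace Groth.Agent.AlgSpBoot

open _root_.AlgSp Groth.Agent.AlgSpc

variable {S : Scheme.{u}} {R U R' U' : Sp S} {s t : R ⟶ U} {s' t' : R' ⟶ U'}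

/-- Points with the same image in the quotient by a pre-equivalence relation are related fppf locally. -/
theorem exists_local_arrow_pre (hpre : IsPreEqvRelSp s t)
    {T : Over S} (a b : (yon S).obj T ⟶ U) (h : a ≫ quotSpπ s t = b ≫ quotSpπ s t) :
    ∃ (T' : Over S) (c : T' ⟶ T) (ρ : (yon S).obj T' ⟶ R), Flat c.left ∧ LocallyOfFinitePresentation c.left ∧
      Surjective c.left ∧ ρ ≫ t = (yon S).map c ≫ a ∧ ρ ≫ s = (yon S).map c ≫ b := by
  let n := prod.lift t s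
  let η := Sheaf.toImage n
  let tK : Sheaf.image n ⟶ U := Sheaf.imageι n ≫ prod.fst
  let sK : Sheaf.image n ⟶ U := Sheaf.imageι n ≫ prod.snd
  have hηt : η ≫ tK = t := by simp [η, tK, n]
  have hηs : η ≫ sK = s := by simp [η, sK, n]
  haveI : Sheaf.IsLocallySurjective η := (Sheaf.isLocallySurjective_iff_epi' _ _).2 inferInstance
  have hext : ∀ {T₀ : Over S} (k : (yon S).obj T₀ ⟶ Sheaf.image n) (x y : (yon S).obj T₀ ⟶ U),
      k ≫ Sheaf.imageι n = prod.lift x y → k ≫ tK = x ∧ k ≫ sK = y := fun k x y hk => by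
    exact ⟨by simp [tK, reassoc_of% hk], by simp [sK, reassoc_of% hk]⟩
  have hK : IsEqvRelSp sK tK := by
    refine ⟨fun T₀ r r' h₁ h₂ => (cancel_mono (Sheaf.imageι n)).1 (Limits.prod.hom_ext (by simpa [tK] using h₁)
      (by simpa [sK] using h₂)), fun T₀ => ⟨fun x => ((hpre T₀).refl x).elim fun ρ hρ => ⟨ρ ≫ η, by simp [hηt, hρ.1], by simp [hηs, hρ.2]⟩,
        ?_, ?_⟩⟩
    · rintro x y ⟨k, rfl, rfl⟩
      obtain ⟨T₁, c, ρ, h₁, h₂, h₃, hρ⟩ := exists_fppf_lift' η k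
      obtain ⟨σ, hσ₁, hσ₂⟩ := (hpre T₁).symm ⟨ρ, rfl, rfl⟩
      obtain ⟨k', hk'⟩ := exists_factor_of_local (Sheaf.imageι n) (prod.lift (k ≫ sK) (k ≫ tK)) c (σ ≫ η) (by
        apply Limits.prod.hom_ext
        · simp only [Category.assoc, prod.lift_fst]
          rw [show η ≫ Sheaf.imageι n ≫ prod.fst = t from hηt, hσ₁, reassoc_of% hρ, hηs]
        · simp only [Category.assoc, prod.lift_snd]
          rw [show η ≫ Sheaf.imageι n ≫ prod.snd = s from hηs, hσ₂, reassoc_of% hρ, hηt])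
      exact ⟨k', hext k' _ _ hk'⟩
    · rintro x y z ⟨k, rfl, rfl⟩ ⟨l, hl₁, rfl⟩
      obtain ⟨T₁, c₁, ρ₁, g₁, g₂, g₃, hρ₁⟩ := exists_fppf_lift' η k
      obtain ⟨T₂, c₂, ρ₂, k₁, k₂, k₃, hρ₂⟩ := exists_fppf_lift' η ((yon S).map c₁ ≫ l)
      haveI : Flat (c₂ ≫ c₁).left := by rw [Over.comp_left]; infer_instance
      haveI : LocallyOfFinitePresentation (c₂ ≫ c₁).left := by rw [Over.comp_left]; infer_instance
      haveI : Surjective (c₂ ≫ c₁).left := by rw [Over.comp_left]; infer_instance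
      have hcomp : ((yon S).map c₂ ≫ ρ₁) ≫ s = ρ₂ ≫ t := by
        rw [← hηs, ← hηt, Category.assoc, ← reassoc_of% hρ₁, ← reassoc_of% hρ₂, hl₁]
      obtain ⟨σ, hσ₁, hσ₂⟩ := (hpre T₂).trans (x := ((yon S).map c₂ ≫ ρ₁) ≫ t) (y := ρ₂ ≫ t) (z := ρ₂ ≫ s) ⟨_, rfl, hcomp⟩ ⟨ρ₂, rfl, rfl⟩
      obtain ⟨k', hk'⟩ := exists_factor_of_local (Sheaf.imageι n) (prod.lift (k ≫ tK) (l ≫ sK)) (c₂ ≫ c₁)
        (σ ≫ η) (by
          apply Limits.prod.hom_ext
          · simp only [Category.assoc, prod.lift_fst, Functor.map_comp]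
            rw [show η ≫ Sheaf.imageι n ≫ prod.fst = t from hηt, hσ₁, Category.assoc,
              ← hηt, ← reassoc_of% hρ₁]
          · simp only [Category.assoc, prod.lift_snd, Functor.map_comp]
            rw [show η ≫ Sheaf.imageι n ≫ prod.snd = s from hηs, hσ₂,
              ← hηs, ← reassoc_of% hρ₂])
      exact ⟨k', hext k' _ _ hk'⟩
  obtain ⟨ψ, hψ⟩ : ∃ ψ : quotSp s t ⟶ quotSp sK tK, quotSpπ s t ≫ ψ = quotSpπ sK tK :=
    ⟨quotSpDesc (quotSpπ sK tK) (by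
      rw [← hηs, ← hηt, Category.assoc η sK, Category.assoc η tK, quotSp_condition sK tK]),
      coequalizer.π_desc _ _⟩
  have h' : a ≫ quotSpπ sK tK = b ≫ quotSpπ sK tK := by rw [← hψ, reassoc_of% h]
  have sqK := isPullback_quotSpπ hK
  obtain ⟨T', c, ρ, h₁, h₂, h₃, hρ⟩ := exists_fppf_lift' η (sqK.lift a b h')
  refine ⟨T', c, ρ, h₁, h₂, h₃, ?_, ?_⟩
  · rw [← hηt, ← reassoc_of% hρ, sqK.lift_fst]
  · rw [← hηs, ← reassoc_of% hρ, sqK.lift_snd]


/-- The map of quotients induced by a restriction is injective. -/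
theorem mono_quot_restrict (hpre : IsPreEqvRelSp s t) (g : U' ⟶ U)
    (hlift : ∀ {T : Over S} (ρ : (yon S).obj T ⟶ R) (p q : (yon S).obj T ⟶ U'),
      ρ ≫ t = p ≫ g → ρ ≫ s = q ≫ g → ∃ l : (yon S).obj T ⟶ R', l ≫ t' = p ∧ l ≫ s' = q)
    (ψ : quotSp s' t' ⟶ quotSp s t) (hψ : quotSpπ s' t' ≫ ψ = g ≫ quotSpπ s t) : Mono ψ := by
  haveI : Sheaf.IsLocallySurjective (quotSpπ s' t') :=
    (Sheaf.isLocallySurjective_iff_epi' _ _).2 (inferInstanceAs (Epi (coequalizer.π s' t')))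
  have hepi : ∀ {A C : Over S} (c : A ⟶ C), Flat c.left → LocallyOfFinitePresentation c.left → Surjective c.left →
      Epi ((yon S).map c) := fun c h1 h2 h3 => by
    haveI : Sheaf.IsLocallySurjective ((yon S).map c) := AlgSpc.isLocallySurjective_of_repWith
      ((repWith_yon_map_iff @Flat c).2 h1)
      ((repWith_yon_map_iff @LocallyOfFinitePresentation c).2 h2)
      ((repWith_yon_map_iff @Surjective c).2 h3)
    exact (Sheaf.isLocallySurjective_iff_epi' _ _).1 inferInstance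
  refine mono_of_cancel fun T a b h => ?_
  obtain ⟨T₁, c₁, u, i₁, i₂, i₃, hu⟩ := exists_fppf_lift' (quotSpπ s' t') a
  obtain ⟨T₂, c₂, v, k₁, k₂, k₃, hv⟩ := exists_fppf_lift' (quotSpπ s' t') ((yon S).map c₁ ≫ b)
  have hab : (((yon S).map c₂ ≫ u) ≫ g) ≫ quotSpπ s t = (v ≫ g) ≫ quotSpπ s t := by
    simp only [Category.assoc]
    rw [← hψ, ← reassoc_of% hu, ← reassoc_of% hv, h]
  obtain ⟨T₃, c₃, ρ, l₁, l₂, l₃, hρ₁, hρ₂⟩ := exists_local_arrow_pre hpre _ _ hab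
  obtain ⟨l, e₁, e₂⟩ := hlift ρ ((yon S).map c₃ ≫ (yon S).map c₂ ≫ u) ((yon S).map c₃ ≫ v)
    (by simpa [Category.assoc] using hρ₁) (by simpa [Category.assoc] using hρ₂)
  haveI := hepi c₁ i₁ i₂ i₃
  haveI := hepi c₂ k₁ k₂ k₃
  haveI := hepi c₃ l₁ l₂ l₃
  rw [← cancel_epi ((yon S).map c₁), ← cancel_epi ((yon S).map c₂), ← cancel_epi ((yon S).map c₃), hu, hv,
    ← Category.assoc ((yon S).map c₂), ← Category.assoc ((yon S).map c₃), ← Category.assoc ((yon S).map c₃) v,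
    ← e₁, ← e₂, Category.assoc, Category.assoc, quotSp_condition]

end Groth.Agent.AlgSpBoot
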