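import Groth.Agent.AlgSpBoot.Main
import Groth.Agent.AlgSpc.LocSurj

/-!
A flat presentation is refined by a locally quasi-finite flat one.
-/

set_option autoImplicit false
set_option linter.style.haveILetI false
set_option backward.isDefEq.respectTransparency false

universe u

open CategoryTheory CategoryTheory.Limits AlgebraicGeometry

namespace Groth.Agent.AlgSpBoot

open _root_.AlgSp Groth.Agent.AlgSpc Groth.Agent.AlgSpLoc

variable {S : Scheme.{u}} {F : Sp S} {U R : Over S}

/-- Every point of a flat presentation is reached by a quasi-finite slice. -/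
theorem exists_qf_chart_at (q : (yon S).obj U ⟶ F) [Sheaf.IsLocallySurjective q] {r₁ r₂ : R ⟶ U}
    (sq : IsPullback ((yon S).map r₁) ((yon S).map r₂) q q)
    [Flat r₁.left] [LocallyOfFinitePresentation r₁.left] [Flat r₂.left] [LocallyOfFinitePresentation r₂.left]
    (u : U.left) :
    ∃ (A : Over S) (g : A ⟶ U),
      RepWith (@Flat ⊓ @LocallyOfFinitePresentation ⊓ @LocallyQuasiFinite) ((yon S).map g ≫ q) ∧
        Points.ofPt q u ∈ Set.range (Points.ofPt ((yon S).map g ≫ q)) := by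
  let W : Set U.left := {v | ∃ (A : Over S) (g : A ⟶ U),
    RepWith (@Flat ⊓ @LocallyOfFinitePresentation ⊓ @LocallyQuasiFinite) ((yon S).map g ≫ q) ∧
      Points.ofPt q v ∈ Set.range (Points.ofPt ((yon S).map g ≫ q))}
  show u ∈ W
  have hW : IsOpen W := by
    refine isOpen_iff_forall_mem_open.2 fun v ⟨A, g, hA, m, hm⟩ => ?_
    obtain ⟨V, fst, snd, sqV⟩ := exists_sq hA.1 q
    obtain ⟨⟨hf, hl⟩, -⟩ := hA.2 _ _ _ sqV
    haveI : Flat snd.left := hf
    haveI : LocallyOfFinitePresentation snd.left := hl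
    refine ⟨Set.range snd.left, ?_, snd.left.isOpenMap.isOpen_range, ?_⟩
    · rintro _ ⟨z, rfl⟩
      refine ⟨A, g, hA, (pre fst).left z, ?_⟩
      rw [← ofPt_comp, ← ofPt_comp, map_pre, sqV.w]
    · obtain ⟨z, -, hz⟩ := exists_point_of_isPullback sqV (Points.ofScheme A m) (Points.ofScheme U v)
        (by rw [← Points.ofPt_eq_map_ofScheme, ← Points.ofPt_eq_map_ofScheme, hm])
      obtain ⟨z', rfl⟩ := (Points.schemeHomeo V).surjective z
      refine ⟨z', (Points.schemeHomeo U).injective ?_⟩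
      rw [show Points.map ((yon S).map snd) (Points.schemeHomeo V z') = Points.ofPt ((yon S).map snd) z'
        from (Points.ofPt_eq_map_ofScheme _ _).symm, ofPt_pre, pre_map] at hz
      exact hz
  have hsat : ∀ r, r₁.left r ∈ W ↔ r₂.left r ∈ W := fun r => by
    show (∃ _, ∃ _, _ ∧ Points.ofPt q (r₁.left r) ∈ _) ↔ ∃ _, ∃ _, _ ∧ Points.ofPt q (r₂.left r) ∈ _
    rw [show Points.ofPt q (r₁.left r) = Points.ofPt q (r₂.left r) by rw [← ofPt_comp, ← ofPt_comp, sq.w]]
  by_contra hu
  obtain ⟨u₀, hu₀, hft⟩ := exists_ftPoint hW.isClosed_compl ⟨u, hu⟩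
  haveI := FtPtsLib.locallyOfFiniteType_fromSpecResidueField hft
  obtain ⟨e, he₁, he₂⟩ := exists_diag sq
  obtain ⟨r, hr, hft₁, hcm⟩ := exists_cm_ftPoint sq he₁ he₂ u₀
  haveI := hft₁
  obtain ⟨A, -, g, a, hga, hA⟩ := exists_qf_chart sq he₁ he₂ (r₁.left r) hcm
  exact hu₀ (hr ▸ (hsat r).1 ⟨A, g, hA, a, by rw [ofPt_comp, hga]⟩)

/-- One quasi-finite flat cover refining a flat presentation. -/
theorem exists_qf_cover (q : (yon S).obj U ⟶ F) [Sheaf.IsLocallySurjective q] {r₁ r₂ : R ⟶ U}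
    (sq : IsPullback ((yon S).map r₁) ((yon S).map r₂) q q)
    [Flat r₁.left] [LocallyOfFinitePresentation r₁.left] [Flat r₂.left] [LocallyOfFinitePresentation r₂.left] :
    ∃ (U' : Over S) (g : U' ⟶ U),
      RepWith (@Flat ⊓ @LocallyOfFinitePresentation ⊓ @LocallyQuasiFinite) ((yon S).map g ≫ q) ∧
        RepWith @Surjective ((yon S).map g ≫ q) := by
  choose A g hA hm using exists_qf_chart_at q sq
  let UU : Over S := Over.mk (Sigma.desc fun u => (A u).hom)
  let j : ∀ u, A u ⟶ UU := fun u => Over.homMk (Sigma.ι (fun u => (A u).left) u) (Sigma.ι_desc _ _)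
  have hj : ∀ u, IsOpenImmersion (j u).left := fun u =>
    (inferInstance : IsOpenImmersion (Sigma.ι (fun u => (A u).left) u))
  have hjs : ∀ z : ↥UU.left, ∃ u, z ∈ Set.range (j u).left := fun z => by
    obtain ⟨k, y, hy⟩ := (sigmaOpenCover fun u => (A u).left).exists_eq z
    exact ⟨k, y, hy⟩
  let G : UU ⟶ U := Over.homMk (Sigma.desc fun u => (g u).left) (Sigma.hom_ext _ _ fun u => by
    rw [Sigma.ι_desc_assoc]
    exact (Over.w (g u)).trans (Sigma.ι_desc (fun u => (A u).hom) u).symm)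
  have hG : ∀ u, j u ≫ G = g u := fun u => Over.OverMorphism.ext (Sigma.ι_desc _ _)
  have hp : ∀ k, (yon S).map (j k) ≫ (yon S).map G ≫ q = (yon S).map (g k) ≫ q := fun k => by
    rw [← Functor.map_comp_assoc, hG]
  have h₁ : RepWith @Flat ((yon S).map G ≫ q) := repWith_of_sigma j hj hjs _ fun k => by
    rw [hp]; exact repWith_mono (fun _ _ _ h => h.1.1) (hA k)
  have h₂ : RepWith @LocallyOfFinitePresentation ((yon S).map G ≫ q) := repWith_of_sigma j hj hjs _ fun k => by
    rw [hp]; exact repWith_mono (fun _ _ _ h => h.1.2) (hA k)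
  have h₃ : RepWith @LocallyQuasiFinite ((yon S).map G ≫ q) := repWith_of_sigma j hj hjs _ fun k => by
    rw [hp]; exact repWith_mono (fun _ _ _ h => h.2) (hA k)
  refine ⟨UU, G, repWith_inf (repWith_inf h₁ h₂) h₃, (surjective_ofPt_iff h₁.1).2 fun x => ?_⟩
  obtain ⟨T, a, t, rfl⟩ := exists_ofPt x
  obtain ⟨T₁, c, v, -, -, hc, hv⟩ := exists_fppf_lift q a
  obtain ⟨t₁, rfl⟩ := hc.surj t
  obtain ⟨m, hm'⟩ := hm (v.left t₁)
  refine ⟨(j (v.left t₁)).left m, ?_⟩
  rw [← ofPt_comp, hp, hm', ← ofPt_comp, ← hv, ofPt_comp]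

/-- Two presentations with the same kernel pair have the same quotient. -/
theorem exists_quot_iso {U' R' : Over S} (q : (yon S).obj U' ⟶ F) [Sheaf.IsLocallySurjective q] {s' t' : R' ⟶ U'}
    (sq : IsPullback ((yon S).map t') ((yon S).map s') q q) :
    ∃ ψ : QuotSh.quot Scheme.fppfPrecoverage s' t' ⟶ F, quotMap s' t' ≫ ψ = q ∧ IsIso ψ := by
  let I := QuotSh.repIsoUliftYoneda (S := S) Scheme.fppfPrecoverage
  have hnat : ∀ f : R' ⟶ U', QuotSh.repMap Scheme.fppfPrecoverage f ≫ (I U').hom = (I R').hom ≫ (yon S).map f :=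
    fun f => by
      rw [← Iso.eq_comp_inv, Category.assoc, repIso_inv_naturality, ← Category.assoc, (I R').hom_inv_id,
        Category.id_comp]
  obtain ⟨ψ, hψ⟩ : ∃ ψ, quotMap s' t' ≫ ψ = q := by
    refine ⟨coequalizer.desc ((I U').hom ≫ q) ?_, ?_⟩
    · rw [← Category.assoc, ← Category.assoc, hnat, hnat, Category.assoc, Category.assoc, sq.w]
    · dsimp only [quotMap, QuotSh.quotπ]
      rw [Category.assoc, coequalizer.π_desc]
      exact (I U').inv_hom_id_assoc _
  refine ⟨ψ, hψ, ?_⟩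
  haveI : Epi ψ := by
    haveI : Epi q := (Sheaf.isLocallySurjective_iff_epi' _ _).1 inferInstance
    haveI : Epi (quotMap s' t' ≫ ψ) := by rw [hψ]; infer_instance
    exact epi_of_epi (quotMap s' t') ψ
  haveI : Mono ψ := mono_of_cancel fun T a b h => by
    obtain ⟨T₁, c₁, u, i₁, i₂, i₃, hu⟩ := exists_fppf_lift (quotMap s' t') a
    obtain ⟨T₂, c₂, v, k₁, k₂, k₃, hv⟩ := exists_fppf_lift (quotMap s' t') ((yon S).map c₁ ≫ b)
    haveI : Flat (c₂ ≫ c₁).left := by rw [Over.comp_left]; infer_instance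
    haveI : LocallyOfFinitePresentation (c₂ ≫ c₁).left := by rw [Over.comp_left]; infer_instance
    haveI : Surjective (c₂ ≫ c₁).left := by rw [Over.comp_left]; infer_instance
    haveI : Sheaf.IsLocallySurjective ((yon S).map (c₂ ≫ c₁)) := AlgSpc.isLocallySurjective_of_repWith
      ((repWith_yon_map_iff @Flat _).2 inferInstance)
      ((repWith_yon_map_iff @LocallyOfFinitePresentation _).2 inferInstance)
      ((repWith_yon_map_iff @Surjective _).2 inferInstance)
    haveI : Epi ((yon S).map (c₂ ≫ c₁)) := (Sheaf.isLocallySurjective_iff_epi' _ _).1 inferInstance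
    rw [← cancel_epi ((yon S).map (c₂ ≫ c₁))]
    have ha : (yon S).map (c₂ ≫ c₁) ≫ a = (yon S).map (c₂ ≫ u) ≫ quotMap s' t' := by
      rw [Functor.map_comp, Category.assoc, hu, Functor.map_comp, Category.assoc]
    have hb : (yon S).map (c₂ ≫ c₁) ≫ b = (yon S).map v ≫ quotMap s' t' := by
      rw [Functor.map_comp, Category.assoc, hv]
    have hab : (yon S).map (c₂ ≫ u) ≫ q = (yon S).map v ≫ q := by
      rw [← hψ, ← Category.assoc, ← ha, ← Category.assoc, ← hb, Category.assoc, Category.assoc, h]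
    rw [ha, hb, ← sq.lift_fst _ _ hab, Category.assoc, quotMap_w, ← Category.assoc, sq.lift_snd]
  exact isIso_of_mono_of_epi ψ

end Groth.Agent.AlgSpBoot
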