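import Groth.Agent.AlgSpc.CoverTest2
import Groth.Agent.AlgSpc.EtQuotBase
import Groth.Agent.AlgSpc.DecentNoeth
import Groth.Agent.FpqcDescent.Basic
import Mathlib.AlgebraicGeometry.ZariskisMainTheorem

/-!
The diagonal of the quotient sheaf of an etale equivalence relation, tested on the relation.
-/

set_option autoImplicit false
set_option linter.style.haveILetI false
set_option backward.isDefEq.respectTransparency false

universe u

open CategoryTheory CategoryTheory.Limits AlgebraicGeometry

namespace Groth.Agent.AlgSpBoot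

open _root_.AlgSp Groth.Agent.AlgSpc Groth.Agent.AlgSpLoc

variable {S : Scheme.{u}}

/-- The diagonal of a quotient has a property descending along fppf covers when the relation does. -/
theorem repWith_diag_quot {R U : Over S} {s t : R ⟶ U} (h : IsEtaleEqvRel s t) {P : MorphismProperty Scheme.{u}}
    [P.IsStableUnderBaseChange]
    [P.DescendsAlong (@Surjective ⊓ @Flat ⊓ @LocallyOfFinitePresentation : MorphismProperty Scheme.{u})]
    (hP : ∀ l : R ⟶ pullback (toBase U) (toBase U), l ≫ pullback.fst (toBase U) (toBase U) = t →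
      l ≫ pullback.snd (toBase U) (toBase U) = s → P l.left) :
    RepWith P (Limits.diag (QuotSh.quot Scheme.fppfPrecoverage s t)) := by
  haveI := h.etale_left
  haveI := h.etale_right
  have sq := isPullback_quotMap h.toIsEqvRel
  have hX := (isAlgSpace_of_etale_kernelPair (quotMap s t) sq).1
  have hQ := (IsPullback.of_hasPullback (toBase U) (toBase U)).map (Over.forget S)
  obtain ⟨l, hl₁, hl₂, sql⟩ := isPullback_diag_chart sq (π₁ := pullback.fst (toBase U) (toBase U))
    (π₂ := pullback.snd (toBase U) (toBase U)) (by simpa [toBase] using hQ)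
  refine repWith_of_cover (fun A B C D a k' k c sq' h₁ h₂ h₃ hk =>
    MorphismProperty.of_isPullback_of_descendsAlong
      (Q := @Surjective ⊓ @Flat ⊓ @LocallyOfFinitePresentation) sq'.flip ⟨⟨h₃, h₁⟩, h₂⟩ hk)
    hX.diag sql (fun T x => ?_) (hP l ?_ hl₂)
  · obtain ⟨T₁, c₁, m₁, f₁, p₁, s₁, w₁⟩ := exists_fppf_lift (quotMap s t) (x ≫ prod.fst)
    obtain ⟨T₂, c₂, m₂, f₂, p₂, s₂, w₂⟩ := exists_fppf_lift (quotMap s t) ((yon S).map c₁ ≫ x ≫ prod.snd)
    refine ⟨T₂, c₂ ≫ c₁, pullback.lift (c₂ ≫ m₁) m₂ (toBase_unique _ _), ?_, ?_, ?_, ?_⟩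
    · rw [Over.comp_left]; infer_instance
    · rw [Over.comp_left]; infer_instance
    · rw [Over.comp_left]; infer_instance
    · apply Limits.prod.hom_ext
      · rw [Category.assoc, Category.assoc, prod.lift_fst, Functor.map_comp, Category.assoc, w₁,
          ← Functor.map_comp_assoc, ← Functor.map_comp_assoc, pullback.lift_fst]
      · rw [Category.assoc, Category.assoc, prod.lift_snd, Functor.map_comp, Category.assoc, w₂,
          ← Functor.map_comp_assoc, pullback.lift_snd]
  · rw [hl₁]
    exact (yon S).map_injective (map_pre _)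

/-- A map covered by finitely many parts, each mapped isomorphically, is universally closed. -/
theorem universallyClosed_of_parts {X Y : Scheme.{u}} (f : X ⟶ Y) {ι : Type*} [Finite ι]
    (Z : ι → Scheme.{u}) (j : ∀ i, Z i ⟶ X) (hcov : ∀ x, ∃ i z, j i z = x) [∀ i, IsIso (j i ≫ f)] :
    UniversallyClosed f := by
  constructor
  intro X' Y' i₁ i₂ f' H C hC
  have hcov' : ∀ x : X', ∃ i w, pullback.fst i₁ (j i) w = x := fun x => by
    obtain ⟨i, z, hz⟩ := hcov (i₁ x)
    obtain ⟨w, hw, -⟩ := Scheme.Pullback.exists_preimage_pullback (f := i₁) (g := j i) x z hz.symm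
    exact ⟨i, w, hw⟩
  have key : ∀ i, IsIso (pullback.fst i₁ (j i) ≫ f') := fun i => by
    have p : IsPullback (pullback.snd i₁ (j i)) (pullback.fst i₁ (j i) ≫ f') (j i ≫ f) i₂ :=
      (IsPullback.of_hasPullback i₁ (j i)).flip.paste_vert H.flip
    exact MorphismProperty.of_isPullback (P := MorphismProperty.isomorphisms Scheme.{u}) p
      (inferInstanceAs (IsIso (j i ≫ f)))
  have e : f' '' C = ⋃ i, (pullback.fst i₁ (j i) ≫ f') '' (pullback.fst i₁ (j i) ⁻¹' C) := by
    ext y
    simp only [Set.mem_image, Set.mem_iUnion, Set.mem_preimage]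
    constructor
    · rintro ⟨x, hx, rfl⟩
      obtain ⟨i, w, rfl⟩ := hcov' x
      exact ⟨i, w, hx, rfl⟩
    · rintro ⟨i, w, hw, rfl⟩
      exact ⟨_, hw, rfl⟩
  rw [e]
  refine isClosed_iUnion_of_finite fun i => ?_
  haveI := key i
  exact (pullback.fst i₁ (j i) ≫ f').homeomorph.isClosedMap _ (hC.preimage (pullback.fst i₁ (j i)).continuous)

end Groth.Agent.AlgSpBoot
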