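import Groth.Agent.AlgSpBoot.Arrows
import Groth.Agent.AlgSpLoc.Glue

/-!
The quotient by a restricted groupoid is an open subsheaf of the quotient.
-/

set_option autoImplicit false
set_option linter.style.haveILetI false
set_option backward.isDefEq.respectTransparency false

universe u

open CategoryTheory CategoryTheory.Limits AlgebraicGeometry

namespace Groth.Agent.AlgSpBoot

open _root_.AlgSp Groth.Agent.AlgSpc Groth.Agent.AlgSpLoc

variable {S : Scheme.{u}}

/-- A map between scheme points equal in the quotient of a groupoid scheme is locally an arrow. -/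
theorem exists_local_arrow_quotMap {R U : Over S} {s t : R ⟶ U}
    (hrefl : ∃ e : U ⟶ R, e ≫ t = 𝟙 U ∧ e ≫ s = 𝟙 U)
    (hsymm : ∃ i : R ⟶ R, i ≫ t = s ∧ i ≫ s = t)
    (htrans : ∃ c : pullback s t ⟶ R, c ≫ t = pullback.fst s t ≫ t ∧ c ≫ s = pullback.snd s t ≫ s)
    {T : Over S} (a b : T ⟶ U) (h : (yon S).map a ≫ quotMap s t = (yon S).map b ≫ quotMap s t) :
    ∃ (T' : Over S) (c : T' ⟶ T) (ρ : T' ⟶ R), Flat c.left ∧ LocallyOfFinitePresentation c.left ∧
      Surjective c.left ∧ ρ ≫ t = c ≫ a ∧ ρ ≫ s = c ≫ b := by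
  obtain ⟨e, he₁, he₂⟩ := hrefl
  obtain ⟨i, hi₁, hi₂⟩ := hsymm
  obtain ⟨m, hm₁, hm₂⟩ := htrans
  let I := QuotSh.repIsoUliftYoneda (S := S) Scheme.fppfPrecoverage
  have hnat : ∀ f : R ⟶ U, QuotSh.repMap Scheme.fppfPrecoverage f ≫ (I U).hom = (I R).hom ≫ (yon S).map f :=
    fun f => by
      rw [← Iso.eq_comp_inv, Category.assoc, repIso_inv_naturality, ← Category.assoc, (I R).hom_inv_id,
        Category.id_comp]
  obtain ⟨ψ, hψ⟩ : ∃ ψ, quotMap s t ≫ ψ = quotSpπ ((yon S).map s) ((yon S).map t) := by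
    refine ⟨coequalizer.desc ((I U).hom ≫ quotSpπ ((yon S).map s) ((yon S).map t)) ?_, ?_⟩
    · rw [← Category.assoc, ← Category.assoc, hnat, hnat, Category.assoc, Category.assoc, quotSp_condition]
    · dsimp only [quotMap, QuotSh.quotπ]
      rw [Category.assoc, coequalizer.π_desc]
      exact (I U).inv_hom_id_assoc _
  have sqc := (IsPullback.of_hasPullback s t).map (yon S)
  obtain ⟨T', c, ρ, h₁, h₂, h₃, h₄, h₅⟩ := exists_local_arrow (s := (yon S).map s) (t := (yon S).map t)
    ⟨(yon S).map e, by rw [← Functor.map_comp, he₁, CategoryTheory.Functor.map_id],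
      by rw [← Functor.map_comp, he₂, CategoryTheory.Functor.map_id]⟩
    ⟨(yon S).map i, by rw [← Functor.map_comp, hi₁], by rw [← Functor.map_comp, hi₂]⟩
    ⟨sqc.isoPullback.inv ≫ (yon S).map m,
      by rw [Category.assoc, ← Functor.map_comp, hm₁, Functor.map_comp, sqc.isoPullback_inv_fst_assoc],
      by rw [Category.assoc, ← Functor.map_comp, hm₂, Functor.map_comp, sqc.isoPullback_inv_snd_assoc]⟩
    ((yon S).map a) ((yon S).map b) (by rw [← hψ, reassoc_of% h])
  exact ⟨T', c, pre ρ, h₁, h₂, h₃, (yon S).map_injective (by simp [h₄]), (yon S).map_injective (by simp [h₅])⟩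

variable {R U R' U' : Over S} {s t : R ⟶ U} {s' t' : R' ⟶ U'} {g : U' ⟶ U} {r : R' ⟶ R}

set_option maxHeartbeats 800000 in
/-- The quotient by a restricted relation is an open subsheaf. -/
theorem repWith_isOpenImmersion_restrict
    (hsq : IsPullback (prod.lift t' s') r (prod.map g g) (prod.lift t s))
    (hrefl : ∃ e : U ⟶ R, e ≫ t = 𝟙 U ∧ e ≫ s = 𝟙 U)
    (hsymm : ∃ i : R ⟶ R, i ≫ t = s ∧ i ≫ s = t)
    (htrans : ∃ c : pullback s t ⟶ R, c ≫ t = pullback.fst s t ≫ t ∧ c ≫ s = pullback.snd s t ≫ s)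
    (W : U.left.Opens) (hW : (W : Set U.left) = Set.range (pullback.snd g t ≫ s).left)
    (hsurj : ∀ {T : Over S} (u : T ⟶ U), (∀ x, u.left x ∈ W) → ∃ (T' : Over S) (c : T' ⟶ T) (z : T' ⟶ pullback g t),
      Flat c.left ∧ LocallyOfFinitePresentation c.left ∧ Surjective c.left ∧
        z ≫ pullback.snd g t ≫ s = c ≫ u)
    (φ : QuotSh.quot Scheme.fppfPrecoverage s' t' ⟶ QuotSh.quot Scheme.fppfPrecoverage s t)
    (hφ : quotMap s' t' ≫ φ = (yon S).map g ≫ quotMap s t) : RepWith @IsOpenImmersion φ := by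
  let q := quotMap s t
  let q' := quotMap s' t'
  have hqw : (yon S).map t ≫ q = (yon S).map s ≫ q := quotMap_w s t
  have sqg := IsPullback.of_hasPullback g t
  haveI : Mono φ := mono_of_cancel fun T a b h => by
    obtain ⟨T₁, c₁, u, i₁, i₂, i₃, hu⟩ := exists_fppf_lift q' a
    obtain ⟨T₂, c₂, v, k₁, k₂, k₃, hv⟩ := exists_fppf_lift q' ((yon S).map c₁ ≫ b)
    have hab : (yon S).map ((c₂ ≫ u) ≫ g) ≫ q = (yon S).map (v ≫ g) ≫ q := by
      simp only [Functor.map_comp, Category.assoc]
      rw [← hφ, ← reassoc_of% hu, ← reassoc_of% hv, h]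
    obtain ⟨T₃, c₃, ρ, l₁, l₂, l₃, hρ₁, hρ₂⟩ := exists_local_arrow_quotMap hrefl hsymm htrans _ _ hab
    let c := c₃ ≫ c₂ ≫ c₁
    haveI : Flat c.left := by simp only [c, Over.comp_left]; infer_instance
    haveI : LocallyOfFinitePresentation c.left := by simp only [c, Over.comp_left]; infer_instance
    haveI : Surjective c.left := by simp only [c, Over.comp_left]; infer_instance
    haveI : Sheaf.IsLocallySurjective ((yon S).map c) := AlgSpc.isLocallySurjective_of_repWith
      ((repWith_yon_map_iff @Flat _).2 inferInstance)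
      ((repWith_yon_map_iff @LocallyOfFinitePresentation _).2 inferInstance)
      ((repWith_yon_map_iff @Surjective _).2 inferInstance)
    haveI : Epi ((yon S).map c) := (Sheaf.isLocallySurjective_iff_epi' _ _).1 inferInstance
    obtain ⟨l, hl₁, hl₂⟩ : ∃ l : T₃ ⟶ R', l ≫ t' = c₃ ≫ c₂ ≫ u ∧ l ≫ s' = c₃ ≫ v := by
      have w : prod.lift (c₃ ≫ c₂ ≫ u) (c₃ ≫ v) ≫ prod.map g g = ρ ≫ prod.lift t s := by
        apply Limits.prod.hom_ext <;> simp [hρ₁, hρ₂]
      exact ⟨hsq.lift _ _ w, by simpa using congrArg (· ≫ prod.fst) (hsq.lift_fst _ _ w),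
        by simpa using congrArg (· ≫ prod.snd) (hsq.lift_fst _ _ w)⟩
    rw [← cancel_epi ((yon S).map c)]
    have ha : (yon S).map c ≫ a = (yon S).map (c₃ ≫ c₂ ≫ u) ≫ q' := by
      simp only [c, Functor.map_comp, Category.assoc]; rw [hu]
    have hb : (yon S).map c ≫ b = (yon S).map (c₃ ≫ v) ≫ q' := by
      simp only [c, Functor.map_comp, Category.assoc]; rw [hv]
    rw [ha, hb, ← hl₁, ← hl₂, Functor.map_comp, Functor.map_comp, Category.assoc, Category.assoc, quotMap_w]
  -- saturation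
  have hsat : ∀ v : U.left, v ∈ W ↔ Points.ofPt q v ∈ Set.range (Points.ofPt ((yon S).map g ≫ q)) := by
    intro v
    constructor
    · intro hv
      obtain ⟨z, hz⟩ := hW.le hv
      refine ⟨(pullback.fst g t).left z, ?_⟩
      rw [← hz, ← ofPt_comp, ← ofPt_comp, ← Functor.map_comp_assoc, pullback.condition]
      simp only [Functor.map_comp, Category.assoc, hqw]
    · rintro ⟨u', hu'⟩
      obtain ⟨P, hP₁, hP₂⟩ := exists_point_of_isPullback (IsPullback.of_hasPullback q q)
        (Points.ofScheme U (g.left u')) (Points.ofScheme U v)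
        (by rw [← Points.ofPt_eq_map_ofScheme, ← Points.ofPt_eq_map_ofScheme, ← ofPt_comp]; exact hu')
      obtain ⟨T, x, p, rfl⟩ := exists_ofPt P
      rw [Points.map_ofPt, ofPt_pre] at hP₁ hP₂
      obtain ⟨T', c, ρ, -, -, hc, hρ₁, hρ₂⟩ := exists_local_arrow_quotMap hrefl hsymm htrans
        (pre (x ≫ pullback.fst q q)) (pre (x ≫ pullback.snd q q))
        (by rw [map_pre, map_pre, Category.assoc, Category.assoc, pullback.condition])
      obtain ⟨p', rfl⟩ := hc.surj p
      have h₁ : g.left u' = t.left (ρ.left p') := by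
        rw [← Scheme.Hom.comp_apply ρ.left, ← Over.comp_left, hρ₁]
        exact ((Points.schemeHomeo U).injective hP₁).symm
      have h₂ : v = s.left (ρ.left p') := by
        rw [← Scheme.Hom.comp_apply ρ.left, ← Over.comp_left, hρ₂]
        exact ((Points.schemeHomeo U).injective hP₂).symm
      obtain ⟨z, -, hz⟩ := Scheme.exists_preimage_of_isPullback (FppfDescent.isPullback_forget sqg) u' (ρ.left p') h₁
      refine hW.ge ⟨z, ?_⟩
      rw [h₂, Over.comp_left, Scheme.Hom.comp_apply, hz]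
  refine repWith_mk fun T y => ?_
  let Oset : Set T.left := {x | Points.ofPt y x ∈ Set.range (Points.ofPt ((yon S).map g ≫ q))}
  obtain ⟨T₁, c₁, u, i₁, i₂, i₃, hu⟩ := exists_fppf_lift q y
  have hO : c₁.left ⁻¹' Oset = u.left ⁻¹' (W : Set U.left) := by
    ext x
    show Points.ofPt y (c₁.left x) ∈ Set.range (Points.ofPt ((yon S).map g ≫ q)) ↔ u.left x ∈ W
    rw [hsat, ← ofPt_comp c₁, hu, ofPt_comp]
  have hOo : IsOpen Oset := by
    rw [← Set.image_preimage_eq Oset c₁.left.surjective, hO]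
    exact c₁.left.isOpenMap _ (W.2.preimage u.left.continuous)
  let O : T.left.Opens := ⟨Oset, hOo⟩
  -- lift over `O`
  obtain ⟨k, hk⟩ : ∃ k : (yon S).obj (openSub T O) ⟶ QuotSh.quot Scheme.fppfPrecoverage s' t',
      k ≫ φ = (yon S).map (openSubι T O) ≫ y := by
    obtain ⟨T₂, c₂, u₂, j₁, j₂, j₃, hu₂⟩ := exists_fppf_lift q ((yon S).map (openSubι T O) ≫ y)
    have hmem : ∀ x, u₂.left x ∈ W := fun x => by
      rw [hsat, ← ofPt_comp, ← hu₂, ofPt_comp, ofPt_comp]
      exact ((range_openSubι T O).le ⟨c₂.left x, rfl⟩ :)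
    obtain ⟨T₃, c₃, z, k₁, k₂, k₃, hz⟩ := hsurj u₂ hmem
    haveI : Flat (c₃ ≫ c₂).left := by rw [Over.comp_left]; infer_instance
    haveI : LocallyOfFinitePresentation (c₃ ≫ c₂).left := by rw [Over.comp_left]; infer_instance
    haveI : Surjective (c₃ ≫ c₂).left := by rw [Over.comp_left]; infer_instance
    refine exists_factor_of_local φ _ (c₃ ≫ c₂) ((yon S).map (z ≫ pullback.fst g t) ≫ q') ?_
    rw [Category.assoc, hφ, ← Functor.map_comp_assoc, Category.assoc, pullback.condition,
      (yon S).map_comp c₃ c₂, Category.assoc ((yon S).map c₃), hu₂, ← (yon S).map_comp_assoc c₃ u₂ q, ← hz]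
    simp only [Functor.map_comp, Category.assoc]
    exact congrArg (fun w => (yon S).map z ≫ (yon S).map (pullback.snd g t) ≫ w) hqw
  let l := pullback.lift k ((yon S).map (openSubι T O)) hk
  haveI : IsOpenImmersion (openSubι T O).left := inferInstanceAs (IsOpenImmersion O.ι)
  haveI : Mono (openSubι T O) := (Over.forget S).mono_of_mono_map (inferInstanceAs (Mono O.ι))
  haveI : Mono l := ⟨fun a b h => by
    rw [← cancel_mono ((yon S).map (openSubι T O))]
    simpa [l] using congrArg (· ≫ pullback.snd φ y) h⟩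
  haveI : Sheaf.IsLocallySurjective l := AlgSpc.isLocallySurjective_of_exists fun T₀ x => by
    obtain ⟨b, hb⟩ := exists_openSub_lift O (pre (x ≫ pullback.snd φ y)) fun p => by
      show Points.ofPt y ((pre (x ≫ pullback.snd φ y)).left p) ∈ Set.range (Points.ofPt ((yon S).map g ≫ q))
      rw [← ofPt_comp, map_pre, Category.assoc, ← pullback.condition, ← Category.assoc]
      obtain ⟨T₄, c₄, v, -, -, hc₄, hv⟩ := exists_fppf_lift q' (x ≫ pullback.fst φ y)
      obtain ⟨p', rfl⟩ := hc₄.surj p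
      exact ⟨v.left p', by rw [← ofPt_comp, ← hφ, ← reassoc_of% hv, ofPt_comp, Category.assoc]⟩
    refine ⟨T₀, 𝟙 T₀, (yon S).map b, ?_, ?_, ?_, ?_⟩
    · rw [Over.id_left]; infer_instance
    · rw [Over.id_left]; infer_instance
    · rw [Over.id_left]; infer_instance
    · rw [CategoryTheory.Functor.map_id, Category.id_comp]
      have hb' : (yon S).map b ≫ (yon S).map (openSubι T O) = x ≫ pullback.snd φ y := by
        rw [← Functor.map_comp, hb, map_pre]
      apply pullback.hom_ext
      · rw [← cancel_mono φ]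
        simp only [Category.assoc, l, pullback.lift_snd_assoc, pullback.lift_fst_assoc, reassoc_of% hb', pullback.condition]
      · simp only [l, Category.assoc, pullback.lift_snd, hb']
  haveI : Epi l := (Sheaf.isLocallySurjective_iff_epi' _ _).1 inferInstance
  haveI : IsIso l := isIso_of_mono_of_epi l
  exact ⟨openSub T O, k, openSubι T O, IsPullback.of_iso_pullback ⟨hk⟩ (asIso l) (by simp [l]) (by simp [l]),
    inferInstance⟩

end Groth.Agent.AlgSpBoot
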