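import Groth.Agent.AlgSpBoot.FinQuot
import Groth.Prelude.Def_AlgGrp

/-!
The groupoid scheme of an equivalence relation, and the relation of a free action.
-/

set_option autoImplicit false
set_option linter.style.haveILetI false
set_option backward.isDefEq.respectTransparency false

universe u

open CategoryTheory CategoryTheory.Limits AlgebraicGeometry MonoidalCategory CartesianMonoidalCategory MonObj

namespace Groth.Agent.AlgSpBoot

open _root_.AlgSp

variable {S : Scheme.{u}}

section

variable {R U : Over S} {s t : R ⟶ U} (h : IsEqvRel s t)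

include h in
theorem arrow_ext {T : Scheme.{u}} {α β : T ⟶ R.left} (ht : α ≫ t.left = β ≫ t.left) (hs : α ≫ s.left = β ≫ s.left) :
    α = β := by
  have hb : β ≫ R.hom = α ≫ R.hom := by
    rw [← Over.w s, ← Category.assoc, ← hs, Category.assoc]
  exact congr_arg CommaMorphism.left (h.injective (Over.mk (α ≫ R.hom)) (Over.homMk α rfl) (Over.homMk β hb)
    (Over.OverMorphism.ext ht) (Over.OverMorphism.ext hs))

include h in
theorem exists_e : ∃ e : U.left ⟶ R.left, e ≫ s.left = 𝟙 _ ∧ e ≫ t.left = 𝟙 _ := by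
  obtain ⟨r, h₁, h₂⟩ := (h.equivalence U).refl (𝟙 U)
  exact ⟨r.left, by rw [← Over.comp_left, h₂]; rfl, by rw [← Over.comp_left, h₁]; rfl⟩

include h in
theorem exists_i : ∃ i : R.left ⟶ R.left, i ≫ s.left = t.left ∧ i ≫ t.left = s.left := by
  obtain ⟨r, h₁, h₂⟩ := (h.equivalence R).symm ⟨𝟙 R, Category.id_comp t, Category.id_comp s⟩
  exact ⟨r.left, by rw [← Over.comp_left, h₂], by rw [← Over.comp_left, h₁]⟩

include h in
theorem exists_c : ∃ c : pullback s.left t.left ⟶ R.left,
    c ≫ s.left = pullback.snd s.left t.left ≫ s.left ∧ c ≫ t.left = pullback.fst s.left t.left ≫ t.left := by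
  let P : Over S := Over.mk (pullback.fst s.left t.left ≫ R.hom)
  let p₁ : P ⟶ R := Over.homMk (pullback.fst s.left t.left) rfl
  let p₂ : P ⟶ R := Over.homMk (pullback.snd s.left t.left) (by
    show _ = pullback.fst s.left t.left ≫ R.hom
    rw [← Over.w s, pullback.condition_assoc, Over.w t, Over.w s])
  have e : p₁ ≫ s = p₂ ≫ t := Over.OverMorphism.ext pullback.condition
  obtain ⟨r, h₁, h₂⟩ := (h.equivalence P).trans ⟨p₁, rfl, e⟩ ⟨p₂, rfl, rfl⟩
  exact ⟨r.left, congr_arg CommaMorphism.left h₂, congr_arg CommaMorphism.left h₁⟩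

/-- The groupoid scheme of an equivalence relation. -/
noncomputable def relGrpd : Grpd.GroupoidScheme S where
  U := U.left
  R := R.left
  pU := U.hom
  pR := R.hom
  s := s.left
  t := t.left
  e := (exists_e h).choose
  i := (exists_i h).choose
  c := (exists_c h).choose
  s_over := Over.w s
  t_over := Over.w t
  comp_s α β w := by rw [Category.assoc, (exists_c h).choose_spec.1, pullback.lift_snd_assoc]
  comp_t α β w := by rw [Category.assoc, (exists_c h).choose_spec.2, pullback.lift_fst_assoc]
  e_s := (exists_e h).choose_spec.1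
  e_t := (exists_e h).choose_spec.2
  i_s := (exists_i h).choose_spec.1
  i_t := (exists_i h).choose_spec.2
  assoc a b d h₁ h₂ := by
    apply arrow_ext h <;> simp [Category.assoc, (exists_c h).choose_spec.1, (exists_c h).choose_spec.2,
      pullback.lift_fst_assoc, pullback.lift_snd_assoc]
  comp_e α := by
    apply arrow_ext h <;> simp [Category.assoc, (exists_c h).choose_spec.1, (exists_c h).choose_spec.2,
      (exists_e h).choose_spec.1, pullback.lift_fst_assoc, pullback.lift_snd_assoc]
  e_comp α := by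
    apply arrow_ext h <;> simp [Category.assoc, (exists_c h).choose_spec.1, (exists_c h).choose_spec.2,
      (exists_e h).choose_spec.2, pullback.lift_fst_assoc, pullback.lift_snd_assoc]
  comp_i α := by
    apply arrow_ext h <;> simp [Category.assoc, (exists_c h).choose_spec.1, (exists_c h).choose_spec.2,
      (exists_e h).choose_spec.1, (exists_e h).choose_spec.2, (exists_i h).choose_spec.1, pullback.lift_fst_assoc,
      pullback.lift_snd_assoc]
  i_comp α := by
    apply arrow_ext h <;> simp [Category.assoc, (exists_c h).choose_spec.1, (exists_c h).choose_spec.2,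
      (exists_e h).choose_spec.1, (exists_e h).choose_spec.2, (exists_i h).choose_spec.2, pullback.lift_fst_assoc,
      pullback.lift_snd_assoc]

include h in
/-- The quotient of a finite locally free equivalence relation with orbits in affine opens. -/
theorem exists_quotient_of_isEqvRel (hs : Mor2.IsFinLocFree s.left)
    (haff : ∀ x : U.left, ∃ V : U.left.Opens, IsAffineOpen V ∧ t.left.base '' (s.left.base ⁻¹' {x}) ⊆ (V : Set U.left)) :
    ∃ (M : Over S) (m : U ⟶ M), Mor2.IsFinLocFree m.left ∧ IsPullback t.left s.left m.left m.left ∧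
      QuotSh.IsQuotient Scheme.fppfPrecoverage s t m := by
  obtain ⟨h₁, h₂, h₃⟩ := hs
  haveI : IsFinite (relGrpd h).s := h₁
  haveI : Flat (relGrpd h).s := h₂
  haveI : LocallyOfFinitePresentation (relGrpd h).s := h₃
  haveI : Mono (relGrpd h).j := mono_j_of_isEqvRel (relGrpd h) h
  exact exists_finLocFree_quotient (relGrpd h) haff

end

section

variable {G X : Over S} [GrpObj G] (a : AlgGrp.Action G X)

attribute [local instance] Hom.group

theorem actSch_one {Z : Over S} (x : Z ⟶ X) : lift (toUnit Z ≫ η[G]) x ≫ a.act = x := by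
  have h : lift (toUnit Z ≫ η[G]) x = lift (toUnit Z) x ≫ (η[G] ▷ X) := by simp
  rw [h, Category.assoc, a.one_act]
  simp

theorem actSch_mul {Z : Over S} (g h : Z ⟶ G) (x : Z ⟶ X) :
    lift (g * h) x ≫ a.act = lift g (lift h x ≫ a.act) ≫ a.act := by
  have e : lift (g * h) x = lift (lift g h) x ≫ (μ[G] ▷ X) := by
    rw [Hom.mul_def]; simp
  rw [e, Category.assoc, a.mul_act]
  simp

theorem actSch_inv {Z : Over S} (g : Z ⟶ G) (x : Z ⟶ X) :
    lift g⁻¹ (lift g x ≫ a.act) ≫ a.act = x := by
  rw [← actSch_mul, inv_mul_cancel, Hom.one_def, actSch_one]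

/-- The relation of a free action is an equivalence relation. -/
theorem isEqvRel_freeAct
    (hfree : ∀ (T : Over S) (g : T ⟶ G) (x : T ⟶ X), lift g x ≫ a.act = x → g = toUnit T ≫ η[G]) :
    IsEqvRel (snd G X) a.act := by
  constructor
  · intro T p p' ht hs
    have hp : lift (p ≫ fst G X) (p ≫ snd G X) = p := by apply CartesianMonoidalCategory.hom_ext <;> simp
    have hp' : lift (p' ≫ fst G X) (p' ≫ snd G X) = p' := by apply CartesianMonoidalCategory.hom_ext <;> simp
    have hfix : lift ((p' ≫ fst G X)⁻¹ * (p ≫ fst G X)) (p ≫ snd G X) ≫ a.act = p ≫ snd G X := by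
      rw [actSch_mul, hp, ht]
      calc lift (p' ≫ fst G X)⁻¹ (p' ≫ a.act) ≫ a.act
          = lift (p' ≫ fst G X)⁻¹ (lift (p' ≫ fst G X) (p' ≫ snd G X) ≫ a.act) ≫ a.act := by rw [hp']
        _ = p ≫ snd G X := by rw [actSch_inv, hs]
    have h₃ : p ≫ fst G X = p' ≫ fst G X := by
      have := hfree T _ _ hfix
      rw [← Hom.one_def, inv_mul_eq_one] at this
      exact this.symm
    exact CartesianMonoidalCategory.hom_ext _ _ h₃ hs
  · intro T
    have key : ∀ x y : T ⟶ X, (∃ r, r ≫ a.act = x ∧ r ≫ snd G X = y) ↔ ∃ g : T ⟶ G, lift g y ≫ a.act = x :=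
      fun x y => by
      constructor
      · rintro ⟨r, rfl, rfl⟩
        exact ⟨r ≫ fst G X, by
          rw [show lift (r ≫ fst G X) (r ≫ snd G X) = r by apply CartesianMonoidalCategory.hom_ext <;> simp]⟩
      · rintro ⟨g, rfl⟩
        exact ⟨lift g y, rfl, lift_snd _ _⟩
    refine ⟨fun x => (key x x).2 ⟨_, actSch_one a x⟩, fun {x y} h => ?_, fun {x y z} h h' => ?_⟩
    · obtain ⟨g, rfl⟩ := (key x y).1 h
      exact (key _ _).2 ⟨g⁻¹, actSch_inv a g y⟩
    · obtain ⟨g, rfl⟩ := (key x y).1 h
      obtain ⟨g', rfl⟩ := (key y z).1 h'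
      exact (key _ _).2 ⟨g * g', actSch_mul a g g' z⟩

end

end Groth.Agent.AlgSpBoot
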