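import Groth.Agent.AlgSpBoot.Part
import Groth.Agent.AlgSpc.SepLQFCore
import Groth.Agent.AlgSpc.EtQuotBase
import Groth.Agent.AlgSpc.EtLocInst
import Groth.Agent.FpqcDescent.Basic

/-!
Passing to the quotient by "same finite part": the part becomes rigid.
-/

set_option autoImplicit false
set_option linter.style.haveILetI false
set_option backward.isDefEq.respectTransparency false

universe u

open CategoryTheory CategoryTheory.Limits AlgebraicGeometry

namespace Groth.Agent.AlgSpBoot

open _root_.AlgSp Groth.Agent.AlgSpc Groth.Agent.AlgSpLoc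

variable {S : Scheme.{u}} {F : Sp S} {A R : Over S} {q : (yon S).obj A ⟶ F} {p₁ p₂ : R ⟶ A}

set_option maxHeartbeats 1600000 in
/-- Step two: distinct points over the same point of the chart single out distinct parts. -/
theorem exists_rigid (sq : IsPullback ((yon S).map p₁) ((yon S).map p₂) q q) [IsAffine A.left]
    [Flat p₂.left] [LocallyOfFinitePresentation p₂.left] [LocallyQuasiFinite p₂.left]
    {e : A ⟶ R} (he : e ≫ p₂ = 𝟙 A) (x : A.left) :
    ∃ (Y : Over S) (g : Y ⟶ A) (Z : (pullback p₂ g).left.Opens) (y₀ : Y.left),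
      Etale g.left ∧ IsClosed (Z : Set (pullback p₂ g).left) ∧
      IsFinite (Z.ι ≫ (pullback.snd p₂ g).left) ∧ g.left y₀ = x ∧ (diagPt he g).left y₀ ∈ Z ∧
      (∀ z ∈ Z, (pullback.snd p₂ g).left z = y₀ → z = (diagPt he g).left y₀) ∧
      ∀ ⦃T : Over S⦄ (a b : T ⟶ Y), a ≫ g = b ≫ g →
        Sat (pullback.fst p₂ g ≫ p₁) (pullback.snd p₂ g) Z a b → a = b := by
  obtain ⟨Y, g, Z, y₀, hY, hg, hZ, hZf, hgy, hδ, huniq⟩ := exists_part sq he x
  have sqY := sqX sq g
  haveI : Flat (pullback.snd p₂ g).left := MorphismProperty.of_isPullback (P := @Flat)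
    (FppfDescent.isPullback_forget (IsPullback.of_hasPullback p₂ g)) ‹_›
  haveI : LocallyOfFinitePresentation (pullback.snd p₂ g).left :=
    MorphismProperty.of_isPullback (P := @LocallyOfFinitePresentation)
      (FppfDescent.isPullback_forget (IsPullback.of_hasPullback p₂ g)) ‹_›
  -- the relation
  let Y₂ := pullback g g
  obtain ⟨O, hOc, hOsat⟩ := exists_eqLocus sqY Z hZ (pullback.fst g g) (pullback.snd g g)
    (by simp only [← Functor.map_comp_assoc, pullback.condition])
  let E := openSub Y₂ O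
  let ιE : E ⟶ Y₂ := openSubι Y₂ O
  let r₁ : E ⟶ Y := ιE ≫ pullback.fst g g
  let r₂ : E ⟶ Y := ιE ≫ pullback.snd g g
  haveI : Mono ιE := (Over.forget S).mono_of_mono_map (inferInstanceAs (Mono O.ι))
  have hE : ∀ {T : Over S} (a b : T ⟶ Y),
      (∃ r : T ⟶ E, r ≫ r₁ = a ∧ r ≫ r₂ = b) ↔
        a ≫ g = b ≫ g ∧ Sat (pullback.fst p₂ g ≫ p₁) (pullback.snd p₂ g) Z a b := by
    intro T a b
    constructor
    · rintro ⟨r, rfl, rfl⟩
      refine ⟨by simp only [r₁, r₂, Category.assoc, pullback.condition], ?_⟩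
      have := (hOsat (r ≫ ιE)).2 (by
        rintro _ ⟨t, rfl⟩
        rw [Over.comp_left, Scheme.Hom.comp_apply]
        exact (range_openSubι Y₂ O).le ⟨_, rfl⟩)
      simpa only [r₁, r₂, Category.assoc] using this
    · rintro ⟨h, hs⟩
      let k : T ⟶ Y₂ := pullback.lift a b h
      have hk₁ : k ≫ pullback.fst g g = a := pullback.lift_fst _ _ _
      have hk₂ : k ≫ pullback.snd g g = b := pullback.lift_snd _ _ _
      have hr := (hOsat k).1 (by rw [hk₁, hk₂]; exact hs)
      obtain ⟨r, hr'⟩ := exists_openSub_lift O k fun t => hr ⟨t, rfl⟩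
      exact ⟨r, (Category.assoc _ _ _).symm.trans ((congrArg (· ≫ pullback.fst g g) hr').trans hk₁),
        (Category.assoc _ _ _).symm.trans ((congrArg (· ≫ pullback.snd g g) hr').trans hk₂)⟩
  haveI : Etale g.left := hg
  have hfst : Etale (pullback.fst g g).left := MorphismProperty.of_isPullback (P := @Etale)
    (FppfDescent.isPullback_forget (IsPullback.of_hasPullback g g).flip) hg
  have hsnd : Etale (pullback.snd g g).left := MorphismProperty.of_isPullback (P := @Etale)
    (FppfDescent.isPullback_forget (IsPullback.of_hasPullback g g)) hg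
  haveI : Etale r₁.left := by show Etale (O.ι ≫ (pullback.fst g g).left); infer_instance
  haveI : Etale r₂.left := by show Etale (O.ι ≫ (pullback.snd g g).left); infer_instance
  have heqv : IsEqvRel r₂ r₁ :=
    { injective := fun T r r' h₁ h₂ => (cancel_mono ιE).1 (pullback.hom_ext
        (by simpa only [r₁, Category.assoc] using h₁) (by simpa only [r₂, Category.assoc] using h₂))
      equivalence := fun T => by
        simp only [hE]
        exact ⟨fun a => ⟨rfl, sat_self sqY Z a⟩, fun h => ⟨h.1.symm, h.2.symm⟩, fun {a b c} h h' =>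
          ⟨h.1.trans h'.1, h.2.trans sqY (by simp only [← Functor.map_comp_assoc, h.1]) h'.2⟩⟩ }
  let π := quotMap r₂ r₁
  have sqπ : IsPullback ((yon S).map r₁) ((yon S).map r₂) π π := isPullback_quotMap heqv
  obtain ⟨-, hπE, hπS⟩ := isAlgSpace_of_etale_kernelPair π sqπ
  haveI := effectiveEpi_of_epi π
  obtain ⟨f, hf⟩ : ∃ f, π ≫ f = (yon S).map g := by
    refine ⟨EffectiveEpi.desc π ((yon S).map g) fun k₁ k₂ w => ?_, EffectiveEpi.fac _ _ _⟩
    have hrg : (yon S).map r₁ ≫ (yon S).map g = (yon S).map r₂ ≫ (yon S).map g := by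
      simp only [← Functor.map_comp, r₁, r₂, Category.assoc, pullback.condition]
    have := congrArg (sqπ.lift k₁ k₂ w ≫ ·) hrg
    simpa only [← Category.assoc, IsPullback.lift_fst, IsPullback.lift_snd] using this
  haveI : IsAffine Y.left := hY
  haveI : IsAffine Y₂.left :=
    IsAffine.of_isPullback (FppfDescent.isPullback_forget (IsPullback.of_hasPullback g g))
  haveI : IsClosedImmersion ιE.left :=
    IsClosedImmersion.of_isPreimmersion (f := O.ι) (by rw [Scheme.Opens.range_ι]; exact hOc)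
  haveI : IsAffine E.left := isAffine_of_isAffineHom ιE.left
  haveI : LocallyQuasiFinite g.left := AlgSpc.lqf_of_etale g.left
  obtain ⟨V, ev, hev, ⟨v, hv⟩⟩ := SepLQF.exists_scheme_nbhd (f := f) hπE hπS hf.symm sqπ ιE rfl rfl y₀
  -- the preimage of `V`
  obtain ⟨Y', fst, jY, sqV⟩ := exists_sq hev.1 π
  let πV : Y' ⟶ V := pre fst
  haveI : IsOpenImmersion jY.left := hev.2 π fst jY sqV
  have sqV' : IsPullback ((yon S).map jY) ((yon S).map πV) π ev := by rw [map_pre]; exact sqV.flip
  haveI : Etale πV.left := hπE.2 ev _ _ sqV'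
  haveI : Surjective πV.left := hπS.2 ev _ _ sqV'
  let gV : V ⟶ A := pre (ev ≫ f)
  have hgV : πV ≫ gV = jY ≫ g := (yon S).map_injective (by
    rw [Functor.map_comp, Functor.map_comp, ← hf]; erw [map_pre (ev ≫ f)]; rw [← sqV'.w_assoc])
  have hgVe : Etale gV.left := EtLoc.descend (P := @Etale) πV.left gV.left ‹_› ‹_› (by
    rw [← Over.comp_left, hgV, Over.comp_left]; infer_instance)
  have hVmono : Mono ev :=
    mono_of_repWith (P := @IsOpenImmersion) (fun _ _ k (hk : IsOpenImmersion k) => inferInstance) hev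
  -- the fibre product over `V`
  let XV := pullback p₂ gV
  let X' := pullback (pullback.snd p₂ gV) πV
  let ρ : X' ⟶ XV := pullback.fst _ _
  let s' : X' ⟶ Y' := pullback.snd _ _
  have hρs : ρ ≫ pullback.snd p₂ gV = s' ≫ πV := pullback.condition
  obtain ⟨n', hn'₁, hn'₂⟩ : ∃ n' : X' ⟶ pullback p₂ g, n' ≫ pullback.fst p₂ g = ρ ≫ pullback.fst p₂ gV ∧
      n' ≫ pullback.snd p₂ g = s' ≫ jY :=
    ⟨pullback.lift (ρ ≫ pullback.fst p₂ gV) (s' ≫ jY) (by
      simp only [Category.assoc, pullback.condition, ← hgV, reassoc_of% hρs]),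
      pullback.lift_fst _ _ _, pullback.lift_snd _ _ _⟩
  have sqn : IsPullback n' s' (pullback.snd p₂ g) jY := by
    refine IsPullback.of_right (h₁₂ := pullback.fst p₂ g) (v₁₃ := p₂) (h₂₂ := g) ?_ hn'₂
      (IsPullback.of_hasPullback p₂ g)
    rw [hn'₁, ← hgV]
    exact (IsPullback.of_hasPullback (pullback.snd p₂ gV) πV).paste_horiz (IsPullback.of_hasPullback p₂ gV)
  let Z' := n'.left ⁻¹ᵁ Z
  have hρE : Etale ρ.left := MorphismProperty.of_isPullback (P := @Etale)
    (FppfDescent.isPullback_forget (IsPullback.of_hasPullback (pullback.snd p₂ gV) πV).flip) ‹_›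
  haveI : Surjective ρ.left := MorphismProperty.of_isPullback (P := @Surjective)
    (FppfDescent.isPullback_forget (IsPullback.of_hasPullback (pullback.snd p₂ gV) πV).flip) ‹_›
  let ZV : XV.left.Opens := ⟨ρ.left '' Z', ρ.left.isOpenMap _ Z'.2⟩
  have hsat : ∀ u : X'.left, ρ.left u ∈ ZV ↔ u ∈ Z' := by
    refine fun u => ⟨?_, fun hu => ⟨u, hu, rfl⟩⟩
    rintro ⟨u', hu', hρu⟩
    obtain ⟨w, hw₁, hw₂⟩ := Scheme.exists_preimage_of_isPullback
      (FppfDescent.isPullback_forget (IsPullback.of_hasPullback ρ ρ)) u' u hρu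
    let a := pullback.fst ρ ρ ≫ s' ≫ jY
    let b := pullback.snd ρ ρ ≫ s' ≫ jY
    have hc : pullback.fst ρ ρ ≫ ρ = pullback.snd ρ ρ ≫ ρ := pullback.condition
    have hab : (yon S).map a ≫ π = (yon S).map b ≫ π := by
      simp only [a, b, Functor.map_comp, Category.assoc, sqV'.w]
      simp only [← Functor.map_comp_assoc, ← hρs, reassoc_of% hc]
    obtain ⟨r, hr₁, hr₂⟩ : ∃ r, r ≫ r₁ = a ∧ r ≫ r₂ = b :=
      ⟨pre (sqπ.lift _ _ hab), (yon S).map_injective (by simp), (yon S).map_injective (by simp)⟩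
    have := ((hE a b).1 ⟨r, hr₁, hr₂⟩).2 (𝟙 _) (pullback.fst ρ ρ ≫ n') (pullback.snd ρ ρ ≫ n')
      (by simp only [Category.assoc, reassoc_of% hn'₁, reassoc_of% hc])
      (by simp only [Category.assoc, hn'₂, Category.id_comp, a])
      (by simp only [Category.assoc, hn'₂, Category.id_comp, b]) w
    simp only [Over.comp_left, Scheme.Hom.comp_apply, hw₁, hw₂] at this
    exact this.1 hu'
  have hZVc : IsClosed (ZV : Set XV.left) := by
    have hZ'c : IsClosed (Z' : Set X'.left) := hZ.preimage n'.left.continuous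
    have hcompl : (ZV : Set XV.left)ᶜ = ρ.left '' (Z' : Set X'.left)ᶜ := by
      ext z
      obtain ⟨u, rfl⟩ := ρ.left.surjective z
      refine ⟨fun h => ⟨u, fun hu => h ((hsat u).2 hu), rfl⟩, ?_⟩
      rintro ⟨u', hu', h⟩ hz
      exact hu' ((hsat u').1 (h ▸ hz))
    exact isOpen_compl_iff.1 (hcompl ▸ ρ.left.isOpenMap _ hZ'c.isOpen_compl)
  have hZVf : IsFinite (ZV.ι ≫ (pullback.snd p₂ gV).left) := by
    have hZ'eq : ρ.left ⁻¹ᵁ ZV = Z' := TopologicalSpace.Opens.ext (Set.ext hsat)
    have h₁ : IsFinite (Z'.ι ≫ s'.left) := MorphismProperty.of_isPullback (P := @IsFinite)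
      ((isPullback_morphismRestrict n'.left Z).paste_vert (FppfDescent.isPullback_forget sqn)) hZf
    rw [← hZ'eq] at h₁
    have hsqZ := ((isPullback_morphismRestrict ρ.left ZV).paste_vert
      (FppfDescent.isPullback_forget (IsPullback.of_hasPullback (pullback.snd p₂ gV) πV))).flip
    exact MorphismProperty.of_isPullback_of_descendsAlong (P := @IsFinite)
      (Q := @Surjective ⊓ @Flat ⊓ @LocallyOfFinitePresentation) hsqZ
      ⟨⟨‹_›, inferInstance⟩, inferInstance⟩ h₁
  -- the base point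
  obtain ⟨y', hy', hjy⟩ := exists_point_of_sq sqV (Points.ofScheme V v) y₀ (by
    rw [← Points.ofPt_eq_map_ofScheme, hv])
  have hδ' : ∃ δ' : Y' ⟶ X', δ' ≫ n' = jY ≫ diagPt he g ∧ δ' ≫ ρ = πV ≫ diagPt he gV ∧ δ' ≫ s' = 𝟙 _ := by
    let δ' : Y' ⟶ X' := pullback.lift (πV ≫ diagPt he gV) (𝟙 _) (by simp [diagPt])
    refine ⟨δ', ?_, pullback.lift_fst _ _ _, pullback.lift_snd _ _ _⟩
    apply pullback.hom_ext
    · rw [Category.assoc, hn'₁, pullback.lift_fst_assoc]
      simp [diagPt, reassoc_of% hgV]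
    · rw [Category.assoc, hn'₂, pullback.lift_snd_assoc]
      simp [diagPt]
  obtain ⟨δ', hδn, hδρ, hδs⟩ := hδ'
  have hδ'y : δ'.left y' ∈ Z' := by
    show n'.left (δ'.left y') ∈ Z
    rw [← Scheme.Hom.comp_apply, ← Over.comp_left, hδn, Over.comp_left, Scheme.Hom.comp_apply, hjy]
    exact hδ
  refine ⟨V, gV, ZV, πV.left y', hgVe, hZVc, hZVf, ?_, ?_, ?_, ?_⟩
  · rw [← Scheme.Hom.comp_apply, ← Over.comp_left, hgV, Over.comp_left, Scheme.Hom.comp_apply, hjy, hgy]
  · rw [← Scheme.Hom.comp_apply, ← Over.comp_left, ← hδρ, Over.comp_left, Scheme.Hom.comp_apply]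
    exact (hsat _).2 hδ'y
  · intro z hz hzy
    obtain ⟨u, hu₁, hu₂⟩ := Scheme.exists_preimage_of_isPullback
      (FppfDescent.isPullback_forget (IsPullback.of_hasPullback (pullback.snd p₂ gV) πV)) z y' hzy
    have huZ : n'.left u ∈ Z := (hsat u).1 (by rw [hu₁]; exact hz)
    have hsu : (pullback.snd p₂ g).left (n'.left u) = y₀ := by
      rw [← Scheme.Hom.comp_apply, ← Over.comp_left, hn'₂, Over.comp_left, Scheme.Hom.comp_apply,
        show s'.left u = y' from hu₂, hjy]
    haveI : IsOpenImmersion n'.left :=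
      MorphismProperty.of_isPullback (P := @IsOpenImmersion) (FppfDescent.isPullback_forget sqn).flip.flip.flip ‹_›
    have : u = δ'.left y' := n'.left.isOpenEmbedding.injective (by
      rw [huniq _ huZ hsu, ← Scheme.Hom.comp_apply, ← Over.comp_left, hδn, Over.comp_left,
        Scheme.Hom.comp_apply, hjy])
    rw [← hu₁, this, ← Scheme.Hom.comp_apply, ← Scheme.Hom.comp_apply, ← Over.comp_left, ← Over.comp_left]
    show (δ' ≫ ρ).left y' = _
    rw [hδρ]
  · intro T a b hab hs
    let T₁ := pullback a πV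
    let T₂ := pullback (pullback.fst a πV ≫ b) πV
    let c₁ : T₁ ⟶ T := pullback.fst a πV
    let c₂ : T₂ ⟶ T₁ := pullback.fst (c₁ ≫ b) πV
    let a' : T₂ ⟶ Y' := c₂ ≫ pullback.snd a πV
    let b' : T₂ ⟶ Y' := pullback.snd _ _
    let c : T₂ ⟶ T := c₂ ≫ c₁
    have ha' : a' ≫ πV = c ≫ a := by
      simp only [a', c, c₁, Category.assoc, pullback.condition]
    have hb' : b' ≫ πV = c ≫ b := by
      simp only [b', c, c₂, Category.assoc, ← pullback.condition]
      rfl
    have hsat' : Sat (pullback.fst p₂ g ≫ p₁) (pullback.snd p₂ g) Z (a' ≫ jY) (b' ≫ jY) := by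
      intro W w m₁ m₂ hm h₁ h₂ z
      let u₁ : W ⟶ X' := sqn.lift m₁ (w ≫ a') (by rw [h₁]; simp only [a', Category.assoc])
      let u₂ : W ⟶ X' := sqn.lift m₂ (w ≫ b') (by rw [h₂]; simp only [b', Category.assoc])
      have e₁ : u₁ ≫ n' = m₁ := sqn.lift_fst _ _ _
      have e₂ : u₂ ≫ n' = m₂ := sqn.lift_fst _ _ _
      have f₁ : u₁ ≫ s' = w ≫ a' := sqn.lift_snd _ _ _
      have f₂ : u₂ ≫ s' = w ≫ b' := sqn.lift_snd _ _ _
      have := hs (w ≫ c) (u₁ ≫ ρ) (u₂ ≫ ρ)
        (by simp only [Category.assoc, ← reassoc_of% hn'₁, reassoc_of% e₁, reassoc_of% e₂, hm])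
        (by rw [Category.assoc, hρs, reassoc_of% f₁, ha']; simp only [c, Category.assoc])
        (by rw [Category.assoc, hρs, reassoc_of% f₂, hb']; simp only [c, Category.assoc]) z
      simp only [Over.comp_left, Scheme.Hom.comp_apply] at this
      rw [← e₁, ← e₂]
      exact (hsat _).symm.trans (this.trans (hsat _))
    have hg' : (a' ≫ jY) ≫ g = (b' ≫ jY) ≫ g := by
      simp only [Category.assoc, ← hgV, reassoc_of% ha', reassoc_of% hb', hab]
    obtain ⟨r, hr₁, hr₂⟩ := (hE _ _).2 ⟨hg', hsat'⟩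
    have hπ : (yon S).map (c ≫ a) ≫ ev = (yon S).map (c ≫ b) ≫ ev := by
      have hrπ : (yon S).map (a' ≫ jY) ≫ π = (yon S).map (b' ≫ jY) ≫ π := by
        rw [← hr₁, ← hr₂]
        have := congrArg ((yon S).map r ≫ ·) sqπ.w
        exact (((yon S).map_comp_assoc r r₁ π).trans this).trans ((yon S).map_comp_assoc r r₂ π).symm
      simp only [← ha', ← hb', Functor.map_comp, Category.assoc, ← sqV'.w]
      simpa only [Functor.map_comp, Category.assoc] using hrπ
    have hcab : c ≫ a = c ≫ b := (yon S).map_injective ((cancel_mono ev).1 hπ)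
    haveI : Flat c₁.left := MorphismProperty.of_isPullback (P := @Flat)
      (FppfDescent.isPullback_forget (IsPullback.of_hasPullback a πV).flip) inferInstance
    haveI : Surjective c₁.left := MorphismProperty.of_isPullback (P := @Surjective)
      (FppfDescent.isPullback_forget (IsPullback.of_hasPullback a πV).flip) inferInstance
    haveI : Flat c₂.left := MorphismProperty.of_isPullback (P := @Flat)
      (FppfDescent.isPullback_forget (IsPullback.of_hasPullback (c₁ ≫ b) πV).flip) inferInstance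
    haveI : Surjective c₂.left := MorphismProperty.of_isPullback (P := @Surjective)
      (FppfDescent.isPullback_forget (IsPullback.of_hasPullback (c₁ ≫ b) πV).flip) inferInstance
    haveI : Epi (c₂.left ≫ c₁.left) := Flat.epi_of_flat_of_surjective _
    refine Over.OverMorphism.ext ((cancel_epi (c₂.left ≫ c₁.left)).1 ?_)
    simpa only [c, Over.comp_left] using congrArg CommaMorphism.left hcab

end Groth.Agent.AlgSpBoot
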