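import Groth.Agent.GrpdSep.Restrict
import Mathlib.AlgebraicGeometry.Morphisms.UniversallyInjective
import Groth.Agent.GrpdSep.StabDim

/-!
Over a finite type point there are no specializations in the automorphisms of an equivalence relation.
-/

set_option autoImplicit false
set_option linter.style.haveILetI false
set_option backward.isDefEq.respectTransparency false

universe u

open CategoryTheory CategoryTheory.Limits AlgebraicGeometry Grpd

namespace Groth.Agent.AlgSpBoot

variable {S : Scheme.{u}} (G : GroupoidScheme S)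

/-- Loops at a finite type point of an equivalence relation do not specialize. -/
theorem eq_of_specializes_orbit [Mono G.j] [LocallyOfFiniteType G.s] (u : G.U)
    [LocallyOfFiniteType (G.U.fromSpecResidueField u)] {r r' : G.R} (hs : G.s r = u) (ht : G.t r = u)
    (hs' : G.s r' = u) (ht' : G.t r' = u) (h : r ⤳ r') : r = r' := by
  let g := G.U.fromSpecResidueField u
  let G' := GrpdSep.restrict G g
  haveI : Mono G'.j := ⟨fun {Z} a b hab => by
    have hjt := hab =≫ pullback.fst G'.pU G'.pU
    have hjs := hab =≫ pullback.snd G'.pU G'.pU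
    simp only [Category.assoc, GroupoidScheme.j, pullback.lift_fst, pullback.lift_snd] at hjt hjs
    refine GrpdSep.res_ext G g hjt ((cancel_mono G.j).1 (pullback.hom_ext ?_ ?_)) hjs
    · have key : ∀ x : Z ⟶ GrpdSep.resR G g, ((x ≫ GrpdSep.resArr G g) ≫ G.j) ≫ pullback.fst G.pU G.pU =
          (x ≫ GrpdSep.resT G g) ≫ g := fun x => by
        rw [Category.assoc (x ≫ GrpdSep.resArr G g), GrpdSep.j_fst, Category.assoc, GrpdSep.resArr_t]
        simp only [Category.assoc]
      exact (key a).trans ((congrArg (· ≫ g) hjt).trans (key b).symm)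
    · have key : ∀ x : Z ⟶ GrpdSep.resR G g, ((x ≫ GrpdSep.resArr G g) ≫ G.j) ≫ pullback.snd G.pU G.pU =
          (x ≫ GrpdSep.resS G g) ≫ g := fun x => by
        rw [Category.assoc (x ≫ GrpdSep.resArr G g), GrpdSep.j_snd, Category.assoc, GrpdSep.resArr_s]
        simp only [Category.assoc]
      exact (key a).trans ((congrArg (· ≫ g) hjs).trans (key b).symm)⟩
  haveI : LocallyOfFiniteType (pullback.snd g G.t) := inferInstance
  haveI : LocallyOfFiniteType G'.s :=
    inferInstanceAs (LocallyOfFiniteType (pullback.snd (pullback.snd g G.t ≫ G.s) g))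
  haveI : IsPreimmersion (GrpdSep.resArr G g) := inferInstance
  have hpt : ∀ r₀, G.s r₀ = u → G.t r₀ = u → ∃ z : G'.R, GrpdSep.resArr G g z = r₀ := by
    intro r₀ h₁ h₂
    obtain ⟨w, -, hw⟩ := Scheme.Pullback.exists_preimage_pullback (f := g) (g := G.t)
      (IsLocalRing.closedPoint _) r₀ (by rw [h₂]; exact Scheme.fromSpecResidueField_apply _ _)
    obtain ⟨z, hz, -⟩ := Scheme.Pullback.exists_preimage_pullback (f := pullback.snd g G.t ≫ G.s) (g := g)
      w (IsLocalRing.closedPoint _) (by
        rw [Scheme.Hom.comp_apply, hw, h₁]; exact (Scheme.fromSpecResidueField_apply _ _).symm)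
    exact ⟨z, by rw [Scheme.Hom.comp_apply, hz, hw]⟩
  obtain ⟨z, rfl⟩ := hpt r hs ht
  obtain ⟨z', rfl⟩ := hpt r' hs' ht'
  have hzz : z ⤳ z' := (GrpdSep.resArr G g).isEmbedding.isInducing.specializes_iff.1 h
  exact congrArg _ (G'.j.injective (GrpdSep.j_eq_of_specializes G' (Iso.refl G'.U) hzz))

end Groth.Agent.AlgSpBoot
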