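import Groth.Agent.AlgSpBoot.SliceScheme
import Groth.Agent.AlgSpBoot.SliceOrbit
import Groth.Agent.AlgSpBoot.OfRel
import Groth.Agent.AlgSpBoot.Part
import Groth.Agent.AlgSpc.EtQuot
import Groth.Agent.FpqcDescent.Flat
import Groth.Agent.GenFlat.FppfSource

/-!
A quasi-finite flat chart through a Cohen–Macaulay point of a flat presentation of a sheaf.
-/

set_option autoImplicit false
set_option linter.style.haveILetI false
set_option backward.isDefEq.respectTransparency false

universe u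

open CategoryTheory CategoryTheory.Limits AlgebraicGeometry

namespace Groth.Agent.AlgSpBoot

open _root_.AlgSp Groth.Agent.AlgSpc Groth.Agent.AlgSpLoc

variable {S : Scheme.{u}} {F : Sp S} {U R : Over S} {q : (yon S).obj U ⟶ F} {r₁ r₂ : R ⟶ U}

theorem stalk_flat_comp {A B C : Scheme.{u}} (f : A ⟶ B) (g : B ⟶ C) (a : A)
    (hf : (f.stalkMap a).hom.Flat) (hg : (g.stalkMap (f a)).hom.Flat) : ((f ≫ g).stalkMap a).hom.Flat := by
  rw [Scheme.Hom.stalkMap_comp]
  exact hg.comp hf

theorem stalk_flat_congr {A B : Scheme.{u}} {f g : A ⟶ B} (e : f = g) {a : A} (h : (f.stalkMap a).hom.Flat) :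
    (g.stalkMap a).hom.Flat := e ▸ h

theorem kernelPair_ext (sq : IsPullback ((yon S).map r₁) ((yon S).map r₂) q q) {T : Scheme.{u}}
    (a b : T ⟶ R.left) (h₂ : a ≫ r₂.left = b ≫ r₂.left) (h₁ : a ≫ r₁.left = b ≫ r₁.left) : a = b := by
  have hw : b ≫ R.hom = a ≫ R.hom := by
    rw [← Over.w r₂, ← reassoc_of% h₂]
  have h : (Over.homMk a rfl : Over.mk (a ≫ R.hom) ⟶ R) = Over.homMk b hw := (yon S).map_injective
    (sq.hom_ext (by rw [← Functor.map_comp, ← Functor.map_comp]; congr 1; exact Over.OverMorphism.ext h₁)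
      (by rw [← Functor.map_comp, ← Functor.map_comp]; congr 1; exact Over.OverMorphism.ext h₂))
  exact congrArg CommaMorphism.left h

/-- The groupoid of a kernel pair. -/
theorem exists_kerGroupoid (sq : IsPullback ((yon S).map r₁) ((yon S).map r₂) q q) :
    ∃ (i : R.left ⟶ R.left) (c : pullback r₂.left r₁.left ⟶ R.left) (e : U.left ⟶ R.left),
      e ≫ r₂.left = 𝟙 _ ∧ e ≫ r₁.left = 𝟙 _ ∧ i ≫ r₂.left = r₁.left ∧ i ≫ r₁.left = r₂.left ∧
      c ≫ r₂.left = pullback.snd r₂.left r₁.left ≫ r₂.left ∧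
      c ≫ r₁.left = pullback.fst r₂.left r₁.left ≫ r₁.left := by
  obtain ⟨e, he₁, he₂⟩ := exists_diag sq
  obtain ⟨i, hi₁, hi₂⟩ : ∃ i : R ⟶ R, i ≫ r₁ = r₂ ∧ i ≫ r₂ = r₁ :=
    ⟨pre (sq.lift ((yon S).map r₂) ((yon S).map r₁) sq.w.symm), (yon S).map_injective (by simp),
      (yon S).map_injective (by simp)⟩
  obtain ⟨c, hc₁, hc₂⟩ : ∃ c : pullback r₂ r₁ ⟶ R,
      c ≫ r₁ = pullback.fst r₂ r₁ ≫ r₁ ∧ c ≫ r₂ = pullback.snd r₂ r₁ ≫ r₂ :=
    ⟨pre (sq.lift ((yon S).map (pullback.fst r₂ r₁ ≫ r₁)) ((yon S).map (pullback.snd r₂ r₁ ≫ r₂)) (by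
      rw [Functor.map_comp, Category.assoc, sq.w, ← Category.assoc, ← Functor.map_comp, pullback.condition,
        Functor.map_comp, Category.assoc, sq.w, ← Category.assoc, ← Functor.map_comp])),
      (yon S).map_injective (by simp), (yon S).map_injective (by simp)⟩
  have sqc := FppfDescent.isPullback_forget (IsPullback.of_hasPullback r₂ r₁)
  refine ⟨i.left, sqc.isoPullback.inv ≫ c.left, e.left, congrArg CommaMorphism.left he₂,
    congrArg CommaMorphism.left he₁, congrArg CommaMorphism.left hi₂, congrArg CommaMorphism.left hi₁, ?_, ?_⟩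
  · rw [Category.assoc, ← Over.comp_left, hc₂, Over.comp_left, sqc.isoPullback_inv_snd_assoc]
  · rw [Category.assoc, ← Over.comp_left, hc₁, Over.comp_left, sqc.isoPullback_inv_fst_assoc]

/-- No loop at a finite type point specializes to the identity. -/
theorem eq_of_specializes_loop (sq : IsPullback ((yon S).map r₁) ((yon S).map r₂) q q)
    [LocallyOfFiniteType r₂.left] (u : U.left) [LocallyOfFiniteType (U.left.fromSpecResidueField u)]
    {r r' : R.left} (h₁ : r₁.left r = u) (h₂ : r₂.left r = u) (h₁' : r₁.left r' = u) (h₂' : r₂.left r' = u)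
    (h : r ⤳ r') : r = r' := by
  obtain ⟨i, c, e, he₂, he₁, hi₂, hi₁, hc₂, hc₁⟩ := exists_kerGroupoid sq
  let G : Grpd.GroupoidScheme S := ofRel U.hom r₂.left r₁.left ((Over.w r₁).trans (Over.w r₂).symm)
    (fun a b h₂ h₁ => kernelPair_ext sq a b h₂ h₁) e he₂ he₁ i hi₂ hi₁ c hc₂ hc₁
  haveI : Mono G.j := mono_j_ofRel G fun a b h₂ h₁ => kernelPair_ext sq a b h₂ h₁
  haveI : LocallyOfFiniteType G.s := ‹LocallyOfFiniteType r₂.left›
  haveI : LocallyOfFiniteType (G.U.fromSpecResidueField u) := ‹LocallyOfFiniteType (U.left.fromSpecResidueField u)›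
  exact eq_of_specializes_orbit G u h₂ h₁ h₂' h₁' h

theorem good_iff {X Y X' Y' : Scheme.{u}} {g' : X' ⟶ X} {f' : X' ⟶ Y'} {f : X ⟶ Y} {g : Y' ⟶ Y}
    (sq : IsPullback g' f' f g) [Flat g] [LocallyOfFiniteType f] (x' : X') :
    (f.stalkMap (g' x')).hom.Flat ∧ f.QuasiFiniteAt (g' x') ↔
      (f'.stalkMap x').hom.Flat ∧ f'.QuasiFiniteAt x' := by
  haveI : Flat g' := MorphismProperty.of_isPullback sq.flip ‹_›
  rw [FlatMorLib.quasiFiniteAt_baseChange_iff sq x']
  refine and_congr_left' ⟨GrpSch.flat_stalkMap_of_isPullback sq x', fun h => ?_⟩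
  refine (FpqcDescent.flat_stalkMap_comp_iff g' f x' (Flat.stalkMap _ _)).1 ?_
  exact stalk_flat_congr sq.w.symm ((FpqcDescent.flat_stalkMap_comp_iff f' g x' h).2 (Flat.stalkMap _ _))

set_option maxHeartbeats 800000 in
/-- Being flat and quasi-finite is constant along the fibres of the projection to the chart. -/
theorem good_of_fst_eq (sq : IsPullback ((yon S).map r₁) ((yon S).map r₂) q q) [Flat r₁.left] [Flat r₂.left]
    [LocallyOfFiniteType r₂.left] {A : Over S} (g : A ⟶ U) [LocallyOfFiniteType g.left]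
    {p p' : (pullback g r₁).left} (hpp : (pullback.fst g r₁).left p = (pullback.fst g r₁).left p')
    (hp : ((pullback.snd g r₁ ≫ r₂).left.stalkMap p).hom.Flat ∧ (pullback.snd g r₁ ≫ r₂).left.QuasiFiniteAt p) :
    ((pullback.snd g r₁ ≫ r₂).left.stalkMap p').hom.Flat ∧ (pullback.snd g r₁ ≫ r₂).left.QuasiFiniteAt p' := by
  let P := pullback g r₁
  let pr : P ⟶ A := pullback.fst g r₁
  let h : P ⟶ U := pullback.snd g r₁ ≫ r₂
  haveI : LocallyOfFiniteType (pullback.snd g r₁).left := MorphismProperty.of_isPullback (P := @LocallyOfFiniteType)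
    (FppfDescent.isPullback_forget (IsPullback.of_hasPullback g r₁)) ‹_›
  haveI : LocallyOfFiniteType h.left := by
    show LocallyOfFiniteType ((pullback.snd g r₁).left ≫ r₂.left); infer_instance
  have sqP : IsPullback ((yon S).map pr) ((yon S).map h) ((yon S).map g ≫ q) q := by
    rw [Functor.map_comp]
    exact ((IsPullback.of_hasPullback g r₁).map (yon S)).paste_vert sq
  let π₁ : pullback pr pr ⟶ P := pullback.fst pr pr
  let π₂ : pullback pr pr ⟶ P := pullback.snd pr pr
  obtain ⟨δ, hδ₁, hδ₂⟩ : ∃ δ : pullback pr pr ⟶ R, δ ≫ r₁ = π₁ ≫ h ∧ δ ≫ r₂ = π₂ ≫ h :=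
    ⟨pre (sq.lift ((yon S).map (π₁ ≫ h)) ((yon S).map (π₂ ≫ h)) (by
      rw [(yon S).map_comp π₁ h, (yon S).map_comp π₂ h, Category.assoc, Category.assoc, ← sqP.w,
        ← Functor.map_comp_assoc, ← Functor.map_comp_assoc, ← Functor.map_comp_assoc, ← Functor.map_comp_assoc,
        show π₁ ≫ pr = π₂ ≫ pr from pullback.condition])),
      (yon S).map_injective (by simp), (yon S).map_injective (by simp)⟩
  have sq₀ := (IsPullback.of_hasPullback pr pr).map (yon S)
  have sqa : IsPullback π₁ δ h r₁ := by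
    refine IsPullback.of_map (yon S) (by rw [hδ₁]) (IsPullback.of_bot ?_ ?_ sq)
    · have := sq₀.paste_vert sqP
      rw [sqP.w] at this
      rwa [← (yon S).map_comp δ r₂, hδ₂, (yon S).map_comp π₂ h]
    · rw [← Functor.map_comp, ← Functor.map_comp, hδ₁]
  have sqb : IsPullback π₂ δ h r₂ := by
    refine IsPullback.of_map (yon S) (by rw [hδ₂]) (IsPullback.of_bot ?_ ?_ sq.flip)
    · have := sq₀.flip.paste_vert sqP
      rw [sqP.w] at this
      rwa [← (yon S).map_comp δ r₁, hδ₁, (yon S).map_comp π₁ h]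
    · rw [← Functor.map_comp, ← Functor.map_comp, hδ₂]
  obtain ⟨z, hz₁, hz₂⟩ := Scheme.exists_preimage_of_isPullback
    (FppfDescent.isPullback_forget (IsPullback.of_hasPullback pr pr)) p p' hpp
  have h₁ := good_iff (FppfDescent.isPullback_forget sqa) z
  have h₂ := good_iff (FppfDescent.isPullback_forget sqb) z
  have hz₁' : π₁.left z = p := hz₁
  have hz₂' : π₂.left z = p' := hz₂
  rw [hz₁'] at h₁
  rw [hz₂'] at h₂
  exact h₂.2 (h₁.1 hp)

set_option maxHeartbeats 800000 in
/-- The chart over an open of a slice on which the slice is flat and quasi-finite. -/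
theorem repWith_slice (sq : IsPullback ((yon S).map r₁) ((yon S).map r₂) q q) [Sheaf.IsLocallySurjective q]
    [LocallyOfFiniteType r₁.left] [LocallyOfFinitePresentation r₂.left] {A : Over S} (g : A ⟶ U)
    [LocallyOfFinitePresentation g.left]
    (hgood : ∀ p, ((pullback.snd g r₁ ≫ r₂).left.stalkMap p).hom.Flat ∧ (pullback.snd g r₁ ≫ r₂).left.QuasiFiniteAt p) :
    RepWith (@Flat ⊓ @LocallyOfFinitePresentation ⊓ @LocallyQuasiFinite) ((yon S).map g ≫ q) := by
  let P := pullback g r₁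
  let h : P ⟶ U := pullback.snd g r₁ ≫ r₂
  haveI : LocallyOfFinitePresentation (pullback.snd g r₁).left :=
    MorphismProperty.of_isPullback (P := @LocallyOfFinitePresentation)
      (FppfDescent.isPullback_forget (IsPullback.of_hasPullback g r₁)) ‹_›
  haveI : LocallyOfFinitePresentation h.left := by
    show LocallyOfFinitePresentation ((pullback.snd g r₁).left ≫ r₂.left); infer_instance
  haveI : Flat h.left := (Flat.iff_flat_stalkMap _).2 fun p => (hgood p).1
  haveI : LocallyQuasiFinite h.left := FlatSlice.locallyQuasiFinite_of_forall _ fun p => (hgood p).2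
  have sqP : IsPullback ((yon S).map (pullback.fst g r₁)) ((yon S).map h) ((yon S).map g ≫ q) q := by
    rw [Functor.map_comp]
    exact ((IsPullback.of_hasPullback g r₁).map (yon S)).paste_vert sq
  refine repWith_mk fun T y => ?_
  obtain ⟨T₁, c, u, hc₁, hc₂, hc₃, hu⟩ := exists_fppf_lift q y
  obtain ⟨V, fst, snd, sqV⟩ := exists_pullback_of_lifts sq ((yon S).map g ≫ q) y (𝟙 A) c g u (by simp) hu
  refine ⟨V, fst, snd, sqV, ?_⟩
  have big₁ := ((IsPullback.of_hasPullback h u).map (yon S)).paste_horiz sqP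
  have big₂ := ((IsPullback.of_hasPullback snd c).map (yon S)).paste_horiz sqV
  rw [← hu] at big₁
  let i := big₁.isoIsPullback _ _ big₂
  have hi' : i.inv ≫ (yon S).map (pullback.snd h u) = (yon S).map (pullback.snd snd c) :=
    IsPullback.isoIsPullback_inv_snd _ _ _ _
  have hi'' : pre i.inv ≫ pullback.snd h u = pullback.snd snd c := (yon S).map_injective (by simp [hi'])
  haveI : IsIso (pre i.inv).left := by
    haveI : IsIso (pre i.inv) := by
      haveI : IsIso ((yon S).map (pre i.inv)) := by rw [map_pre]; infer_instance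
      exact isIso_of_fully_faithful (yon S) _
    exact inferInstanceAs (IsIso ((Over.forget S).map (pre i.inv)))
  have sqh := FppfDescent.isPullback_forget (IsPullback.of_hasPullback h u)
  haveI : Flat (pullback.snd h u).left := MorphismProperty.of_isPullback (P := @Flat) sqh ‹_›
  haveI : LocallyOfFinitePresentation (pullback.snd h u).left :=
    MorphismProperty.of_isPullback (P := @LocallyOfFinitePresentation) sqh ‹_›
  haveI : LocallyQuasiFinite (pullback.snd h u).left :=
    MorphismProperty.of_isPullback (P := @LocallyQuasiFinite) sqh ‹_›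
  have hf : Flat (pullback.snd snd c).left := by rw [← hi'', Over.comp_left]; infer_instance
  have hl : LocallyOfFinitePresentation (pullback.snd snd c).left := by rw [← hi'', Over.comp_left]; infer_instance
  have hq : LocallyQuasiFinite (pullback.snd snd c).left := by rw [← hi'', Over.comp_left]; infer_instance
  have sqd := FppfDescent.isPullback_forget (IsPullback.of_hasPullback snd c)
  haveI : Flat (pullback.fst snd c).left := MorphismProperty.of_isPullback (P := @Flat) sqd.flip hc₁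
  haveI : LocallyOfFinitePresentation (pullback.fst snd c).left :=
    MorphismProperty.of_isPullback (P := @LocallyOfFinitePresentation) sqd.flip hc₂
  haveI : Surjective (pullback.fst snd c).left := MorphismProperty.of_isPullback (P := @Surjective) sqd.flip hc₃
  haveI : Flat ((pullback.fst snd c).left ≫ snd.left) := by rw [sqd.w]; infer_instance
  haveI : LocallyOfFinitePresentation ((pullback.fst snd c).left ≫ snd.left) := by rw [sqd.w]; infer_instance
  haveI : LocallyOfFinitePresentation snd.left :=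
    GenFlat.locallyOfFinitePresentation_of_fppf_comp (pullback.fst snd c).left snd.left
  refine ⟨⟨FpqcDescent.flat_of_flat_comp (pullback.fst snd c).left snd.left, inferInstance⟩,
    FlatSlice.locallyQuasiFinite_of_forall _ fun v => ?_⟩
  obtain ⟨z, rfl⟩ := (pullback.fst snd c).left.surjective v
  exact (FlatMorLib.quasiFiniteAt_baseChange_iff sqd z).1 (@Scheme.Hom.quasiFiniteAt _ _ _ hq z)

set_option maxHeartbeats 800000 in
/-- A quasi-finite flat chart through a Cohen–Macaulay finite type point. -/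
theorem exists_qf_chart (sq : IsPullback ((yon S).map r₁) ((yon S).map r₂) q q) [Sheaf.IsLocallySurjective q]
    [Flat r₁.left] [LocallyOfFinitePresentation r₁.left] [Flat r₂.left] [LocallyOfFinitePresentation r₂.left]
    {e : U ⟶ R} (he₁ : e ≫ r₁ = 𝟙 U) (he₂ : e ≫ r₂ = 𝟙 U) (u : U.left)
    [LocallyOfFiniteType (U.left.fromSpecResidueField u)] (hcm : MoreMor.IsCMAt r₂.left (e.left u)) :
    ∃ (A : Over S) (_ : IsAffine A.left) (g : A ⟶ U) (a : A.left), g.left a = u ∧
      RepWith (@Flat ⊓ @LocallyOfFinitePresentation ⊓ @LocallyQuasiFinite) ((yon S).map g ≫ q) := by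
  have hx₁ : r₁.left (e.left u) = u := by rw [← Scheme.Hom.comp_apply, ← Over.comp_left, he₁]; rfl
  have hx₂ : r₂.left (e.left u) = u := by rw [← Scheme.Hom.comp_apply, ← Over.comp_left, he₂]; rfl
  have hres : (r₂.left.residueFieldMap (e.left u)).hom.Finite := by
    have hbij : Function.Surjective (r₂.left.residueFieldMap (e.left u)).hom := by
      have hcomp : e.left ≫ r₂.left = 𝟙 U.left := congrArg CommaMorphism.left he₂
      haveI : IsIso ((e.left ≫ r₂.left).residueFieldMap u) := by rw [hcomp]; infer_instance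
      intro a
      obtain ⟨b, hb⟩ := (asIso ((e.left ≫ r₂.left).residueFieldMap u)).commRingCatIsoToRingEquiv.surjective
        ((e.left.residueFieldMap u).hom a)
      refine ⟨b, (e.left.residueFieldMap u).hom.injective ?_⟩
      rw [← hb]
      simp only [Scheme.residueFieldMap_comp]
      rfl
    exact RingHom.Finite.of_surjective _ hbij
  obtain ⟨A₀, hA₀, j, hj, p₀, O, hp₀, hpO, hO⟩ := exists_slice_scheme r₁.left r₂.left (e.left u) hcm
    (fun y hy h₂ h₁ => eq_of_specializes_loop sq u (h₁.trans hx₁) (h₂.trans hx₂) hx₁ hx₂ hy) hres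
  let A₁ : Over S := Over.mk (j ≫ U.hom)
  let g₁ : A₁ ⟶ U := Over.homMk j rfl
  haveI : LocallyOfFinitePresentation g₁.left := hj
  have sq₁ := FppfDescent.isPullback_forget (IsPullback.of_hasPullback g₁ r₁)
  haveI : Flat (pullback.fst g₁ r₁).left := MorphismProperty.of_isPullback (P := @Flat) sq₁.flip ‹_›
  haveI : LocallyOfFinitePresentation (pullback.fst g₁ r₁).left :=
    MorphismProperty.of_isPullback (P := @LocallyOfFinitePresentation) sq₁.flip ‹_›
  let ι := sq₁.isoPullback
  have hι₁ : ι.hom ≫ pullback.fst j r₁.left = (pullback.fst g₁ r₁).left := sq₁.isoPullback_hom_fst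
  have hι₂ : ι.hom ≫ pullback.snd j r₁.left = (pullback.snd g₁ r₁).left := sq₁.isoPullback_hom_snd
  have hGood : ∀ y ∈ ι.hom ⁻¹ᵁ O, ((pullback.snd g₁ r₁ ≫ r₂).left.stalkMap y).hom.Flat ∧
      (pullback.snd g₁ r₁ ≫ r₂).left.QuasiFiniteAt y := by
    intro y hy
    obtain ⟨h₁, h₂⟩ := hO _ hy
    rw [Over.comp_left, ← hι₂, Category.assoc]
    exact ⟨stalk_flat_comp ι.hom _ y (Flat.stalkMap _ _) h₁,
      (Scheme.Hom.quasiFiniteAt_comp_iff_of_isOpenImmersion (f := ι.hom)).2 h₂⟩
  let W : A₁.left.Opens := ⟨(pullback.fst g₁ r₁).left '' (ι.hom ⁻¹ᵁ O : Set (pullback g₁ r₁).left),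
    (pullback.fst g₁ r₁).left.isOpenMap _ (ι.hom ⁻¹ᵁ O).2⟩
  have hpre : ∃ y ∈ ι.hom ⁻¹ᵁ O, ι.hom y = p₀ := by
    refine ⟨ι.inv p₀, ?_, ?_⟩
    · show ι.hom (ι.inv p₀) ∈ O
      rw [← Scheme.Hom.comp_apply, ι.inv_hom_id]; exact hpO
    · rw [← Scheme.Hom.comp_apply, ι.inv_hom_id]; rfl
  obtain ⟨y₀, hy₀, hy₀p⟩ := hpre
  obtain ⟨_, ⟨(B : A₁.left.Opens), hB, rfl⟩, haB, hBW⟩ := A₁.left.isBasis_affineOpens.exists_subset_of_mem_open
    (show (pullback.fst g₁ r₁).left y₀ ∈ (W : Set A₁.left) from ⟨y₀, hy₀, rfl⟩) W.2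
  let A : Over S := openSub A₁ B
  let ιA : A ⟶ A₁ := openSubι A₁ B
  haveI : IsOpenImmersion ιA.left := inferInstanceAs (IsOpenImmersion B.ι)
  haveI : LocallyOfFinitePresentation (ιA ≫ g₁).left := by
    show LocallyOfFinitePresentation (ιA.left ≫ g₁.left); infer_instance
  refine ⟨A, hB, ιA ≫ g₁, (⟨_, haB⟩ : (B : Scheme.{u})), ?_, repWith_slice sq (ιA ≫ g₁) fun z => ?_⟩
  · show j ((pullback.fst g₁ r₁).left y₀) = u
    rw [← hι₁, Scheme.Hom.comp_apply]
    exact (congrArg (fun w => j (pullback.fst j r₁.left w)) hy₀p).trans (hp₀.trans hx₁)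
  · let m : pullback (ιA ≫ g₁) r₁ ⟶ pullback g₁ r₁ :=
      pullback.map (ιA ≫ g₁) r₁ g₁ r₁ ιA (𝟙 R) (𝟙 U) (by simp) (by simp)
    have sqm : IsPullback (pullback.fst (ιA ≫ g₁) r₁) m ιA (pullback.fst g₁ r₁) := by
      refine IsPullback.of_bot ?_ (pullback.lift_fst _ _ _).symm (IsPullback.of_hasPullback g₁ r₁)
      simpa [m] using IsPullback.of_hasPullback (ιA ≫ g₁) r₁
    haveI : IsOpenImmersion m.left := MorphismProperty.of_isPullback (P := @IsOpenImmersion)
      (FppfDescent.isPullback_forget sqm) inferInstance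
    have hmW : (pullback.fst g₁ r₁).left (m.left z) ∈ W := by
      refine hBW ?_
      rw [← Scheme.Hom.comp_apply, ← Over.comp_left, ← sqm.w]
      exact ((pullback.fst (ιA ≫ g₁) r₁).left z).2
    obtain ⟨y, hy, hyz⟩ := hmW
    have hg := good_of_fst_eq sq g₁ hyz (hGood y hy)
    have e₁ : (pullback.snd (ιA ≫ g₁) r₁ ≫ r₂).left = m.left ≫ (pullback.snd g₁ r₁ ≫ r₂).left := by
      rw [← Over.comp_left, pullback.lift_snd_assoc, Category.comp_id]
    rw [e₁]
    exact ⟨stalk_flat_comp m.left _ z (Flat.stalkMap _ _) hg.1,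
      (Scheme.Hom.quasiFiniteAt_comp_iff_of_isOpenImmersion (f := m.left)).2 hg.2⟩

end Groth.Agent.AlgSpBoot
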