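import Groth.Agent.FlatSlice.CMFibre

/-!
Regular sequences in a Cohen–Macaulay local ring coming from an ideal with the closed point as zero set.
-/

set_option autoImplicit false
set_option linter.style.haveILetI false

universe u

open RingTheory.Sequence IsLocalRing LocCoh

namespace Groth.Agent.AlgSpBoot

/-- A regular sequence from `J` cutting out the closed point, when `J` cuts out the closed point. -/
theorem exists_regular_radical_comap {B C : Type u} [CommRing B] [CommRing C]
    [IsCohenMacaulayLocalRing C] (ψ : B →+* C) (J : Ideal B) (hJ : J.map ψ ≤ maximalIdeal C)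
    (hrad : ∀ P : Ideal C, P.IsPrime → J.map ψ ≤ P → P = maximalIdeal C) :
    ∃ bs : List B, (∀ b ∈ bs, b ∈ J) ∧ IsWeaklyRegular C (bs.map ψ) ∧
      ∀ P : Ideal C, P.IsPrime → Ideal.ofList (bs.map ψ) ≤ P → P = maximalIdeal C := by
  have hne := Depth.maximalIdeal_smul_top_ne_top (R := C) (M := C)
  obtain ⟨d, hd⟩ := Depth.exists_natCast_eq_idealDepth hne
  have hmem : ∀ bs : List B, (∀ b ∈ bs, b ∈ J) → ∀ r ∈ bs.map ψ, r ∈ maximalIdeal C := by
    intro bs hbs r hr
    obtain ⟨b, hb, rfl⟩ := List.mem_map.1 hr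
    exact hJ (Ideal.mem_map_of_mem ψ (hbs b hb))
  have key : ∀ k, ∀ bs : List B, d ≤ bs.length + k → (∀ b ∈ bs, b ∈ J) →
      IsWeaklyRegular C (bs.map ψ) →
      ∃ bs' : List B, (∀ b ∈ bs', b ∈ J) ∧ IsWeaklyRegular C (bs'.map ψ) ∧ bs'.length = d := by
    intro k
    induction k with
    | zero =>
      intro bs hk hb h
      have h1 := Depth.le_idealDepth_of_isWeaklyRegular h (hmem bs hb)
      rw [hd, List.length_map, Nat.cast_le] at h1
      exact ⟨bs, hb, h, by omega⟩
    | succ k ih =>
      intro bs hk hb h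
      by_cases hlen : d ≤ bs.length
      · have h1 := Depth.le_idealDepth_of_isWeaklyRegular h (hmem bs hb)
        rw [hd, List.length_map, Nat.cast_le] at h1
        exact ⟨bs, hb, h, by omega⟩
      let Q := C ⧸ Ideal.ofList (bs.map ψ) • (⊤ : Submodule C C)
      have h1 := Depth.idealDepth_quot_ofList_add_length (bs.map ψ) C h (hmem bs hb)
      rw [hd, List.length_map] at h1
      haveI : Nontrivial Q := Submodule.Quotient.nontrivial_iff.mpr fun h' =>
        hne (top_le_iff.mp (h'.ge.trans (Submodule.smul_mono_left (Depth.ofList_le (hmem bs hb)))))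
      have hneQ := Depth.maximalIdeal_smul_top_ne_top (R := C) (M := Q)
      have h0 : ∀ p ∈ associatedPrimes C Q, ¬ J ≤ p.comap ψ := by
        intro p hp hJp
        haveI := hp.1
        have hpm := hrad p hp.1 (Ideal.map_le_iff_le_comap.2 hJp)
        have h2 := (Depth.idealDepth_eq_zero_iff hneQ).2 ⟨p, hp, hpm.ge⟩
        rw [show idealDepth (maximalIdeal C) Q = 0 from h2, zero_add, Nat.cast_inj] at h1
        omega
      classical
      have hfin := associatedPrimes.finite C Q
      have hnsub : ¬ ((J : Set B) ⊆ ⋃ p ∈ (↑hfin.toFinset : Set (Ideal C)), (p.comap ψ : Set B)) := by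
        rw [Ideal.subset_union_prime ⊥ ⊥ (fun p hp _ _ => by
          haveI := (hfin.mem_toFinset.1 hp).1
          exact Ideal.comap_isPrime ψ p)]
        rintro ⟨p, hp, hle⟩
        exact h0 p (hfin.mem_toFinset.1 hp) hle
      obtain ⟨b, hbJ, hb'⟩ := Set.not_subset.1 hnsub
      have hreg : IsSMulRegular Q (ψ b) := by
        by_contra hcon
        have : ψ b ∈ ⋃ p ∈ associatedPrimes C Q, (p : Set C) := by
          rw [biUnion_associatedPrimes_eq_compl_regular]; exact hcon
        obtain ⟨p, hp, hbp⟩ := Set.mem_iUnion₂.1 this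
        exact hb' (Set.mem_iUnion₂.2 ⟨p, hfin.mem_toFinset.2 hp, hbp⟩)
      refine ih (bs ++ [b]) (by rw [List.length_append, List.length_singleton]; omega) ?_ ?_
      · intro x hx
        rcases List.mem_append.mp hx with h' | h'
        · exact hb x h'
        · exact (List.mem_singleton.mp h') ▸ hbJ
      · rw [List.map_append, List.map_singleton]
        exact (isWeaklyRegular_append_iff C _ [ψ b]).2 ⟨h, (isWeaklyRegular_singleton_iff _ _).2 hreg⟩
  obtain ⟨bs, hb, hreg, hlen⟩ := key d [] (Nat.le_add_left _ _) (by simp) (.nil _ _)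
  refine ⟨bs, hb, hreg, fun P hP hle => ?_⟩
  have hI := (Depth.idealDepth_ofList_eq_length_iff (M := C) _ (hmem bs hb)).2 hreg
  have h1 := Depth.supportDim_eq_quotient_add_idealDepth C Depth.isCohenMacaulayModule_self
    (Depth.ofList_le (hmem bs hb))
  rw [hI, List.length_map, hlen, Module.supportDim_self_eq_ringKrullDim, Depth.ringKrullDim_eq_depth] at h1
  have hd' : LocCoh.depth C C = d := hd
  rw [hd'] at h1
  have hS : ∀ p : PrimeSpectrum C, Ideal.ofList (bs.map ψ) ≤ p.asIdeal →
      p ∈ Module.support C (C ⧸ Ideal.ofList (bs.map ψ) • (⊤ : Submodule C C)) := fun p hp => by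
    rw [Module.support_quotient]
    exact ⟨Module.mem_support_iff.2 inferInstance, hp⟩
  haveI : Nontrivial (C ⧸ Ideal.ofList (bs.map ψ) • (⊤ : Submodule C C)) :=
    Module.nonempty_support_iff.1 ⟨⟨P, hP⟩, hS _ hle⟩
  obtain ⟨k, hk⟩ := Depth.exists_natCast_eq_supportDim (R := C)
    (M := C ⧸ Ideal.ofList (bs.map ψ) • (⊤ : Submodule C C))
  rw [hk] at h1
  have hk0 : k = 0 := by
    have h2 : d = k + d := by exact_mod_cast h1
    omega
  rw [hk0] at hk
  have hmax := Order.krullDim_nonpos_iff_forall_isMax.1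
    (show Order.krullDim (Module.support C (C ⧸ Ideal.ofList (bs.map ψ) • (⊤ : Submodule C C))) ≤ 0 from
      hk.trans_le (by simp))
  have := hmax ⟨⟨P, hP⟩, hS _ hle⟩
    (b := ⟨⟨maximalIdeal C, inferInstance⟩, hS _ (Depth.ofList_le (hmem bs hb))⟩)
    (IsLocalRing.le_maximalIdeal hP.ne_top)
  exact le_antisymm (IsLocalRing.le_maximalIdeal hP.ne_top) this

open AlgebraicGeometry CategoryTheory

theorem fromSpecStalk_closedPoint_eq {X Y : Scheme.{u}} (f : X ⟶ Y) (x : X)
    (P : Spec (X.presheaf.stalk x))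
    (h : (maximalIdeal (Y.presheaf.stalk (f x))).map (f.stalkMap x).hom ≤ P.asIdeal) :
    f (X.fromSpecStalk x P) = f x := by
  rw [← Scheme.Hom.comp_apply, ← Scheme.SpecMap_stalkMap_fromSpecStalk f, Scheme.Hom.comp_apply]
  have hP : Spec.map (f.stalkMap x) P = IsLocalRing.closedPoint (Y.presheaf.stalk (f x)) := by
    apply PrimeSpectrum.ext
    exact le_antisymm (IsLocalRing.le_maximalIdeal (Ideal.IsPrime.comap (hK := P.2) _).ne_top)
      (Ideal.map_le_iff_le_comap.1 h)
  rw [hP]
  exact Scheme.fromSpecStalk_closedPoint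

/-- A regular sequence on the fibre of `f₂` made of functions coming from the target of `f₁`. -/
theorem exists_cm_sequence_two {X S U : Scheme.{u}} (f₁ : X ⟶ U) (f₂ : X ⟶ S) (x : X)
    (hcm : MoreMor.IsCMAt f₂ x)
    (hT : ∀ y : X, y ⤳ x → f₂ y = f₂ x → f₁ y = f₁ x → y = x) :
    ∃ bs : List (U.presheaf.stalk (f₁ x)), (∀ b ∈ bs, b ∈ maximalIdeal _) ∧
      IsWeaklyRegular (X.presheaf.stalk x ⧸
          Ideal.map (f₂.stalkMap x).hom (maximalIdeal (S.presheaf.stalk (f₂ x))))
        ((bs.map (f₁.stalkMap x).hom).map (Ideal.Quotient.mk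
          (Ideal.map (f₂.stalkMap x).hom (maximalIdeal (S.presheaf.stalk (f₂ x)))))) ∧
      ∀ P : Ideal (X.presheaf.stalk x), P.IsPrime →
        Ideal.map (f₂.stalkMap x).hom (maximalIdeal (S.presheaf.stalk (f₂ x))) ≤ P →
        Ideal.ofList (bs.map (f₁.stalkMap x).hom) ≤ P → P = maximalIdeal _ := by
  haveI := hcm.2
  obtain ⟨π, hπ, hker⟩ :=
    FlatSlice.exists_fibre_stalk_hom f₂ (f₂ x) (f₂.asFiber x) x (f₂.fiberι_asFiber x).symm
  haveI : IsLocalHom π := IsLocalHom.of_surjective π hπ
  haveI : IsLocalHom (f₁.stalkMap x).hom := inferInstance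
  let ψ := π.comp (f₁.stalkMap x).hom
  have hloc : (maximalIdeal (U.presheaf.stalk (f₁ x))).map ψ ≤ maximalIdeal _ := by
    haveI : IsLocalHom ψ := RingHom.isLocalHom_comp _ _
    exact Ideal.map_le_iff_le_comap.2 (fun a ha hu => ha (isUnit_of_map_unit ψ a hu))
  obtain ⟨bs, hmem, hreg, hrad⟩ := exists_regular_radical_comap ψ _ hloc fun P hP hle => by
    let P' : Spec (X.presheaf.stalk x) := ⟨P.comap π, Ideal.IsPrime.comap _⟩
    have h₂ := fromSpecStalk_closedPoint_eq f₂ x P' (by
      rw [← hker]; exact Ideal.comap_mono bot_le)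
    have h₁ := fromSpecStalk_closedPoint_eq f₁ x P' (by
      rw [Ideal.map_le_iff_le_comap, Ideal.comap_comap]
      exact Ideal.map_le_iff_le_comap.1 hle)
    have hsp : X.fromSpecStalk x P' ⤳ x :=
      (Scheme.range_fromSpecStalk (X := X) (x := x)).le ⟨P', rfl⟩
    have hP' : P' = IsLocalRing.closedPoint (X.presheaf.stalk x) :=
      (X.fromSpecStalk x).isEmbedding.injective
        ((hT _ hsp h₂ h₁).trans Scheme.fromSpecStalk_closedPoint.symm)
    refine IsLocalRing.eq_maximalIdeal ?_
    have hmax : (P.comap π).IsMaximal := by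
      have : P.comap π = maximalIdeal _ := congrArg PrimeSpectrum.asIdeal hP'
      rw [this]; infer_instance
    have := Ideal.map_comap_of_surjective π hπ P
    have h' := Ideal.map_eq_top_or_isMaximal_of_surjective π hπ hmax
    rw [this] at h'
    exact h'.resolve_left hP.ne_top
  refine ⟨bs, hmem, ?_, fun P hP hJP hsP => ?_⟩
  · let e := (Ideal.quotEquivOfEq hker.symm).trans (RingHom.quotientKerEquivOfSurjective hπ)
    have he : ∀ a, e.symm (π a) = Ideal.Quotient.mk _ a := fun a => by
      rw [RingEquiv.symm_apply_eq]; rfl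
    have := FlatSlice.isWeaklyRegular_map e.symm _ hreg
    rw [List.map_map] at this ⊢
    rwa [show List.map (⇑e.symm ∘ ⇑ψ) bs = bs.map (⇑(Ideal.Quotient.mk _) ∘ ⇑(f₁.stalkMap x).hom) from
      List.map_congr_left (fun a _ => he _)] at this
  · rw [← hker] at hJP
    have hP' := Ideal.map_isPrime_of_surjective hπ hJP
    have h2 := hrad _ hP' (by
      rw [show bs.map ψ = (bs.map (f₁.stalkMap x).hom).map π by rw [List.map_map]; rfl, ← Ideal.map_ofList]
      exact Ideal.map_mono hsP)
    refine IsLocalRing.eq_maximalIdeal ?_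
    have hmax : (P.map π).IsMaximal := h2 ▸ inferInstance
    have h3 := Ideal.comap_map_of_surjective π hπ P
    rw [← RingHom.ker_eq_comap_bot, sup_eq_left.2 hJP] at h3
    rw [← h3]
    exact Ideal.comap_isMaximal_of_surjective π hπ

end Groth.Agent.AlgSpBoot
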