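import Groth.Agent.AlgSpBoot.SliceAlg
import Groth.Agent.FlatSlice.QuasiFinite
import Groth.Agent.GrpSch.FlatPoint

/-!
A slice of the target along which a Cohen–Macaulay morphism becomes flat and quasi-finite at a point.
-/

set_option autoImplicit false
set_option linter.style.haveILetI false
set_option backward.isDefEq.respectTransparency false

universe u

open CategoryTheory CategoryTheory.Limits AlgebraicGeometry RingTheory.Sequence

namespace Groth.Agent.AlgSpBoot

/-- Base change of the closed subscheme cut out by an ideal. -/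
theorem isPullback_specQuotient {B C : CommRingCat.{u}} (φ : B ⟶ C) (I : Ideal B) (J : Ideal C)
    (hJ : I.map φ.hom = J) :
    IsPullback (Spec.map (CommRingCat.ofHom (Ideal.quotientMap J φ.hom (hJ ▸ Ideal.le_comap_map))))
      (Spec.map (CommRingCat.ofHom (Ideal.Quotient.mk J))) (Spec.map (CommRingCat.ofHom (Ideal.Quotient.mk I)))
      (Spec.map φ) := by
  subst hJ
  refine isPullback_SpecMap_of_isPushout _ _ _ _ (IsPushout.of_isColimit' ⟨?_⟩
    (PushoutCocone.IsColimit.mk _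
      (fun s => CommRingCat.ofHom (Ideal.Quotient.lift _ s.inr.hom fun c hc => ?_)) (fun s => ?_) (fun s => ?_)
      (fun s m _ h => ?_)))
  · ext b; rfl
  · refine (Ideal.map_le_iff_le_comap.2 (fun b hb => ?_) : Ideal.map φ.hom I ≤ RingHom.ker s.inr.hom) hc
    have h := congr($(s.condition).hom b)
    simp only [CommRingCat.hom_comp, CommRingCat.hom_ofHom, RingHom.comp_apply] at h
    rw [Ideal.Quotient.eq_zero_iff_mem.2 hb, map_zero] at h
    exact h.symm
  · ext b
    exact congr($(s.condition).hom b).symm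
  · ext c; rfl
  · ext c
    exact congr($(h).hom c)

theorem exists_restrict_eq {X : Scheme.{u}} {x : X} {U V : X.Opens} (hU : x ∈ U) (hV : x ∈ V) :
    ∀ (l : List Γ(X, U)) (l' : List Γ(X, V)),
      l.map (X.presheaf.germ U x hU) = l'.map (X.presheaf.germ V x hV) →
      ∃ (W : X.Opens) (_ : x ∈ W) (i : W ≤ U) (i' : W ≤ V),
        l.map (X.presheaf.map (homOfLE i).op) = l'.map (X.presheaf.map (homOfLE i').op) := by
  intro l
  induction l with
  | nil =>
    intro l' h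
    rw [List.map_nil, eq_comm, List.map_eq_nil_iff] at h
    subst h
    exact ⟨U ⊓ V, ⟨hU, hV⟩, inf_le_left, inf_le_right, rfl⟩
  | cons a l ih =>
    intro l' h
    match l', h with
    | [], h => simp at h
    | a' :: l', h =>
      simp only [List.map_cons, List.cons.injEq] at h
      obtain ⟨W₁, hW₁, i₁, i₁', e₁⟩ := X.presheaf.germ_eq x hU hV a a' h.1
      obtain ⟨W, hW, i, i', e⟩ := ih l' h.2
      refine ⟨W₁ ⊓ W, ⟨hW₁, hW⟩, inf_le_right.trans i, inf_le_right.trans i', ?_⟩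
      have hc : ∀ {A B C : X.Opens} (p : A ≤ B) (q : C ≤ A) (s : Γ(X, B)),
          X.presheaf.map (homOfLE (q.trans p)).op s = X.presheaf.map (homOfLE q).op (X.presheaf.map (homOfLE p).op s) :=
        fun p q s => by
          rw [← CommRingCat.comp_apply, ← Functor.map_comp]; rfl
      simp only [List.map_cons]
      congr 1
      · refine (hc i₁.le (inf_le_left : W₁ ⊓ W ≤ W₁) a).trans (Eq.trans ?_ (hc i₁'.le inf_le_left a').symm)
        exact congrArg _ e₁
      · have := congrArg (List.map (X.presheaf.map (homOfLE (inf_le_right : W₁ ⊓ W ≤ W)).op)) e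
        simp only [List.map_map] at this
        convert! this using 2 <;> funext s <;> exact hc _ _ s

set_option maxHeartbeats 800000 in
/-- Slicing the target of `f₁`, the morphism `f₂` becomes flat and quasi-finite at the point. -/
theorem exists_slice_scheme {X S U : Scheme.{u}} (f₁ : X ⟶ U) (f₂ : X ⟶ S) [LocallyOfFinitePresentation f₂]
    (x : X) (hcm : MoreMor.IsCMAt f₂ x) (hT : ∀ y : X, y ⤳ x → f₂ y = f₂ x → f₁ y = f₁ x → y = x)
    (hres : (f₂.residueFieldMap x).hom.Finite) :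
    ∃ (A : Scheme.{u}) (_ : IsAffine A) (j : A ⟶ U) (_ : LocallyOfFinitePresentation j) (p : ↑(pullback j f₁))
      (O : (pullback j f₁).Opens),
      j (pullback.fst j f₁ p) = f₁ x ∧ p ∈ O ∧ ∀ y ∈ O, ((pullback.snd j f₁ ≫ f₂).stalkMap y).hom.Flat ∧
      (pullback.snd j f₁ ≫ f₂).QuasiFiniteAt y := by
  obtain ⟨bs, hmemb, hreg, hrad⟩ := exists_cm_sequence_two f₁ f₂ x hcm hT
  obtain ⟨U₀, hU₀, hxU₀, l₀, -, hl₀⟩ := FlatSlice.exists_sections ⊤ (f₁ x) trivial bs
  obtain ⟨V, hV, U₁, hU₁, e₁, hxU₁, l, hl, hsl⟩ :=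
    FlatSlice.exists_sliced_open f₂ x hcm.1 (bs.map (f₁.stalkMap x).hom) hreg
  let W₀ : X.Opens := U₁ ⊓ f₁ ⁻¹ᵁ U₀
  have hxW₀ : x ∈ W₀ := ⟨hxU₁, hxU₀⟩
  let l₀' : List Γ(X, W₀) := l₀.map (f₁.appLE U₀ W₀ inf_le_right)
  have hgerm : ∀ {D : X.Opens} (e : D ≤ f₁ ⁻¹ᵁ U₀) (hxD : x ∈ D) (s : Γ(U, U₀)),
      X.presheaf.germ D x hxD (f₁.appLE U₀ D e s) = f₁.stalkMap x (U.presheaf.germ U₀ (f₁ x) hxU₀ s) := by
    intro D e hxD s
    rw [Scheme.Hom.germ_stalkMap_apply]
    exact X.presheaf.germ_res_apply _ _ hxD _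
  obtain ⟨W, hxW, iW, iW', hWeq⟩ := exists_restrict_eq hxU₁ hxW₀ l l₀' (by
    rw [hl, ← hl₀, List.map_map, List.map_map]
    exact List.map_congr_left fun s _ => (hgerm inf_le_right hxW₀ s).symm)
  obtain ⟨c, hcW, hxc⟩ := hU₁.exists_basicOpen_le (V := W) ⟨x, hxW⟩ hxU₁
  let D := X.basicOpen c
  have hD := hU₁.basicOpen c
  have eD₀ : D ≤ f₁ ⁻¹ᵁ U₀ := (hcW.trans iW').trans inf_le_right
  let ρ := X.presheaf.map (homOfLE (X.basicOpen_le c)).op
  let l' : List Γ(X, D) := l.map ρ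
  have hl' : Ideal.ofList l' = (Ideal.ofList l).map ρ.hom := (Ideal.map_ofList _ _).symm
  let φ := f₁.appLE U₀ D eD₀
  have hl'₀ : l' = l₀.map φ.hom := by
    have := congrArg (List.map (X.presheaf.map (homOfLE hcW).op)) hWeq
    simp only [l₀', List.map_map] at this
    convert! this using 2 <;> funext s
    · simp only [Function.comp_apply, ρ]
      rw [← CommRingCat.comp_apply, ← Functor.map_comp]; rfl
    · simp only [Function.comp_apply, φ]
      show _ = ((f₁.appLE U₀ W₀ inf_le_right ≫ X.presheaf.map (homOfLE iW').op) ≫ X.presheaf.map (homOfLE hcW).op) s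
      rw [Scheme.Hom.appLE_map, Scheme.Hom.appLE_map]
  have hlD : l'.map (X.presheaf.germ D x hxc) = bs.map (f₁.stalkMap x).hom := by
    rw [← hl, List.map_map]
    exact List.map_congr_left fun a _ => X.presheaf.germ_res_apply _ _ hxc _
  have eD : D ≤ f₂ ⁻¹ᵁ V := (X.basicOpen_le c).trans e₁
  -- flatness of the sliced open
  obtain ⟨hgflat, hglfp⟩ := FlatSlice.flat_lfp_quotient f₂ hV hU₁ e₁ l hsl
  letI : Algebra Γ(X, U₁) Γ(X, D) := ρ.hom.toAlgebra
  haveI : IsLocalization.Away c Γ(X, D) := hU₁.isLocalization_basicOpen c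
  have hlc : Ideal.ofList l ≤ (Ideal.ofList l').comap ρ.hom := hl' ▸ Ideal.le_comap_map
  letI := (Ideal.quotientMap (Ideal.ofList l') ρ.hom hlc).toAlgebra
  haveI : IsLocalization.Away (Ideal.Quotient.mk (Ideal.ofList l) c) (Γ(X, D) ⧸ Ideal.ofList l') := by
    simp only [IsLocalization.Away, ← Submonoid.map_powers]
    refine IsLocalization.of_surjective _ _ _ Ideal.Quotient.mk_surjective _
      Ideal.Quotient.mk_surjective ?_ ?_
    · simp [RingHom.algebraMap_toAlgebra, Ideal.quotientMap_comp_mk]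
    · simp only [Ideal.mk_ker, RingHom.algebraMap_toAlgebra, hl', le_refl]
  let j₁ : Spec (CommRingCat.of (Γ(X, D) ⧸ Ideal.ofList l')) ⟶
      Spec (CommRingCat.of (Γ(X, U₁) ⧸ Ideal.ofList l)) :=
    Spec.map (CommRingCat.ofHom (Ideal.quotientMap (Ideal.ofList l') ρ.hom hlc))
  haveI : IsOpenImmersion j₁ := IsOpenImmersion.of_isLocalization (Ideal.Quotient.mk (Ideal.ofList l) c)
  let ι₀ := Spec.map (CommRingCat.ofHom (Ideal.Quotient.mk (Ideal.ofList l'))) ≫ hD.fromSpec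
  haveI : IsClosedImmersion (Spec.map (CommRingCat.ofHom (Ideal.Quotient.mk (Ideal.ofList l')))) :=
    IsClosedImmersion.spec_of_surjective _ Ideal.Quotient.mk_surjective
  haveI : IsPreimmersion ι₀ := inferInstance
  have hι : ι₀ ≫ f₂ = j₁ ≫ Spec.map (CommRingCat.ofHom (Ideal.Quotient.mk (Ideal.ofList l))) ≫ hU₁.fromSpec ≫ f₂ := by
    simp only [ι₀, j₁, Category.assoc]
    rw [← IsAffineOpen.map_fromSpec hU₁ hD (homOfLE (X.basicOpen_le c)).op, Category.assoc, ← Spec.map_comp_assoc,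
      ← Spec.map_comp_assoc]
    rfl
  haveI : Flat (ι₀ ≫ f₂) := by rw [hι]; infer_instance
  haveI : LocallyOfFinitePresentation (ι₀ ≫ f₂) := by rw [hι]; infer_instance
  -- the point
  obtain ⟨z₀, hix⟩ : ∃ z₀, ι₀ z₀ = x := by
    letI : Algebra Γ(X, D) (X.presheaf.stalk x) := X.presheaf.algebra_section_stalk ⟨x, hxc⟩
    haveI : IsLocalization.AtPrime (X.presheaf.stalk x) (hD.primeIdealOf ⟨x, hxc⟩).asIdeal :=
      hD.isLocalization_stalk ⟨x, hxc⟩
    have hle : Ideal.ofList l' ≤ (hD.primeIdealOf ⟨x, hxc⟩).asIdeal := Ideal.span_le.2 fun a ha => by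
      by_contra hna
      have hu : IsUnit (X.presheaf.germ D x hxc a) := IsLocalization.map_units (X.presheaf.stalk x)
        (M := (hD.primeIdealOf ⟨x, hxc⟩).asIdeal.primeCompl) ⟨a, hna⟩
      have hmem : X.presheaf.germ D x hxc a ∈ bs.map (f₁.stalkMap x).hom := hlD ▸ List.mem_map_of_mem ha
      obtain ⟨b, hb, hbe⟩ := List.mem_map.1 hmem
      rw [← hbe] at hu
      exact hmemb b hb (isUnit_of_map_unit (f₁.stalkMap x).hom b hu)
    obtain ⟨z₀, hz₀⟩ : hD.primeIdealOf ⟨x, hxc⟩ ∈ Set.range (PrimeSpectrum.comap (Ideal.Quotient.mk (Ideal.ofList l'))) := by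
      rw [range_comap_of_surjective _ _ Ideal.Quotient.mk_surjective, Ideal.mk_ker]
      exact (PrimeSpectrum.mem_zeroLocus _ _).2 hle
    refine ⟨z₀, ?_⟩
    exact (congrArg hD.fromSpec hz₀).trans (hD.fromSpec_primeIdealOf _)
  have hmax : ∀ w, w ⤳ z₀ → f₂ (ι₀ w) = f₂ x → w = z₀ := fun w hw hfw => by
    refine ι₀.isEmbedding.injective (hix.symm ▸ ?_)
    refine FlatSlice.eq_of_specializes f₂ x hV hD eD hxc l' _ hlD hrad (PrimeSpectrum.comap _ w) ?_
      (show ι₀ w ⤳ x from hix ▸ hw.map ι₀.continuous) hfw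
    intro a ha
    show Ideal.Quotient.mk (Ideal.ofList l') a ∈ w.asIdeal
    rw [Ideal.Quotient.eq_zero_iff_mem.2 ha]
    exact zero_mem _
  have hqf : (ι₀ ≫ f₂).QuasiFiniteAt z₀ := by
    rw [FlatMorLib.quasiFiniteAt_iff_isClosed_and_maximal]
    refine ⟨(FlatMorLib.isClosed_singleton_asFiber_iff _ _).2
      (FlatSlice.finite_residueFieldMap_comp ι₀ f₂ z₀ x hix hres), fun x' hx' => ?_⟩
    apply ((ι₀ ≫ f₂).fiberι ((ι₀ ≫ f₂) z₀)).isEmbedding.injective
    rw [Scheme.Hom.fiberι_asFiber]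
    have hsp := hx'.map ((ι₀ ≫ f₂).fiberι ((ι₀ ≫ f₂) z₀)).continuous
    rw [Scheme.Hom.fiberι_asFiber] at hsp
    refine hmax _ hsp ?_
    have : (ι₀ ≫ f₂).fiberι ((ι₀ ≫ f₂) z₀) x' ∈ Set.range ((ι₀ ≫ f₂).fiberι ((ι₀ ≫ f₂) z₀)) := ⟨x', rfl⟩
    rw [Scheme.Hom.range_fiberι] at this
    refine (show f₂ (ι₀ _) = (ι₀ ≫ f₂) z₀ from this).trans ?_
    rw [Scheme.Hom.comp_apply, hix]
  -- the slice of `U`
  let I := Ideal.ofList l₀
  let j : Spec (CommRingCat.of (Γ(U, U₀) ⧸ I)) ⟶ U := Spec.map (CommRingCat.ofHom (Ideal.Quotient.mk I)) ≫ hU₀.fromSpec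
  haveI : LocallyOfFinitePresentation (Spec.map (CommRingCat.ofHom (Ideal.Quotient.mk I))) := by
    rw [HasRingHomProperty.Spec_iff (P := @LocallyOfFinitePresentation)]
    exact RingHom.FinitePresentation.of_surjective _ Ideal.Quotient.mk_surjective
      (by classical exact (Ideal.mk_ker (I := I)).symm ▸ ⟨l₀.toFinset, by
        simp only [I, Ideal.ofList]; congr 1; ext a; simp⟩)
  haveI : LocallyOfFinitePresentation j := inferInstance
  have hlI : I.map φ.hom = Ideal.ofList l' := by rw [hl'₀, Ideal.map_ofList]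
  have sq : IsPullback (Spec.map (CommRingCat.ofHom (Ideal.quotientMap (Ideal.ofList l') φ.hom (hlI ▸ Ideal.le_comap_map))))
      (Spec.map (CommRingCat.ofHom (Ideal.Quotient.mk (Ideal.ofList l')))) j (hD.fromSpec ≫ f₁) := by
    rw [← IsAffineOpen.SpecMap_appLE_fromSpec f₁ hU₀ hD eD₀]
    have h := (isPullback_specQuotient φ I _ hlI).paste_vert
      (IsPullback.of_vert_isIso_mono (f := hU₀.fromSpec) (snd := 𝟙 (Spec Γ(X, D)))
        (g := Spec.map φ ≫ hU₀.fromSpec) (fst := Spec.map φ) ⟨by simp⟩)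
    erw [Category.comp_id] at h
    exact h
  let a₁ := Spec.map (CommRingCat.ofHom (Ideal.quotientMap (Ideal.ofList l') φ.hom (hlI ▸ Ideal.le_comap_map)))
  let k : Spec (CommRingCat.of (Γ(X, D) ⧸ Ideal.ofList l')) ⟶ pullback j f₁ :=
    pullback.lift a₁ ι₀ (by simpa only [ι₀, Category.assoc] using sq.w)
  have hk : k ≫ pullback.snd j f₁ = ι₀ := pullback.lift_snd _ _ _
  haveI : IsOpenImmersion k := by
    have h : IsPullback k (Spec.map (CommRingCat.ofHom (Ideal.Quotient.mk (Ideal.ofList l'))))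
        (pullback.snd j f₁) hD.fromSpec := by
      refine IsPullback.of_right ?_ hk (IsPullback.of_hasPullback j f₁)
      simpa only [k, pullback.lift_fst] using sq
    exact MorphismProperty.of_isPullback h.flip inferInstance
  let O : (pullback j f₁).Opens := k.opensRange ⊓
    ⟨{y | (pullback.snd j f₁ ≫ f₂).QuasiFiniteAt y}, (pullback.snd j f₁ ≫ f₂).isOpen_quasiFiniteAt⟩
  refine ⟨_, inferInstance, j, inferInstance, k z₀, O, ?_, ⟨⟨z₀, rfl⟩, ?_⟩, ?_⟩
  · rw [← Scheme.Hom.comp_apply, pullback.condition, Scheme.Hom.comp_apply]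
    exact congrArg f₁ (show pullback.snd j f₁ (k z₀) = x by rw [← Scheme.Hom.comp_apply, hk, hix])
  · refine (Scheme.Hom.quasiFiniteAt_comp_iff_of_isOpenImmersion (f := k)).1 ?_
    rwa [← Category.assoc, hk]
  · rintro y ⟨⟨z, rfl⟩, hy⟩
    refine ⟨GrpSch.flat_stalkMap_of_comp k _ z (Flat.stalkMap k z) ?_, hy⟩
    rw [← Category.assoc, hk]
    exact Flat.stalkMap _ z

end Groth.Agent.AlgSpBoot
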