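import Groth.Agent.AlgSpBoot.FromSpace
import Groth.Agent.AlgStB.EtaleSheafSmooth
import Groth.Agent.AlgSpLoc.LocSurj
import Groth.Prelude.Def_AlgSpGpd

/-!
The quotient of an algebraic space by a flat finitely presented equivalence relation.
-/

set_option autoImplicit false
set_option linter.style.haveILetI false
set_option backward.isDefEq.respectTransparency false

universe u

open CategoryTheory CategoryTheory.Limits AlgebraicGeometry

namespace Groth.Agent.AlgSpBoot

open _root_.AlgSp Groth.Agent.AlgSpc Groth.Agent.AlgSpLoc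

variable {S : Scheme.{u}}

instance descendsAlong_flat_lfp : MorphismProperty.DescendsAlong
    (@Flat ⊓ @LocallyOfFinitePresentation : MorphismProperty Scheme.{u})
    (@Surjective ⊓ @Flat ⊓ @LocallyOfFinitePresentation) where
  of_isPullback {A X Y Z fst snd f g} h hf hfst := by
    haveI : Flat fst := hfst.1
    haveI : LocallyOfFinitePresentation fst := hfst.2
    haveI : Surjective f := hf.1.1
    haveI : Flat f := hf.1.2
    haveI : LocallyOfFinitePresentation f := hf.2
    haveI : Surjective snd := MorphismProperty.of_isPullback (P := @Surjective) h ‹_›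
    haveI : Flat snd := MorphismProperty.of_isPullback (P := @Flat) h ‹_›
    haveI : LocallyOfFinitePresentation snd := MorphismProperty.of_isPullback (P := @LocallyOfFinitePresentation) h ‹_›
    haveI : Flat (snd ≫ g) := by rw [← h.w]; infer_instance
    haveI : LocallyOfFinitePresentation (snd ≫ g) := by rw [← h.w]; infer_instance
    exact ⟨FpqcDescent.flat_of_flat_comp snd g, GenFlat.locallyOfFinitePresentation_of_fppf_comp snd g⟩

/-- A kernel pair which is an algebraic space, flat and finitely presented over a scheme, is a scheme. -/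
theorem exists_rel_of_space_kernelPair {F : Sp S} {U : Over S} {q : (yon S).obj U ⟶ F} {P : Sp S}
    (hP : IsAlgSpace P) {p₁ p₂ : P ⟶ (yon S).obj U} (sq : IsPullback p₁ p₂ q q)
    (h₁ : LocP @Flat p₁ ∧ LocP @LocallyOfFinitePresentation p₁)
    (h₂ : LocP @Flat p₂ ∧ LocP @LocallyOfFinitePresentation p₂) :
    ∃ (R : Over S) (r₁ r₂ : R ⟶ U), IsPullback ((yon S).map r₁) ((yon S).map r₂) q q ∧
      Flat r₁.left ∧ LocallyOfFinitePresentation r₁.left ∧ Flat r₂.left ∧ LocallyOfFinitePresentation r₂.left := by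
  have hQ := (IsPullback.of_hasPullback (toBase U) (toBase U)).map (yon S)
  let n := hQ.lift p₁ p₂ (yon_toBase_unique _ _)
  have hn₁ : n ≫ (yon S).map (pullback.fst (toBase U) (toBase U)) = p₁ := hQ.lift_fst _ _ _
  have hn₂ : n ≫ (yon S).map (pullback.snd (toBase U) (toBase U)) = p₂ := hQ.lift_snd _ _ _
  haveI : Mono n := ⟨fun u v h => sq.hom_ext (by rw [← hn₁, reassoc_of% h]) (by rw [← hn₂, reassoc_of% h])⟩
  have hn : LocP @LocallyOfFiniteType n :=
    locP_of_comp (P := @LocallyOfFiniteType) (Q := ⊤) (g := (yon S).map (pullback.snd (toBase U) (toBase U)))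
      (fun h k hhk _ => (haveI : LocallyOfFiniteType (h ≫ k) := hhk; locallyOfFiniteType_of_comp h k))
      hP (IsAlgSpace.yon_obj _) (IsAlgSpace.yon_obj U)
      (hn₂ ▸ locP_mono (P := @LocallyOfFinitePresentation) (Q := @LocallyOfFiniteType)
        (fun _ _ f h => (haveI : LocallyOfFinitePresentation f := h; inferInstance)) h₂.2) (locP_top _)
  obtain ⟨R, ⟨χ⟩⟩ := exists_yon_iso_of_mono_lqf hP n (locP_lqf_of_mono_lft hP n hn)
  have hf : RepWith @Etale χ.hom := repWith_iso χ.hom
  have w₁ : χ.hom ≫ p₁ = (yon S).map (pre (χ.hom ≫ p₁)) ≫ 𝟙 _ := by simp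
  have w₂ : χ.hom ≫ p₂ = (yon S).map (pre (χ.hom ≫ p₂)) ≫ 𝟙 _ := by simp
  refine ⟨R, pre (χ.hom ≫ p₁), pre (χ.hom ≫ p₂), ?_, h₁.1 _ _ _ hf (repWith_id _ U) w₁,
    h₁.2 _ _ _ hf (repWith_id _ U) w₁, h₂.1 _ _ _ hf (repWith_id _ U) w₂, h₂.2 _ _ _ hf (repWith_id _ U) w₂⟩
  rw [map_pre, map_pre]
  exact IsPullback.of_iso_pullback ⟨by rw [Category.assoc, Category.assoc, sq.w]⟩ (χ ≪≫ sq.isoPullback)
    (by simp) (by simp)

variable {R U : Sp S} {s t : R ⟶ U}

/-- Pairs related on all schemes come from the relation. -/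
theorem exists_lift_rel (h : IsEqvRelSp s t) {X : Sp S} (a b : X ⟶ U)
    (hab : ∀ (T : Over S) (x : (yon S).obj T ⟶ X), ∃ r : (yon S).obj T ⟶ R, r ≫ t = x ≫ a ∧ r ≫ s = x ≫ b) :
    ∃ g : X ⟶ R, g ≫ t = a ∧ g ≫ s = b := by
  haveI : Mono (prod.lift t s) := mono_of_cancel fun T r r' e =>
    h.injective T r r' (by simpa using congrArg (· ≫ prod.fst) e) (by simpa using congrArg (· ≫ prod.snd) e)
  let π := pullback.snd (prod.lift t s) (prod.lift a b)
  haveI : Sheaf.IsLocallySurjective π := AlgSpc.isLocallySurjective_of_exists fun T x => by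
    obtain ⟨r, hr₁, hr₂⟩ := hab T x
    refine ⟨T, 𝟙 T, pullback.lift r x (by ext1 <;> simp [hr₁, hr₂]), ?_, ?_, ?_, ?_⟩
    · rw [Over.id_left]; infer_instance
    · rw [Over.id_left]; infer_instance
    · rw [Over.id_left]; infer_instance
    · simp [π]
  haveI : Epi π := (Sheaf.isLocallySurjective_iff_epi' _ _).1 inferInstance
  haveI : Mono π := inferInstanceAs (Mono (pullback.snd (prod.lift t s) (prod.lift a b)))
  haveI : IsIso π := isIso_of_mono_of_epi π
  refine ⟨inv π ≫ pullback.fst _ _, ?_, ?_⟩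
  · have := congrArg (fun k => inv π ≫ k ≫ prod.fst) (pullback.condition (f := prod.lift t s) (g := prod.lift a b))
    simpa [π] using this
  · have := congrArg (fun k => inv π ≫ k ≫ prod.snd) (pullback.condition (f := prod.lift t s) (g := prod.lift a b))
    simpa [π] using this

/-- Equivalence relations of sheaves are effective. -/
theorem isPullback_quotSpπ (h : IsEqvRelSp s t) : IsPullback t s (quotSpπ s t) (quotSpπ s t) := by
  obtain ⟨r, hr₁, hr₂⟩ := exists_lift_rel h (𝟙 U) (𝟙 U) fun T x => by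
    obtain ⟨r, hr₁, hr₂⟩ := (h.equivalence T).refl x
    exact ⟨r, by simpa using hr₁, by simpa using hr₂⟩
  obtain ⟨σ, hσ₁, hσ₂⟩ := exists_lift_rel h s t fun T x =>
    (h.equivalence T).symm ⟨x, rfl, rfl⟩
  obtain ⟨τ, hτ₁, hτ₂⟩ := exists_lift_rel h (pullback.fst s t ≫ t) (pullback.snd s t ≫ s) fun T x => by
    obtain ⟨g, hg₁, hg₂⟩ := (h.equivalence T).trans (x := x ≫ pullback.fst s t ≫ t) (y := x ≫ pullback.fst s t ≫ s)
      (z := x ≫ pullback.snd s t ≫ s) ⟨x ≫ pullback.fst s t, by simp, by simp⟩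
      ⟨x ≫ pullback.snd s t, by simp [pullback.condition], by simp⟩
    exact ⟨g, hg₁, hg₂⟩
  let e : EquivalenceRelation t s :=
    { right_cancellation := fun {Z} a b h₁ h₂ => AlgSpc.hom_ext fun T z =>
        h.injective T _ _ (by simp [h₁]) (by simp [h₂])
      r := r
      reflexivity₁ := hr₁
      reflexivity₂ := hr₂
      s := σ
      symmetry₁ := hσ₁
      symmetry₂ := hσ₂
      c := (IsPullback.of_hasPullback s t).cone
      isLimit := (IsPullback.of_hasPullback s t).isLimit
      t := τ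
      transitivity₁ := hτ₁
      transitivity₂ := hτ₂ }
  obtain ⟨e'⟩ := SiteBase.sheaf_effectiveEquivalenceRelation e
  obtain ⟨ψ, hψ⟩ : ∃ ψ, quotSpπ s t ≫ ψ = e'.π :=
    ⟨coequalizer.desc e'.π e'.isKernelPair.w.symm, coequalizer.π_desc _ _⟩
  refine IsPullback.of_isLimit' ⟨(quotSp_condition s t).symm⟩ (PullbackCone.IsLimit.mk _
    (fun x => e'.isKernelPair.lift x.fst x.snd ?_) ?_ ?_ ?_)
  · rw [← hψ, ← Category.assoc, x.condition, Category.assoc]
  · exact fun x => e'.isKernelPair.lift_fst _ _ _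
  · exact fun x => e'.isKernelPair.lift_snd _ _ _
  · intro x m h₁ h₂
    exact e'.isKernelPair.hom_ext (by rw [h₁, e'.isKernelPair.lift_fst]) (by rw [h₂, e'.isKernelPair.lift_snd])

instance isLocallySurjective_quotSpπ : Sheaf.IsLocallySurjective (quotSpπ s t) :=
  haveI : Epi (quotSpπ s t) := inferInstanceAs (Epi (coequalizer.π s t))
  (Sheaf.isLocallySurjective_iff_epi' _ _).2 inferInstance

theorem isLocallySurjective_atlas {X : Sp S} {V : Over S} {a : (yon S).obj V ⟶ X} (ha : RepWith @Etale a)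
    (has : RepWith @Surjective a) : Sheaf.IsLocallySurjective a :=
  AlgSpc.isLocallySurjective_of_repWith
    (repWith_mono (P := @Etale) (Q := @Flat) (fun _ _ f (h : Etale f) => inferInstance) ha)
    (repWith_mono (P := @Etale) (Q := @LocallyOfFinitePresentation) (fun _ _ f (h : Etale f) => inferInstance) ha) has

set_option maxHeartbeats 800000 in
/-- The kernel pair of an atlas of `U` over the quotient. -/
theorem exists_scheme_rel (hR : IsAlgSpace R) (hU : IsAlgSpace U) (hj : IsEqvRelSp s t)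
    (hs : LocP @Flat s ∧ LocP @LocallyOfFinitePresentation s)
    (ht : LocP @Flat t ∧ LocP @LocallyOfFinitePresentation t)
    {V : Over S} (a : (yon S).obj V ⟶ U) (ha : RepWith @Etale a) :
    ∃ (R' : Over S) (r₁ r₂ : R' ⟶ V), IsPullback ((yon S).map r₁) ((yon S).map r₂) (a ≫ quotSpπ s t) (a ≫ quotSpπ s t) ∧
      Flat r₁.left ∧ LocallyOfFinitePresentation r₁.left ∧ Flat r₂.left ∧ LocallyOfFinitePresentation r₂.left := by
  -- second projections, for either order of the relation
  have key : ∀ {s' t' : R ⟶ U}, IsPullback t' s' (quotSpπ s t) (quotSpπ s t) →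
      LocP @Flat s' ∧ LocP @LocallyOfFinitePresentation s' →
      ∃ (P : Sp S) (p₁ p₂ : P ⟶ (yon S).obj V), IsPullback p₁ p₂ (a ≫ quotSpπ s t) (a ≫ quotSpπ s t) ∧
        IsAlgSpace P ∧ LocP @Flat p₂ ∧ LocP @LocallyOfFinitePresentation p₂ := by
    intro s' t' sqK hs'
    have sq₁ := IsPullback.of_hasPullback a t'
    have sq₂ := IsPullback.of_hasPullback (pullback.snd a t' ≫ s') a
    have hP₁ : IsAlgSpace (pullback a t') := isAlgSpace_of_isPullback (IsAlgSpace.yon_obj V) hU hR sq₁
    have hP := isAlgSpace_of_isPullback hP₁ hU (IsAlgSpace.yon_obj V) sq₂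
    have hsnd : RepWith @Etale (pullback.snd a t') := repWith_of_isPullback sq₁ ha
    refine ⟨_, _, _, sq₂.paste_horiz (sq₁.paste_vert sqK), hP, ?_, ?_⟩
    · refine locP_base_change hP₁ hU (IsAlgSpace.yon_obj V) sq₂ (locP_comp hP₁ hR hU ?_ hs'.1)
      exact locP_of_repWith (fun e f he hf => MorphismProperty.comp_mem @Flat e f
        (haveI : Etale e := he; inferInstance) hf)
        (repWith_mono (P := @Etale) (Q := @Flat) (fun _ _ f (h : Etale f) => inferInstance) hsnd)
    · refine locP_base_change hP₁ hU (IsAlgSpace.yon_obj V) sq₂ (locP_comp hP₁ hR hU ?_ hs'.2)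
      exact locP_of_repWith (fun e f he hf => MorphismProperty.comp_mem @LocallyOfFinitePresentation e f
        (haveI : Etale e := he; inferInstance) hf)
        (repWith_mono (P := @Etale) (Q := @LocallyOfFinitePresentation) (fun _ _ f (h : Etale f) => inferInstance) hsnd)
  have sqK := isPullback_quotSpπ hj
  obtain ⟨P, p₁, p₂, sq, hP, h₂⟩ := key sqK hs
  obtain ⟨P', p₁', p₂', sq', -, h₁⟩ := key sqK.flip ht
  let i := sq.isoIsPullback _ _ sq'.flip
  have hi : i.hom ≫ p₂' = p₁ := IsPullback.isoIsPullback_hom_fst _ _ _ _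
  refine exists_rel_of_space_kernelPair hP sq ⟨?_, ?_⟩ h₂
  · intro T W x y k hx hy w
    refine h₁.1 (x ≫ i.hom) y k (repWith_comp hx (repWith_iso i.hom)) hy ?_
    rw [Category.assoc, hi, w]
  · intro T W x y k hx hy w
    refine h₁.2 (x ≫ i.hom) y k (repWith_comp hx (repWith_iso i.hom)) hy ?_
    rw [Category.assoc, hi, w]

/-- The quotient of an algebraic space by a flat finitely presented equivalence relation. -/
theorem isAlgSpace_quotSp (hR : IsAlgSpace R) (hU : IsAlgSpace U) (hj : IsEqvRelSp s t)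
    (hs : LocP @Flat s ∧ LocP @LocallyOfFinitePresentation s)
    (ht : LocP @Flat t ∧ LocP @LocallyOfFinitePresentation t) : IsAlgSpace (quotSp s t) := by
  obtain ⟨V, a, ha, has⟩ := hU.atlas
  obtain ⟨R', r₁, r₂, sq, h₁, h₁', h₂, h₂'⟩ := exists_scheme_rel hR hU hj hs ht a ha
  haveI := h₁; haveI := h₁'; haveI := h₂; haveI := h₂'
  haveI := isLocallySurjective_atlas ha has
  haveI : Sheaf.IsLocallySurjective (a ≫ quotSpπ s t) := inferInstance
  exact isAlgSpace_of_flat_kernelPair (a ≫ quotSpπ s t) sq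

/-- The quotient map is surjective, flat and locally of finite presentation. -/
theorem quotSpπ_props (hR : IsAlgSpace R) (hU : IsAlgSpace U) (hj : IsEqvRelSp s t)
    (hs : LocP @Flat s ∧ LocP @LocallyOfFinitePresentation s)
    (ht : LocP @Flat t ∧ LocP @LocallyOfFinitePresentation t) :
    IsSurjectiveMor (quotSpπ s t) ∧ LocP @Flat (quotSpπ s t) ∧ LocP @LocallyOfFinitePresentation (quotSpπ s t) := by
  have hF := isAlgSpace_quotSp hR hU hj hs ht
  obtain ⟨V, a, ha, has⟩ := hU.atlas
  obtain ⟨R', r₁, r₂, sq, h₁, h₁', h₂, h₂'⟩ := exists_scheme_rel hR hU hj hs ht a ha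
  haveI := h₁; haveI := h₁'
  haveI := isLocallySurjective_atlas ha has
  haveI : Sheaf.IsLocallySurjective (a ≫ quotSpπ s t) := inferInstance
  obtain ⟨hfl, hsurj⟩ := AlgSpc.repWith_of_kernelPair (P := @Flat ⊓ @LocallyOfFinitePresentation) (a ≫ quotSpπ s t) sq
    ⟨h₂, h₂'⟩
  refine ⟨fun x => ?_, ?_, ?_⟩
  · obtain ⟨v, hv⟩ := surjective_ofPt hsurj x
    exact ⟨Points.ofPt a v, by rw [Points.map_ofPt]; exact hv⟩
  · exact locP_of_comp_of_locallySurjective hfac_flat (IsAlgSpace.yon_obj V) hU a _ inferInstance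
      (locP_of_repWith (fun e f he hf => MorphismProperty.comp_mem @Flat e f
        (haveI : Etale e := he; inferInstance) hf) (repWith_mono (fun _ _ _ h => h.1) hfl))
  · exact locP_of_comp_of_locallySurjective hfac_lfp (IsAlgSpace.yon_obj V) hU a _ inferInstance
      (locP_of_repWith (fun e f he hf => MorphismProperty.comp_mem @LocallyOfFinitePresentation e f
        (haveI : Etale e := he; inferInstance) hf) (repWith_mono (fun _ _ _ h => h.2) hfl))

end Groth.Agent.AlgSpBoot
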