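import Groth.Agent.AlgSpc.Basic
import Groth.Prelude.Def_AlgSpGpd

/-!
The diagonal of `j` and of the stabilizer of a groupoid in sheaves, compared with the unit of the stabilizer.
-/

set_option autoImplicit false
set_option linter.style.haveILetI false
set_option backward.isDefEq.respectTransparency false

universe u

open CategoryTheory CategoryTheory.Limits AlgebraicGeometry

namespace Groth.Agent.AlgSpBoot

open _root_.AlgSp

/-- A section is a base change of the diagonal. -/
theorem isPullback_section_diagonal {C : Type*} [Category C] [HasPullbacks C] {X Y : C} (p : X ⟶ Y) (e : Y ⟶ X)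
    (he : e ≫ p = 𝟙 Y) :
    IsPullback e e (pullback.diagonal p) (pullback.lift (p ≫ e) (𝟙 X) (by simp [he]) : X ⟶ pullback p p) := by
  have w : e ≫ pullback.diagonal p = e ≫ (pullback.lift (p ≫ e) (𝟙 X) (by simp [he]) : X ⟶ pullback p p) := by
    apply pullback.hom_ext <;> simp [pullback.lift_fst, pullback.lift_snd, reassoc_of% he]
  refine IsPullback.of_isLimit' ⟨w⟩ (PullbackCone.IsLimit.mk w (fun c => c.snd ≫ p) (fun c => ?_) (fun c => ?_)
    (fun c m h₁ h₂ => ?_))
  · have h₁ := congrArg (· ≫ pullback.fst p p) c.condition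
    simp only [Category.assoc, pullback.diagonal_fst, pullback.lift_fst, Category.comp_id] at h₁
    exact (Category.assoc _ _ _).trans h₁.symm
  · have h₁ := congrArg (· ≫ pullback.fst p p) c.condition
    have h₂ := congrArg (· ≫ pullback.snd p p) c.condition
    simp only [Category.assoc, pullback.diagonal_fst, pullback.diagonal_snd, pullback.lift_fst, pullback.lift_snd,
      Category.comp_id] at h₁ h₂
    exact (Category.assoc _ _ _).trans (h₁.symm.trans h₂)
  · rw [← h₂]; exact ((Category.assoc _ _ _).trans ((whisker_eq m he).trans (Category.comp_id _))).symm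

variable {S : Scheme.{u}} {B : Sp S} (G : GroupoidSp B)

/-- An arrow is determined by its quotient with another one being an identity. -/
theorem eq_of_inv_comp {T : Sp S} (α β : T ⟶ G.R) (h : (α ≫ G.i) ≫ G.s = β ≫ G.t)
    (h1 : pullback.lift (α ≫ G.i) β h ≫ G.c = α ≫ G.s ≫ G.e) (ht : α ≫ G.t = β ≫ G.t) : α = β := by
  have hαi : α ≫ G.s = (α ≫ G.i) ≫ G.t := by rw [Category.assoc, G.i_t]
  have e1 := G.assoc α (α ≫ G.i) β hαi h
  have e2 : pullback.lift (pullback.lift α (α ≫ G.i) hαi ≫ G.c) β ((G.comp_s _ _ _).trans h) ≫ G.c = β := by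
    refine Eq.trans ?_ (G.e_comp β)
    congr 1
    apply pullback.hom_ext
    · rw [pullback.lift_fst, pullback.lift_fst, G.comp_i, ← Category.assoc α, ← Category.assoc β, ht]
    · rw [pullback.lift_snd, pullback.lift_snd]
  have e3 : pullback.lift α (pullback.lift (α ≫ G.i) β h ≫ G.c) (hαi.trans (G.comp_t _ _ _).symm) ≫ G.c = α := by
    refine Eq.trans ?_ (G.comp_e α)
    congr 1
    apply pullback.hom_ext
    · rw [pullback.lift_fst, pullback.lift_fst]
    · rw [pullback.lift_snd, pullback.lift_snd, h1]
  exact (e3.symm.trans e1.symm).trans e2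

theorem stab_eq_t : pullback.fst G.j G.diag ≫ G.t = pullback.snd G.j G.diag := by
  have h := congrArg (· ≫ pullback.fst G.pU G.pU) (pullback.condition (f := G.j) (g := G.diag))
  simpa [Category.assoc, GroupoidSp.diag, pullback.lift_fst] using h

theorem eG_toU (eG : G.U ⟶ pullback G.j G.diag) (heG : eG ≫ pullback.fst G.j G.diag = G.e) :
    eG ≫ pullback.snd G.j G.diag = 𝟙 G.U := by
  rw [← stab_eq_t, ← Category.assoc, heG, G.e_t]

/-- The diagonal of `j` is a base change of the unit of the stabilizer. -/
theorem exists_isPullback_diagonal_j (eG : G.U ⟶ pullback G.j G.diag) (heG : eG ≫ pullback.fst G.j G.diag = G.e) :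
    ∃ d, IsPullback G.s (pullback.diagonal G.j) eG d := by
  have heU := eG_toU G eG heG
  let a := pullback.fst G.j G.j
  let b := pullback.snd G.j G.j
  have ht : a ≫ G.t = b ≫ G.t := by
    rw [← G.j_fst, ← Category.assoc, pullback.condition, Category.assoc]
  have hs : a ≫ G.s = b ≫ G.s := by
    rw [← G.j_snd, ← Category.assoc, pullback.condition, Category.assoc]
  have hab : (a ≫ G.i) ≫ G.s = b ≫ G.t := by rw [Category.assoc, G.i_s, ht]
  obtain ⟨d, hd₁, hd₂⟩ : ∃ d : pullback G.j G.j ⟶ pullback G.j G.diag,
      d ≫ pullback.fst G.j G.diag = pullback.lift (a ≫ G.i) b hab ≫ G.c ∧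
      d ≫ pullback.snd G.j G.diag = a ≫ G.s := by
    refine ⟨pullback.lift (pullback.lift (a ≫ G.i) b hab ≫ G.c) (a ≫ G.s) ?_, pullback.lift_fst _ _ _, pullback.lift_snd _ _ _⟩
    rw [GroupoidSp.diag]
    apply pullback.hom_ext
    · simp only [Category.assoc, GroupoidSp.j_fst, pullback.lift_fst, Category.comp_id]
      rw [← Category.assoc, G.comp_t, Category.assoc, G.i_t]
    · simp only [Category.assoc, GroupoidSp.j_snd, pullback.lift_snd, Category.comp_id]
      rw [← Category.assoc, G.comp_s, hs]
  have w : G.s ≫ eG = pullback.diagonal G.j ≫ d := by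
    apply pullback.hom_ext
    · rw [Category.assoc, heG, Category.assoc, hd₁, ← (G.i_comp (𝟙 G.R)).trans (Category.id_comp _),
        ← Category.assoc (pullback.diagonal G.j)]
      congr 1
      apply pullback.hom_ext <;> simp [a, b, pullback.lift_fst, pullback.lift_snd]
    · rw [Category.assoc, heU, Category.comp_id, Category.assoc, hd₂]
      simp [a]
  refine ⟨d, IsPullback.of_isLimit' ⟨w⟩ (PullbackCone.IsLimit.mk w (fun c => c.snd ≫ a) (fun c => ?_) (fun c => ?_)
    (fun c m h₁ h₂ => ?_))⟩
  · have h := congrArg (· ≫ pullback.snd G.j G.diag) c.condition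
    simp only [Category.assoc, hd₂, heU, Category.comp_id] at h
    rw [Category.assoc, ← h]
  · have h := congrArg (· ≫ pullback.fst G.j G.diag) c.condition
    have hu := congrArg (· ≫ pullback.snd G.j G.diag) c.condition
    simp only [Category.assoc, hd₁, hd₂, heU, heG, Category.comp_id] at h hu
    have key : c.snd ≫ a = c.snd ≫ b := by
      refine eq_of_inv_comp G _ _ (by simp [G.i_s, ht]) ?_ (by simp [ht])
      refine Eq.trans (?_ : _ = c.snd ≫ pullback.lift (a ≫ G.i) b hab ≫ G.c) (h.symm.trans (by simp [hu]))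
      refine Eq.trans ?_ (Category.assoc _ _ _)
      congr 1
      apply pullback.hom_ext <;> simp [pullback.lift_fst, pullback.lift_snd]
    apply pullback.hom_ext
    · simp [a]
    · simp only [Category.assoc, pullback.diagonal_snd, Category.comp_id]
      exact key
  · rw [← h₂]; simp [a]

end Groth.Agent.AlgSpBoot
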