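import Groth.Agent.AlgSpBoot.FreeAct
import Groth.Agent.AlgSpFormal.Mono
import Groth.Agent.FlatMorLib.FiberPoints
import Groth.Agent.FlatSlice.QuasiFinite

/-!
Properties tested after base change by the morphism itself.
-/

set_option autoImplicit false
set_option linter.style.haveILetI false
set_option backward.isDefEq.respectTransparency false

universe u

open CategoryTheory CategoryTheory.Limits AlgebraicGeometry MonoidalCategory CartesianMonoidalCategory

namespace Groth.Agent.AlgSpBoot

open _root_.AlgSp Groth.Agent.AlgSpc Groth.Agent.AlgSpLoc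

theorem lqf_of_self_baseChange {W V : Scheme.{u}} (f : W ⟶ V) [LocallyOfFiniteType f]
    [LocallyQuasiFinite (pullback.snd f f)] : LocallyQuasiFinite f := by
  refine FlatSlice.locallyQuasiFinite_of_forall f fun x => ?_
  have h := (FlatMorLib.quasiFiniteAt_baseChange_iff (IsPullback.of_hasPullback f f) (pullback.diagonal f x)).1
    (Scheme.Hom.quasiFiniteAt _ _)
  rwa [show pullback.fst f f (pullback.diagonal f x) = x by
    rw [← Scheme.Hom.comp_apply, pullback.diagonal_fst]; rfl] at h

theorem formallyUnramified_of_self_baseChange {W V : Scheme.{u}} (f : W ⟶ V) [LocallyOfFiniteType f]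
    [FormallyUnramified (pullback.snd f f)] : FormallyUnramified f := by
  let pr := pullback.snd f f
  let Γ : W ⟶ pullback (pullback.diagonal f ≫ pr) pr :=
    pullback.lift (𝟙 W) (pullback.diagonal f) (Category.id_comp _)
  haveI : IsOpenImmersion (pullback.diagonal pr) := inferInstance
  haveI : IsOpenImmersion Γ := MorphismProperty.of_isPullback (P := @IsOpenImmersion)
    (pullback_lift_diagonal_isPullback (pullback.diagonal f) pr).flip.flip ‹_›
  haveI : IsIso (pullback.diagonal f ≫ pr) := by rw [pullback.diagonal_snd]; infer_instance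
  haveI : IsOpenImmersion (pullback.snd (pullback.diagonal f ≫ pr) pr) := inferInstance
  haveI : IsOpenImmersion (pullback.diagonal f) := by
    rw [show pullback.diagonal f = Γ ≫ pullback.snd _ _ from (pullback.lift_snd _ _ _).symm]
    infer_instance
  infer_instance

variable {S : Scheme.{u}}

/-- A property of morphisms of spaces tested after base change by the morphism itself. -/
theorem locP_of_self_baseChange {P : MorphismProperty Scheme.{u}} [EtLoc P] [P.IsStableUnderBaseChange]
    (hpre : ∀ {X Y Z : Scheme.{u}} (e : X ⟶ Y) (f : Y ⟶ Z), Etale e → P f → P (e ≫ f))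
    (hP : ∀ {W V : Scheme.{u}} (f : W ⟶ V), LocallyOfFiniteType f → P (pullback.snd f f) → P f)
    {X B : Sp S} (hX : IsAlgSpace X) (hB : IsAlgSpace B) {p : X ⟶ B} (hp : LocP @LocallyOfFiniteType p)
    (h : LocP P (pullback.snd p p)) : LocP P p := by
  intro U V a b h' ha hb w
  let k := a ≫ p
  obtain ⟨W, w₁, w₂, sqW⟩ := exists_sq (hB.representable_from_yon k) b
  -- the self product of `U` over `B`
  obtain ⟨R, r₁, r₂, sqR⟩ := exists_sq (hB.representable_from_yon k) k
  have sqX : IsPullback (pullback.fst p k) (pullback.snd p k) p k := IsPullback.of_hasPullback p k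
  have hXk : LocP P (pullback.snd p k) := by
    have hXX : IsAlgSpace (pullback p p) := isAlgSpace_of_isPullback hX hB hX (IsPullback.of_hasPullback p p)
    exact locP_base_change hXX hX (IsAlgSpace.yon_obj U)
      (IsPullback.of_right (h₁₁ := pullback.lift (pullback.fst p k) (pullback.snd p k ≫ a)
          (by rw [pullback.condition, Category.assoc]))
        (by rw [pullback.lift_fst]; exact sqX) (pullback.lift_snd _ _ _) (IsPullback.of_hasPullback p p)) h
  let m : (yon S).obj R ⟶ pullback p k := sqX.lift (r₁ ≫ a) ((yon S).map r₂) (by rw [Category.assoc]; exact sqR.w)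
  have sqm : IsPullback r₁ m a (pullback.fst p k) :=
    IsPullback.of_bot (by rw [sqX.lift_snd]; exact sqR) (sqX.lift_fst _ _ _).symm sqX
  have hr₂ : P r₂.left := hXk m (𝟙 _) r₂ (repWith_of_isPullback sqm ha) (repWith_id _ U)
    (by simp [m])
  -- the base change to `V`
  have hw₁ : (yon S).map (pre w₁) = w₁ := map_pre _
  have sqself : P (pullback.snd w₂.left w₂.left) := by
    have big := ((IsPullback.of_hasPullback w₂ w₂).map (yon S)).paste_horiz sqW
    rw [← sqW.w, ← hw₁, ← Functor.map_comp, ← Category.assoc ((yon S).map (pre w₁))] at *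
    obtain ⟨l, hl₁, hl₂⟩ : ∃ l : pullback w₂ w₂ ⟶ R, (yon S).map l ≫ r₁ = (yon S).map (pullback.fst w₂ w₂ ≫ pre w₁) ∧
        l ≫ r₂ = pullback.snd w₂ w₂ ≫ pre w₁ :=
      ⟨pre (sqR.lift ((yon S).map (pullback.fst w₂ w₂ ≫ pre w₁)) ((yon S).map (pullback.snd w₂ w₂ ≫ pre w₁))
        (by simp only [Functor.map_comp, Category.assoc] at *; exact big.w)),
        by simp, (yon S).map_injective (by simp)⟩
    have sql : IsPullback l (pullback.snd w₂ w₂) r₂ (pre w₁) := by
      refine IsPullback.of_map (yon S) hl₂ (IsPullback.of_right ?_ (by rw [← Functor.map_comp, hl₂, Functor.map_comp]) sqR)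
      rw [hl₁]
      simpa only [Functor.map_comp, Category.assoc] using big
    have := MorphismProperty.of_isPullback (P := P) (FppfDescent.isPullback_forget sql) hr₂
    have sqf := FppfDescent.isPullback_forget (IsPullback.of_hasPullback w₂ w₂)
    rw [← sqf.isoPullback_inv_snd, P.cancel_left_of_respectsIso]
    exact this
  haveI : LocallyOfFiniteType w₂.left :=
    hp (w₁ ≫ a) b w₂ (repWith_comp (repWith_of_isPullback sqW.flip hb) ha) hb (by rw [Category.assoc]; exact sqW.w)
  let l := pre (sqW.lift (𝟙 _) ((yon S).map h') (by rw [Category.id_comp]; exact w))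
  have hl : Etale l.left := by
    refine etale_of_comp (repWith_id _ U) (repWith_of_isPullback sqW.flip hb) l ?_
    simp [l]
  rw [show h' = l ≫ w₂ from (yon S).map_injective (by simp [l]), Over.comp_left]
  exact hpre _ _ hl (hP _ inferInstance sqself)

variable {B : Sp S} {G X : Over B} [GrpObj G] (a : GAction G X)

/-- The second projection of the self product of a torsor has the properties of the group. -/
theorem locP_snd_of_torsor {P : MorphismProperty Scheme.{u}} [EtLoc P] [P.IsStableUnderBaseChange]
    (hB : IsAlgSpace B) (hG : IsAlgSpace G.left) (hX : IsAlgSpace X.left) (ha : a.IsPseudoTorsor)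
    (h : LocP P G.hom) : LocP P (pullback.snd X.hom X.hom) := by
  have hs : LocP P (snd G X).left :=
    locP_base_change hG hB hX (IsPullback.of_hasPullback G.hom X.hom : IsPullback (fst G X).left (snd G X).left G.hom X.hom) h
  haveI : IsIso (lift a.act (snd G X)) := ha
  let i := inv (lift a.act (snd G X))
  have hi : i ≫ snd G X = snd X X := by rw [IsIso.inv_comp_eq, lift_snd]
  haveI : IsIso i.left := inferInstanceAs (IsIso ((Over.forget B).map i))
  intro T W x y k hx hy w
  refine hs (x ≫ i.left) y k (repWith_comp hx (repWith_iso i.left)) hy ?_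
  rw [Category.assoc, ← Over.comp_left, hi]
  exact w

end Groth.Agent.AlgSpBoot
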